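import Cfsg.Agent.Lib.Lead.GLTwoThree.Flags
import Cfsg.Agent.Lib.Lead.CommGraph.Main

/-!
# The projective plane of order three and the identification with SL(3,3)
-/

set_option autoImplicit false
set_option maxRecDepth 20000
set_option linter.style.haveILetI false

open scoped Pointwise

namespace Cfsg.Agent.Lead.GLTwoThree

/-- labels of points -/
abbrev PLab : Type := Option (Fin 4 × Fin 3)

/-- labels of lines -/
abbrev LLab : Type := Fin 4 ⊕ (Fin 3 × Fin 3)

def coordClass (i : Fin 4) (x y : Fin 3) : Fin 3 :=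
  if i = 0 then y else if i = 1 then x else if i = 2 then x - y else x + y

/-- the four points of a line -/
def lineTab : LLab → Finset PLab
  | .inl i => {none, some (i, 0), some (i, 1), some (i, 2)}
  | .inr (x, y) => {some (0, coordClass 0 x y), some (1, coordClass 1 x y), some (2, coordClass 2 x y),
      some (3, coordClass 3 x y)}

def nodeList : List (PLab ⊕ LLab) :=
  [.inl none,
  .inl (some (0, 0)),
  .inl (some (0, 1)),
  .inl (some (0, 2)),
  .inl (some (1, 0)),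
  .inl (some (1, 1)),
  .inl (some (3, 0)),
  .inl (some (3, 1)),
  .inl (some (2, 1)),
  .inl (some (1, 2)),
  .inl (some (2, 0)),
  .inl (some (2, 2)),
  .inl (some (3, 2)),
  .inr (.inr (0, 0)),
  .inr (.inl 1),
  .inr (.inr (0, 2)),
  .inr (.inr (0, 1)),
  .inr (.inl 0),
  .inr (.inr (2, 0)),
  .inr (.inl 2),
  .inr (.inr (2, 2)),
  .inr (.inr (2, 1)),
  .inr (.inr (1, 0)),
  .inr (.inl 3),
  .inr (.inr (1, 2)),
  .inr (.inr (1, 1))]

theorem nodeList_len : nodeList.length = 26 := by decide +kernel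

def nodeLab (i : Fin 26) : PLab ⊕ LLab := nodeList[(i : ℕ)]'(by rw [nodeList_len]; exact i.2)

def labInc : PLab ⊕ LLab → PLab ⊕ LLab → Bool
  | .inl p, .inr l => decide (p ∈ lineTab l)
  | .inr l, .inl p => decide (p ∈ lineTab l)
  | _, _ => false

theorem node_check : (∀ i j : Fin 26, CommGraph.iAdj i j ↔ labInc (nodeLab i) (nodeLab j) = true) ∧
    (∀ i : Fin 26, CommGraph.isPt i = (nodeLab i).isLeft) ∧
    (∀ i j : Fin 26, nodeLab i = nodeLab j → i = j) ∧
    (∀ l l' : LLab, lineTab l = lineTab l' → l = l') ∧ (∀ l : LLab, (lineTab l).card = 4) := by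
  refine ⟨?_, ?_, ?_, ?_, ?_⟩ <;> decide +kernel

universe u

variable {G : Type u} [Group G] [Finite G] {t : G}

namespace Hyp

variable (S : Hyp G t)

/-- the point stabiliser -/
noncomputable def N1 : Subgroup G := Subgroup.normalizer (S.side1.A : Set G)

/-- the line stabiliser -/
noncomputable def N2 : Subgroup G := Subgroup.normalizer (S.side2.A : Set G)

theorem A1_ne_A2 : S.side1.A ≠ S.side2.A := fun e => S.v2_not_mem (e ▸ S.side2.w_mem)

theorem side_of_mem {w x : G} (hw : S.Side w) (hx : x ∈ hw.A) (hout : x ∉ Subgroup.zpowers S.u) : S.Side x := by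
  obtain ⟨n, -, hn⟩ := hw.out_mem_orb hx hout
  exact ⟨hw.A_le hx, hw.A_three hx, hout, isConj_iff.2 ⟨n, hn⟩⟩

theorem mem_both {x : G} (h1 : x ∈ S.side1.A) (h2 : x ∈ S.side2.A) : x ∈ Subgroup.zpowers S.u := by
  by_contra hout
  have hs := S.side_of_mem S.side1 h1 hout
  exact S.A1_ne_A2 ((S.side1.A_eq hs h1).symm.trans (S.side2.A_eq hs h2))

theorem card_inter : Nat.card ↥(S.N1 ⊓ S.N2) = 108 := by
  classical
  set H := S.N1 ⊓ S.N2
  set C := Subgroup.centralizer ({S.u} : Set G)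
  haveI := Fintype.ofFinite G
  have hC : C ≤ H := le_inf S.side1.cent_sub S.side2.cent_sub
  have hs : S.s ∈ H := ⟨S.side1.flip_norm S.flip_s, S.side2.flip_norm S.flip_s⟩
  have hi := (C.subgroupOf H).index_mul_card
  rw [Nat.card_congr (Subgroup.subgroupOfEquivOfLe hC).toEquiv, S.card_cent_u] at hi
  have h1 : (C.subgroupOf H).index ≠ 1 := fun e => by
    have := Subgroup.index_eq_one.1 e
    have hsC : S.s ∈ C := Subgroup.subgroupOf_eq_top.1 this hs
    have := Subgroup.mem_centralizer_singleton_iff.1 hsC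
    exact S.u_ne_inv (by rw [← S.flip_s.2.2, this, mul_inv_cancel_right])
  have h2 : (C.subgroupOf H).index ≤ 2 := by
    have hmap : ∀ h : H, (h : G) * S.u * (h : G)⁻¹ ∈ ({S.u, S.u⁻¹} : Finset G) := fun h => by
      have hm := S.mem_both ((Subgroup.mem_normalizer_iff.1 h.2.1 _).1 S.side1.u_mem)
        ((Subgroup.mem_normalizer_iff.1 h.2.2 _).1 S.side2.u_mem)
      rcases mem_zpowers_three S.u_three hm with e | e | e
      · exact absurd (by calc S.u = (h : G)⁻¹ * ((h : G) * S.u * (h : G)⁻¹) * (h : G) := by group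
                            _ = 1 := by rw [e]; group) S.u_ne
      · simp [e]
      · simp [e]
    have hinj : Function.Injective (fun q : ↥H ⧸ C.subgroupOf H =>
        (⟨(q.out : G) * S.u * (q.out : G)⁻¹, hmap q.out⟩ : ({S.u, S.u⁻¹} : Finset G))) := by
      intro a b h
      have h' : (a.out : G) * S.u * (a.out : G)⁻¹ = (b.out : G) * S.u * (b.out : G)⁻¹ := congrArg Subtype.val h
      rw [← QuotientGroup.out_eq' a, ← QuotientGroup.out_eq' b, QuotientGroup.eq, Subgroup.mem_subgroupOf,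
        Subgroup.mem_centralizer_singleton_iff]
      push_cast
      calc (a.out : G)⁻¹ * b.out * S.u = (a.out : G)⁻¹ * ((b.out : G) * S.u * (b.out : G)⁻¹) * b.out := by group
        _ = (a.out : G)⁻¹ * ((a.out : G) * S.u * (a.out : G)⁻¹) * b.out := by rw [h']
        _ = _ := by group
    have := Nat.card_le_card_of_injective _ hinj
    rw [Nat.card_eq_finsetCard] at this
    exact this.trans Finset.card_le_two
  have h0 : (C.subgroupOf H).index ≠ 0 := Subgroup.index_ne_zero_of_finite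
  rw [show (C.subgroupOf H).index = 2 by omega] at hi
  omega

theorem P_le_N1 : S.P ≤ S.N1 := S.side1.P_norm

theorem P_le_N2 : S.P ≤ S.N2 := S.side2.P_norm

theorem not_conj_A (h : G) : S.side1.A.map (MulAut.conj h).toMonoidHom ≠ S.side2.A := by
  intro he
  have hu : h * S.u * h⁻¹ ∈ S.side2.A := he ▸ ⟨S.u, S.side1.u_mem, rfl⟩
  have hne : h * S.u * h⁻¹ ≠ 1 := fun e => S.u_ne (by
    calc S.u = h⁻¹ * (h * S.u * h⁻¹) * h := by group
      _ = 1 := by rw [e]; group)
  obtain ⟨n, hn, e⟩ := S.side2.orb_eq hu hne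
  have hc : (n⁻¹ * h) * S.u = S.u * (n⁻¹ * h) := by
    calc n⁻¹ * h * S.u = n⁻¹ * (h * S.u * h⁻¹) * h := by group
      _ = n⁻¹ * (n * S.u * n⁻¹) * h := by rw [e]
      _ = _ := by group
  have h1 := S.side1.cent_norm hc
  apply S.A1_ne_A2
  refine Subgroup.eq_of_le_of_card_ge (fun a ha => ?_) (by rw [S.side1.card_A, S.side2.card_A])
  have hb := (Subgroup.mem_normalizer_iff.1 (Subgroup.inv_mem _ h1) a).1 ha
  have hb' : h * ((n⁻¹ * h)⁻¹ * a * (n⁻¹ * h)⁻¹⁻¹) * h⁻¹ ∈ S.side2.A := he ▸ ⟨_, hb, rfl⟩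
  refine (Subgroup.mem_normalizer_iff.1 hn a).2 ?_
  rwa [show h * ((n⁻¹ * h)⁻¹ * a * (n⁻¹ * h)⁻¹⁻¹) * h⁻¹ = n * a * n⁻¹ by group] at hb'

/-- `A₁` normalises no other conjugate of itself -/
theorem fixed_only {g : G} (hg : ∀ a ∈ S.side1.A, g⁻¹ * a * g ∈ S.N1) : g ∈ S.N1 := by
  classical
  haveI : Fact (Nat.Prime 3) := ⟨Nat.prime_three⟩
  set A := S.side1.A
  set B := A.map (MulAut.conj g⁻¹).toMonoidHom with hB
  have hBN : B ≤ Subgroup.normalizer (A : Set G) := by
    rintro _ ⟨a, ha, rfl⟩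
    show g⁻¹ * a * g⁻¹⁻¹ ∈ S.N1
    rw [inv_inv]; exact hg a ha
  have hBc : Nat.card B = 9 := by rw [hB, Subgroup.card_map_of_injective (MulAut.conj g⁻¹).injective, S.side1.card_A]
  by_cases heq : B = A
  · refine (inv_mem_iff (x := g)).1 (normalizer_of_finite fun a ha => ?_)
    have : g⁻¹ * a * g⁻¹⁻¹ ∈ B := ⟨a, ha, rfl⟩
    rwa [heq] at this
  exfalso
  have hpA : IsPGroup 3 A := IsPGroup.of_card (n := 2) (by rw [S.side1.card_A]; rfl)
  have hpB : IsPGroup 3 B := IsPGroup.of_card (n := 2) (by rw [hBc]; rfl)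
  obtain ⟨Q, hQ⟩ := (IsPGroup.to_sup_of_normal_right' hpB hpA hBN).exists_le_sylow
  let P' : Sylow 3 G := Sylow.ofCard S.P (by
    rw [S.card_P, S.card, Nat.factorization_def _ (by norm_num : Nat.Prime 3)]
    have : padicValNat 3 5616 = 3 := by
      rw [show (5616 : ℕ) = 3 ^ 3 * 208 by norm_num, padicValNat.mul (by norm_num) (by norm_num),
        padicValNat.prime_pow, padicValNat.eq_zero_of_not_dvd (by norm_num)]
    rw [this]; norm_num)
  obtain ⟨k, hk⟩ := MulAction.exists_smul_eq G Q P'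
  have hkP : ∀ x ∈ B ⊔ A, k * x * k⁻¹ ∈ S.P := fun x hx => by
    have : k * x * k⁻¹ ∈ ((P' : Sylow 3 G) : Subgroup G) := by rw [← hk]; exact ⟨x, hQ hx, rfl⟩
    exact this
  -- a conjugate of `A` inside `P` is one of the standard two
  have std : ∀ c : G, (∀ a ∈ A, c * a * c⁻¹ ∈ S.P) →
      A.map (MulAut.conj c).toMonoidHom = S.side1.A ∨ A.map (MulAut.conj c).toMonoidHom = S.side2.A := by
    intro c hc
    set X := A.map (MulAut.conj c).toMonoidHom with hX
    have hXc : Nat.card X = 9 := by rw [hX, Subgroup.card_map_of_injective (MulAut.conj c).injective, S.side1.card_A]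
    have hXP : X ≤ S.P := by rintro _ ⟨a, ha, rfl⟩; exact hc a ha
    have hXcomm : ∀ x ∈ X, ∀ y ∈ X, x * y = y * x := by
      rintro _ ⟨a, ha, rfl⟩ _ ⟨b, hb, rfl⟩
      rw [← map_mul, ← map_mul, S.side1.A_comm ha hb]
    have huX : S.u ∈ X := by
      by_contra hnu
      apply S.nonabelian
      have hf : ∀ p : X × Fin 3, (p.1 : G) * S.u ^ (p.2 : ℕ) ∈ S.P := fun p =>
        S.P.mul_mem (hXP p.1.2) (S.P.pow_mem S.u_mem _)
      have hinj : Function.Injective (fun p : X × Fin 3 => (⟨_, hf p⟩ : S.P)) := by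
        rintro ⟨x, i⟩ ⟨y, j⟩ h
        have h' : (x : G) * S.u ^ (i : ℕ) = (y : G) * S.u ^ (j : ℕ) := congrArg Subtype.val h
        have hm : S.u ^ (((i : ℕ) : ℤ) - (j : ℕ)) ∈ X := by
          rw [zpow_sub, zpow_natCast, zpow_natCast,
            show S.u ^ (i : ℕ) * (S.u ^ (j : ℕ))⁻¹ = (x : G)⁻¹ * ((x : G) * S.u ^ (i : ℕ)) * (S.u ^ (j : ℕ))⁻¹ by group,
            h', show (x : G)⁻¹ * ((y : G) * S.u ^ (j : ℕ)) * (S.u ^ (j : ℕ))⁻¹ = (x : G)⁻¹ * y by group]
          exact X.mul_mem (X.inv_mem x.2) y.2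
        have hij : i = j := by
          by_contra hne
          apply hnu
          have hd : ¬ (3 : ℤ) ∣ ((i : ℕ) : ℤ) - (j : ℕ) := by
            have := i.isLt; have := j.isLt
            have : (i : ℕ) ≠ j := fun e => hne (Fin.ext e)
            omega
          have := mem_zpowers_of_zpow S.u_three hd (Subgroup.mem_zpowers (S.u ^ (((i : ℕ) : ℤ) - (j : ℕ))))
          exact Subgroup.zpowers_le.2 hm this
        subst hij
        exact Prod.ext (Subtype.ext (mul_right_cancel h')) rfl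
      haveI := Fintype.ofFinite X
      haveI := Fintype.ofFinite S.P
      have hsurj := ((Fintype.bijective_iff_injective_and_card _).2 ⟨hinj, by
        rw [← Nat.card_eq_fintype_card, ← Nat.card_eq_fintype_card, Nat.card_prod, hXc, Nat.card_fin, S.card_P]⟩).2
      intro a ha b hb
      obtain ⟨⟨x, i⟩, hx⟩ := hsurj ⟨a, ha⟩
      obtain ⟨⟨y, j⟩, hy⟩ := hsurj ⟨b, hb⟩
      rw [← show (x : G) * S.u ^ (i : ℕ) = a from congrArg Subtype.val hx,
        ← show (y : G) * S.u ^ (j : ℕ) = b from congrArg Subtype.val hy]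
      have cu : ∀ z ∈ X, ∀ m : ℕ, Commute z (S.u ^ m) := fun z hz m =>
        (show Commute z S.u from S.P_comm (hXP hz)).pow_right m
      exact ((show Commute (x : G) y from hXcomm _ x.2 _ y.2).mul_right (cu _ x.2 _)).mul_left
        ((cu _ y.2 _).symm.mul_right (Commute.pow_pow_self _ _ _)) |>.eq
    obtain ⟨w, hwX, hwu⟩ : ∃ w ∈ X, w ∉ Subgroup.zpowers S.u := by
      by_contra hno
      push Not at hno
      have := Subgroup.card_le_of_le (H := X) (K := Subgroup.zpowers S.u) hno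
      rw [hXc, Nat.card_zpowers, S.orderOf_u] at this
      omega
    have hside : S.Side w := by
      obtain ⟨a, ha, e⟩ := hwX
      have ha1 : a ≠ 1 := fun h => hwu (by rw [← e, h, map_one]; exact Subgroup.one_mem _)
      obtain ⟨n, -, hn⟩ := S.side1.orb_eq ha ha1
      refine ⟨hXP ⟨a, ha, e⟩, ?_, hwu, isConj_iff.2 ⟨c * n, ?_⟩⟩
      · rw [← e, ← map_pow, S.side1.A_three ha, map_one]
      · rw [← e, show c * n * S.u * (c * n)⁻¹ = c * (n * S.u * n⁻¹) * c⁻¹ by group, hn]; rfl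
    have hAX : hside.A = X := by
      refine Subgroup.eq_of_le_of_card_ge ?_ (by rw [hXc, hside.card_A])
      rintro x ⟨i, j, rfl⟩
      exact X.mul_mem (X.zpow_mem huX i) (X.zpow_mem hwX j)
    rw [← hAX]
    exact hside.cases
  have e1 := std k fun a ha => hkP a (Subgroup.mem_sup_right ha)
  have e2 := std (k * g⁻¹) fun a ha => by
    have := hkP (g⁻¹ * a * g) (Subgroup.mem_sup_left ⟨a, ha, by show g⁻¹ * a * g⁻¹⁻¹ = _; rw [inv_inv]⟩)
    rwa [show k * g⁻¹ * a * (k * g⁻¹)⁻¹ = k * (g⁻¹ * a * g) * k⁻¹ by group]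
  have hcomp : A.map (MulAut.conj (k * g⁻¹)).toMonoidHom = B.map (MulAut.conj k).toMonoidHom := by
    rw [hB, Subgroup.map_map]
    congr 1
    ext x
    simp [mul_assoc]
  have key : ∀ c d : G, A.map (MulAut.conj c).toMonoidHom = S.side1.A →
      A.map (MulAut.conj d).toMonoidHom = S.side2.A → False := by
    intro c d hc hd
    refine S.not_conj_A (d * c⁻¹) ?_
    rw [← hd]
    conv_lhs => rw [← hc, Subgroup.map_map]
    congr 1
    ext x
    simp [mul_assoc]
  rcases e1 with a1 | a1 <;> rcases e2 with a2 | a2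
  · exact heq (Subgroup.map_injective (MulAut.conj k).injective (by rw [← hcomp, a2]; exact a1.symm))
  · exact key _ _ a1 a2
  · exact key _ _ a2 a1
  · exact heq (Subgroup.map_injective (MulAut.conj k).injective (by rw [← hcomp, a2]; exact a1.symm))

/-- the points -/
abbrev Pt : Type u := G ⧸ S.N1

/-- the base point -/
noncomputable def p0 : S.Pt := QuotientGroup.mk (1 : G)

/-- the base line -/
noncomputable def ell : Set S.Pt := {p | ∃ n ∈ S.N2, n • S.p0 = p}

theorem smul_p0 (g : G) : g • S.p0 = QuotientGroup.mk g := by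
  show (QuotientGroup.mk (g * 1) : S.Pt) = _
  rw [mul_one]

theorem fix_p0 {g : G} : g • S.p0 = S.p0 ↔ g ∈ S.N1 := by
  rw [smul_p0, p0, QuotientGroup.eq]
  simp

theorem card_Pt : Nat.card S.Pt = 13 := by
  have hi := S.N1.index_mul_card
  rw [N1, S.side1.card_normalizer, S.card, Subgroup.index_eq_card] at hi
  rw [Pt, N1]
  omega

theorem card_ell : Nat.card S.ell = 4 := by
  classical
  set H := S.N1.subgroupOf S.N2
  let f : ↥S.N2 ⧸ H → S.ell := fun q => ⟨(q.out : G) • S.p0, _, q.out.2, rfl⟩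
  have hf : Function.Bijective f := by
    refine ⟨fun a b h => ?_, fun p => ?_⟩
    · have h' : (a.out : G) • S.p0 = (b.out : G) • S.p0 := congrArg Subtype.val h
      rw [smul_p0, smul_p0, QuotientGroup.eq] at h'
      rw [← QuotientGroup.out_eq' a, ← QuotientGroup.out_eq' b, QuotientGroup.eq]
      exact Subgroup.mem_subgroupOf.2 (by push_cast; exact h')
    · obtain ⟨p, n, hn, rfl⟩ := p
      refine ⟨QuotientGroup.mk ⟨n, hn⟩, Subtype.ext ?_⟩
      show _ • S.p0 = n • S.p0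
      rw [smul_p0, smul_p0, QuotientGroup.eq]
      simpa using Subgroup.mem_subgroupOf.1
        (QuotientGroup.eq.1 (QuotientGroup.out_eq' (QuotientGroup.mk (s := H) (⟨n, hn⟩ : S.N2))))
  rw [← Nat.card_congr (Equiv.ofBijective f hf), ← Subgroup.index_eq_card]
  have hi := H.index_mul_card
  have hH : Nat.card H = 108 := by
    rw [← S.card_inter, ← Nat.card_congr (Subgroup.subgroupOfEquivOfLe (inf_le_right : S.N1 ⊓ S.N2 ≤ S.N2)).toEquiv,
      Subgroup.inf_subgroupOf_right]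
  have hN2 : Nat.card S.N2 = 432 := S.side2.card_normalizer
  rw [hH, hN2] at hi
  omega

theorem p0_mem : S.p0 ∈ S.ell := ⟨1, Subgroup.one_mem _, one_smul _ _⟩

theorem smul_ell {n : G} (hn : n ∈ S.N2) : n • S.ell = S.ell := by
  ext p
  rw [Set.mem_smul_set]
  constructor
  · rintro ⟨_, ⟨m, hm, rfl⟩, rfl⟩
    exact ⟨n * m, Subgroup.mul_mem _ hn hm, mul_smul _ _ _⟩
  · rintro ⟨m, hm, rfl⟩
    exact ⟨(n⁻¹ * m) • S.p0, ⟨_, Subgroup.mul_mem _ (Subgroup.inv_mem _ hn) hm, rfl⟩, by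
      rw [← mul_smul, mul_inv_cancel_left]⟩

theorem A2_fix {a : G} (ha : a ∈ S.side2.A) {p : S.Pt} (hp : p ∈ S.ell) : a • p = p := by
  obtain ⟨n, hn, rfl⟩ := hp
  rw [← mul_smul, smul_p0, smul_p0, QuotientGroup.eq]
  refine S.P_le_N1 ?_
  have h : n⁻¹ * a⁻¹ * n ∈ S.side2.A := by
    have := (Subgroup.mem_normalizer_iff.1 (Subgroup.inv_mem _ hn) a⁻¹).1 (Subgroup.inv_mem _ ha)
    rwa [inv_inv] at this
  have := S.side2.A_le h
  rwa [mul_inv_rev]

theorem A1_fix_only {p : S.Pt} (h : ∀ a ∈ S.side1.A, a • p = p) : p = S.p0 := by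
  obtain ⟨g, rfl⟩ := QuotientGroup.mk_surjective p
  rw [← smul_p0, fix_p0]
  refine S.fixed_only fun a ha => ?_
  have := h a⁻¹ (Subgroup.inv_mem _ ha)
  rw [← smul_p0, ← mul_smul, smul_p0, smul_p0, QuotientGroup.eq] at this
  rwa [mul_inv_rev, inv_inv] at this

theorem stab_ell {a : G} (ha : a ∈ S.side1.A) {p : S.Pt} (hp : p ∈ S.ell) (hne : p ≠ S.p0) (hfix : a • p = p) :
    a ∈ Subgroup.zpowers S.u := by
  obtain ⟨i, j, rfl⟩ := ha
  by_cases hj : (3 : ℤ) ∣ j
  · rw [pow_three_zpow S.side1.three, Int.emod_eq_zero_of_dvd hj, zpow_zero, mul_one]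
    exact Subgroup.zpow_mem_zpowers _ _
  exfalso
  have hu : ∀ m : ℤ, S.u ^ m • p = p := fun m => S.A2_fix (S.side2.A.zpow_mem S.side2.u_mem m) hp
  have hvj : S.v1 ^ j • p = p := by
    have h1 := hfix
    rw [mul_smul] at h1
    calc S.v1 ^ j • p = S.u ^ (-i) • S.u ^ i • S.v1 ^ j • p := by rw [← mul_smul, ← mul_smul]; group
      _ = p := by rw [h1, hu]
  have hv : S.v1 ∈ MulAction.stabilizer G p := by
    refine Subgroup.zpowers_le.2 (show S.v1 ^ j ∈ MulAction.stabilizer G p from hvj) ?_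
    exact mem_zpowers_of_zpow S.side1.three hj (Subgroup.mem_zpowers _)
  refine hne (S.A1_fix_only fun a ha => ?_)
  obtain ⟨k, l, rfl⟩ := ha
  exact (MulAction.stabilizer G p).mul_mem (hu k) (Subgroup.zpow_mem _ hv l)

/-- being a line -/
def IsLine (L : Set S.Pt) : Prop := ∃ g : G, L = g • S.ell

theorem line_card {L : Set S.Pt} (hL : S.IsLine L) : Nat.card L = 4 := by
  obtain ⟨g, rfl⟩ := hL
  rw [← S.card_ell]
  exact (Nat.card_congr ((MulAction.toPerm g).subtypeEquiv (fun p => by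
    show p ∈ S.ell ↔ g • p ∈ g • S.ell
    rw [Set.smul_mem_smul_set_iff]))).symm

theorem line_smul (g : G) {L : Set S.Pt} (hL : S.IsLine L) : S.IsLine (g • L) := by
  obtain ⟨h, rfl⟩ := hL
  exact ⟨g * h, (mul_smul g h _).symm⟩

theorem line_p0 {L : Set S.Pt} (hL : S.IsLine L) (h0 : S.p0 ∈ L) : ∃ n ∈ S.N1, L = n • S.ell := by
  obtain ⟨g, rfl⟩ := hL
  obtain ⟨_, ⟨m, hm, rfl⟩, hgm⟩ := Set.mem_smul_set.1 h0
  rw [← mul_smul] at hgm
  exact ⟨g * m, S.fix_p0.1 hgm, by rw [mul_smul, S.smul_ell hm]⟩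

theorem kernel_eq {n n' : G} (hn : n ∈ S.N1) (hn' : n' ∈ S.N1) {q : S.Pt} (hq : q ∈ n • S.ell)
    (hq' : q ∈ n' • S.ell) (hne : q ≠ S.p0) :
    n' * S.u * n'⁻¹ ∈ Subgroup.zpowers (n * S.u * n⁻¹) ∧ n • S.ell = n' • S.ell := by
  obtain ⟨q0, hq0, rfl⟩ := Set.mem_smul_set.1 hq
  obtain ⟨q1, hq1, hq1'⟩ := Set.mem_smul_set.1 hq'
  have hm : n⁻¹ * n' ∈ S.N1 := Subgroup.mul_mem _ (Subgroup.inv_mem _ hn) hn'
  have ha : (n⁻¹ * n') * S.u * (n⁻¹ * n')⁻¹ ∈ S.side1.A := (Subgroup.mem_normalizer_iff.1 hm _).1 S.side1.u_mem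
  have hfix : ((n⁻¹ * n') * S.u * (n⁻¹ * n')⁻¹) • q0 = q0 := by
    have : (n' * S.u * n'⁻¹) • n • q0 = n • q0 := by
      rw [← hq1', mul_smul, mul_smul, inv_smul_smul, S.A2_fix S.side2.u_mem hq1]
    calc ((n⁻¹ * n') * S.u * (n⁻¹ * n')⁻¹) • q0 = n⁻¹ • (n' * S.u * n'⁻¹) • n • q0 := by
          rw [← mul_smul, ← mul_smul]; group
      _ = q0 := by rw [this, inv_smul_smul]
  have hne0 : q0 ≠ S.p0 := fun e => hne (by rw [e, S.fix_p0.2 hn])
  have hz := S.stab_ell ha hq0 hne0 hfix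
  refine ⟨?_, ?_⟩
  · obtain ⟨i, hi⟩ := Subgroup.mem_zpowers_iff.1 hz
    exact Subgroup.mem_zpowers_iff.2 ⟨i, by rw [conj_zpow, hi]; group⟩
  · have hm2 : n⁻¹ * n' ∈ S.N2 := by
      rcases mem_zpowers_three S.u_three hz with e | e | e
      · exact absurd (by calc S.u = (n⁻¹ * n')⁻¹ * ((n⁻¹ * n') * S.u * (n⁻¹ * n')⁻¹) * (n⁻¹ * n') := by group
                            _ = 1 := by rw [e]; group) S.u_ne
      · exact S.side2.cent_norm (mul_inv_eq_iff_eq_mul.1 e)
      · have h := S.side2.cent_norm (S.flip_cases e S.flip_s)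
        have := Subgroup.mul_mem _ h (Subgroup.inv_mem _ (S.side2.flip_norm S.flip_s))
        rwa [mul_inv_cancel_right] at this
    calc n • S.ell = n • (n⁻¹ * n') • S.ell := by rw [S.smul_ell hm2]
      _ = n' • S.ell := by rw [← mul_smul, mul_inv_cancel_left]

theorem exists_to_p0 (p : S.Pt) : ∃ g : G, g • p = S.p0 := by
  obtain ⟨g, rfl⟩ := QuotientGroup.mk_surjective p
  exact ⟨g⁻¹, by rw [← smul_p0, inv_smul_smul]⟩

theorem line_unique {L L' : Set S.Pt} (hL : S.IsLine L) (hL' : S.IsLine L') {p q : S.Pt} (hpq : p ≠ q)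
    (h1 : p ∈ L) (h2 : q ∈ L) (h3 : p ∈ L') (h4 : q ∈ L') : L = L' := by
  obtain ⟨g, hg⟩ := S.exists_to_p0 p
  have m : ∀ {x : S.Pt} {M : Set S.Pt}, x ∈ M → g • x ∈ g • M := fun h => Set.smul_mem_smul_set h
  obtain ⟨n, hn, e⟩ := S.line_p0 (S.line_smul g hL) (hg ▸ m h1)
  obtain ⟨n', hn', e'⟩ := S.line_p0 (S.line_smul g hL') (hg ▸ m h3)
  have hne : g • q ≠ S.p0 := fun h => hpq (MulAction.injective g (hg.trans h.symm))
  have := (S.kernel_eq hn hn' (e ▸ m h2) (e' ▸ m h4) hne).2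
  rw [← e, ← e'] at this
  exact smul_left_cancel g this

/-- the four elements -/
noncomputable def kk' : Fin 4 → G := ![S.u, S.v1, S.u * S.v1, S.u * S.v1 ^ 2]

theorem kk'_coord : ∀ i : Fin 4, S.kk' i = S.u ^ ((![1, 0, 1, 1] : Fin 4 → ℤ) i) *
    S.v1 ^ ((![0, 1, 1, 2] : Fin 4 → ℤ) i) := by
  intro i
  fin_cases i <;> simp [kk'] <;> rfl

theorem coord_zero {i j : ℤ} (h : S.u ^ i * S.v1 ^ j = 1) : 3 ∣ i ∧ 3 ∣ j :=
  pair_inj (show Commute S.u S.v1 from (S.P_comm S.side1.mem).symm) S.u_three S.side1.three S.u_ne S.side1.out h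

theorem coord_pow {x y i j m : ℤ} (h : (S.u ^ x * S.v1 ^ y) ^ m = S.u ^ i * S.v1 ^ j) :
    3 ∣ x * m - i ∧ 3 ∣ y * m - j := by
  have c : Commute S.u S.v1 := (S.P_comm S.side1.mem).symm
  rw [(c.zpow_zpow x y).mul_zpow, ← zpow_mul, ← zpow_mul] at h
  refine S.coord_zero ?_
  rw [zpow_sub, zpow_sub]
  calc S.u ^ (x * m) * (S.u ^ i)⁻¹ * (S.v1 ^ (y * m) * (S.v1 ^ j)⁻¹)
      = S.u ^ (x * m) * ((S.u ^ i)⁻¹ * S.v1 ^ (y * m)) * (S.v1 ^ j)⁻¹ := by group
    _ = S.u ^ (x * m) * S.v1 ^ (y * m) * ((S.u ^ i)⁻¹ * (S.v1 ^ j)⁻¹) := by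
      rw [((c.zpow_zpow i (y * m)).inv_left).eq]; group
    _ = 1 := by rw [h, ((c.zpow_zpow i j).inv_inv).eq]; group

theorem kk'_mem (i : Fin 4) : S.kk' i ∈ S.side1.A := ⟨_, _, S.kk'_coord i⟩

theorem kk'_ne (i : Fin 4) : S.kk' i ≠ 1 := fun h => by
  rw [kk'_coord] at h
  obtain ⟨a, b⟩ := S.coord_zero h
  revert a b
  fin_cases i <;> simp

theorem kk'_inj {i j : Fin 4} (h : S.kk' j ∈ Subgroup.zpowers (S.kk' i)) : i = j := by
  obtain ⟨m, hm⟩ := Subgroup.mem_zpowers_iff.1 h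
  rw [kk'_coord, kk'_coord] at hm
  obtain ⟨a, b⟩ := S.coord_pow hm
  revert a b
  fin_cases i <;> fin_cases j <;> simp <;> omega

/-- the four lines at the base point -/
noncomputable def nsel (i : Fin 4) : G := (S.side1.orb_eq (S.kk'_mem i) (S.kk'_ne i)).choose

theorem nsel_spec (i : Fin 4) : nsel S i ∈ S.N1 ∧ nsel S i * S.u * (nsel S i)⁻¹ = S.kk' i :=
  (S.side1.orb_eq (S.kk'_mem i) (S.kk'_ne i)).choose_spec

/-- a line at the base point -/
noncomputable def Lp (i : Fin 4) : Set S.Pt := S.nsel i • S.ell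

theorem Lp_line (i : Fin 4) : S.IsLine (S.Lp i) := ⟨_, rfl⟩

theorem p0_Lp (i : Fin 4) : S.p0 ∈ S.Lp i :=
  Set.mem_smul_set.2 ⟨S.p0, S.p0_mem, S.fix_p0.2 (S.nsel_spec i).1⟩

theorem Lp_eq {i j : Fin 4} {q : S.Pt} (hne : q ≠ S.p0) (hi : q ∈ S.Lp i) (hj : q ∈ S.Lp j) : i = j := by
  have := (S.kernel_eq (S.nsel_spec i).1 (S.nsel_spec j).1 hi hj hne).1
  rw [(S.nsel_spec i).2, (S.nsel_spec j).2] at this
  exact S.kk'_inj this

theorem cover {q : S.Pt} (hne : q ≠ S.p0) : ∃ i, q ∈ S.Lp i := by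
  classical
  haveI := Fintype.ofFinite S.Pt
  have hc : ∀ i, ((S.Lp i).toFinset.erase S.p0).card = 3 := fun i => by
    rw [Finset.card_erase_of_mem (by simp [S.p0_Lp i]), ← Nat.card_eq_card_toFinset, S.line_card (S.Lp_line i)]
  have hu : Finset.univ.biUnion (fun i => (S.Lp i).toFinset.erase S.p0) = Finset.univ.erase S.p0 := by
    refine Finset.eq_of_subset_of_card_le (fun x hx => ?_) ?_
    · obtain ⟨i, -, hi⟩ := Finset.mem_biUnion.1 hx
      exact Finset.mem_erase.2 ⟨(Finset.mem_erase.1 hi).1, Finset.mem_univ _⟩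
    · rw [Finset.card_erase_of_mem (Finset.mem_univ _), Finset.card_univ, ← Nat.card_eq_fintype_card, S.card_Pt,
        Finset.card_biUnion]
      · simp [hc]
      · intro i _ j _ hij
        refine Finset.disjoint_left.2 fun x hx hx' => hij ?_
        simp only [Finset.mem_erase, Set.mem_toFinset] at hx hx'
        exact S.Lp_eq hx.1 hx.2 hx'.2
  have : q ∈ Finset.univ.erase S.p0 := Finset.mem_erase.2 ⟨hne, Finset.mem_univ _⟩
  rw [← hu] at this
  obtain ⟨i, -, hi⟩ := Finset.mem_biUnion.1 this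
  exact ⟨i, by simpa using (Finset.mem_erase.1 hi).2⟩

theorem exists_line {p q : S.Pt} (hpq : p ≠ q) : ∃ L, S.IsLine L ∧ p ∈ L ∧ q ∈ L := by
  obtain ⟨g, hg⟩ := S.exists_to_p0 p
  obtain ⟨i, hi⟩ := S.cover (q := g • q) (fun h => hpq (MulAction.injective g (hg.trans h.symm)))
  refine ⟨g⁻¹ • S.Lp i, S.line_smul _ (S.Lp_line i), ?_, ?_⟩
  · rw [Set.mem_inv_smul_set_iff, hg]; exact S.p0_Lp i
  · rw [Set.mem_inv_smul_set_iff]; exact hi

theorem meets {M : Set S.Pt} (hM : S.IsLine M) (h0 : S.p0 ∉ M) (i : Fin 4) : ∃ q, q ≠ S.p0 ∧ q ∈ M ∧ q ∈ S.Lp i := by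
  classical
  haveI := Fintype.ofFinite S.Pt
  choose f hf using fun x : M => S.cover (q := (x : S.Pt)) (fun e => h0 (e ▸ x.2))
  have hinj : Function.Injective f := by
    intro a b e
    by_contra hne
    have := S.line_unique hM (S.Lp_line (f a)) (fun h => hne (Subtype.ext h)) a.2 b.2 (hf a) (e ▸ hf b)
    exact h0 (this ▸ S.p0_Lp _)
  obtain ⟨x, hx⟩ := ((Fintype.bijective_iff_injective_and_card f).2 ⟨hinj, by
    rw [← Nat.card_eq_fintype_card, ← Nat.card_eq_fintype_card, S.line_card hM, Nat.card_fin]⟩).2 i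
  exact ⟨x, fun e => h0 (e ▸ x.2), x.2, hx ▸ hf x⟩

theorem exists_avoid : ∃ M, S.IsLine M ∧ S.p0 ∉ M := by
  classical
  haveI := Fintype.ofFinite S.Pt
  have get : ∀ i, ∃ q, q ≠ S.p0 ∧ q ∈ S.Lp i := by
    intro i
    have h : ((S.Lp i).toFinset.erase S.p0).Nonempty := by
      rw [← Finset.card_pos, Finset.card_erase_of_mem (by simp [S.p0_Lp i]), ← Nat.card_eq_card_toFinset,
        S.line_card (S.Lp_line i)]
      norm_num
    obtain ⟨q, hq⟩ := h
    exact ⟨q, (Finset.mem_erase.1 hq).1, by simpa using (Finset.mem_erase.1 hq).2⟩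
  obtain ⟨a, ha, ha'⟩ := get 0
  obtain ⟨b, hb, hb'⟩ := get 1
  have hab : a ≠ b := fun e => absurd (S.Lp_eq ha ha' (e ▸ hb')) (by decide)
  obtain ⟨M, hM, hMa, hMb⟩ := S.exists_line hab
  refine ⟨M, hM, fun h0 => ?_⟩
  have e0 := S.line_unique hM (S.Lp_line 0) (Ne.symm ha) h0 hMa (S.p0_Lp 0) ha'
  exact absurd (S.Lp_eq hb (e0 ▸ hMb) hb') (by decide)

/-- a line avoiding the base point -/
noncomputable def m0 : Set S.Pt := S.exists_avoid.choose

/-- its points -/
noncomputable def qq (i : Fin 4) : S.Pt := (S.meets S.exists_avoid.choose_spec.1 S.exists_avoid.choose_spec.2 i).choose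

theorem qq_spec (i : Fin 4) : S.qq i ≠ S.p0 ∧ S.qq i ∈ S.m0 ∧ S.qq i ∈ S.Lp i :=
  (S.meets S.exists_avoid.choose_spec.1 S.exists_avoid.choose_spec.2 i).choose_spec

theorem trans_Lp {a : G} (ha : a ∈ S.side1.A) (i : Fin 4) : a • S.Lp i = S.Lp i := by
  have hn := (S.nsel_spec i).1
  have : (S.nsel i)⁻¹ * a * S.nsel i ∈ S.side1.A := by
    have := (Subgroup.mem_normalizer_iff.1 (Subgroup.inv_mem _ hn) a).1 ha
    rwa [inv_inv] at this
  calc a • S.Lp i = S.nsel i • ((S.nsel i)⁻¹ * a * S.nsel i) • S.ell := by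
        rw [Lp, ← mul_smul, ← mul_smul]; group
    _ = S.Lp i := by rw [S.smul_ell (S.P_le_N2 (S.side1.A_le this))]; rfl

theorem kk'_fix (i : Fin 4) (m : ℤ) {q : S.Pt} (hq : q ∈ S.Lp i) : (S.kk' i) ^ m • q = q := by
  obtain ⟨x, hx, rfl⟩ := Set.mem_smul_set.1 hq
  rw [← (S.nsel_spec i).2, conj_zpow, mul_smul, mul_smul, inv_smul_smul,
    S.A2_fix (S.side2.A.zpow_mem S.side2.u_mem m) hx]

theorem fix_kk' {a : G} (ha : a ∈ S.side1.A) (i : Fin 4) {q : S.Pt} (hne : q ≠ S.p0) (hq : q ∈ S.Lp i)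
    (hfix : a • q = q) : a ∈ Subgroup.zpowers (S.kk' i) := by
  obtain ⟨x, hx, rfl⟩ := Set.mem_smul_set.1 hq
  have hn := (S.nsel_spec i).1
  have ha' : (S.nsel i)⁻¹ * a * S.nsel i ∈ S.side1.A := by
    have := (Subgroup.mem_normalizer_iff.1 (Subgroup.inv_mem _ hn) a).1 ha
    rwa [inv_inv] at this
  have hx0 : x ≠ S.p0 := fun e => hne (by rw [e, S.fix_p0.2 hn])
  obtain ⟨m, hm⟩ := Subgroup.mem_zpowers_iff.1 (S.stab_ell ha' hx hx0 (by rw [mul_smul, mul_smul, hfix, inv_smul_smul]))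
  exact Subgroup.mem_zpowers_iff.2 ⟨m, by rw [← (S.nsel_spec i).2, conj_zpow, hm]; group⟩

/-- translations -/
noncomputable def tr (x y : ℤ) : G := S.u ^ x * S.v1 ^ y

theorem tr_mem (x y : ℤ) : S.tr x y ∈ S.side1.A := ⟨x, y, rfl⟩

/-- the point with a given label -/
noncomputable def pt : PLab → S.Pt
  | none => S.p0
  | some (i, c) => (if i = 0 then S.tr 0 (c : ℕ) else S.tr (c : ℕ) 0) • S.qq i

theorem pt_Lp (i : Fin 4) (c : Fin 3) : S.pt (some (i, c)) ∈ S.Lp i ∧ S.pt (some (i, c)) ≠ S.p0 := by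
  simp only [pt]
  set a := if i = 0 then S.tr 0 (c : ℕ) else S.tr (c : ℕ) 0
  have ha : a ∈ S.side1.A := by simp only [a]; split_ifs <;> exact S.tr_mem _ _
  refine ⟨?_, fun h => (S.qq_spec i).1 ?_⟩
  · rw [← S.trans_Lp ha i]; exact Set.smul_mem_smul_set (S.qq_spec i).2.2
  · rw [← inv_smul_smul a (S.qq i), h, S.fix_p0.2 (Subgroup.inv_mem _ (S.P_le_N1 (S.side1.A_le ha)))]

theorem tr_pt (i : Fin 4) (x y : Fin 3) :
    S.tr (x : ℕ) (y : ℕ) • S.qq i = S.pt (some (i, coordClass i x y)) := by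
  have c : Commute S.u S.v1 := (S.P_comm S.side1.mem).symm
  have key : ∀ (p q m : ℤ), p + m * (![1, 0, 1, 1] : Fin 4 → ℤ) i ≡ (x : ℕ) [ZMOD 3] →
      q + m * (![0, 1, 1, 2] : Fin 4 → ℤ) i ≡ (y : ℕ) [ZMOD 3] →
      S.tr (x : ℕ) (y : ℕ) • S.qq i = S.tr p q • S.qq i := by
    intro p q m h1 h2
    have e : S.tr (x : ℕ) (y : ℕ) = S.tr p q * (S.kk' i) ^ m := by
      rw [kk'_coord, (c.zpow_zpow _ _).mul_zpow, ← zpow_mul, ← zpow_mul, tr, tr,
        pow_three_zpow S.u_three ((x : ℕ) : ℤ), pow_three_zpow S.side1.three ((y : ℕ) : ℤ), ← h1, ← h2,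
        ← pow_three_zpow S.u_three, ← pow_three_zpow S.side1.three, zpow_add, zpow_add, mul_comm m, mul_comm m,
        ← mul_assoc, ← mul_assoc, mul_assoc (S.u ^ p) (S.v1 ^ q), (c.zpow_zpow _ q).symm.eq]
      group
    rw [e, mul_smul, S.kk'_fix i m (S.qq_spec i).2.2]
  have ix := x.isLt; have iy := y.isLt
  simp only [pt]
  fin_cases i
  · refine key 0 _ ((x : ℕ) : ℤ) ?_ ?_ <;> simp [coordClass, Int.ModEq]
  · refine key _ 0 ((y : ℕ) : ℤ) ?_ ?_ <;> simp [coordClass, Int.ModEq]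
  · refine key _ 0 ((y : ℕ) : ℤ) ?_ ?_ <;> simp [coordClass, Int.ModEq, Fin.val_sub] <;> omega
  · refine key _ 0 (2 * ((y : ℕ) : ℤ)) ?_ ?_ <;> simp [coordClass, Int.ModEq, Fin.val_add] <;> omega

theorem pt_inj : Function.Injective S.pt := by
  rintro (_ | ⟨i, a⟩) (_ | ⟨j, b⟩) h
  · rfl
  · exact absurd h.symm (S.pt_Lp j b).2
  · exact absurd h (S.pt_Lp i a).2
  · have hij : i = j := S.Lp_eq (S.pt_Lp i a).2 (S.pt_Lp i a).1 (h ▸ (S.pt_Lp j b).1)
    subst hij
    simp only [pt] at h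
    by_cases hab : a = b
    · rw [hab]
    exfalso
    set p := if i = 0 then S.tr 0 (a : ℕ) else S.tr (a : ℕ) 0
    set q := if i = 0 then S.tr 0 (b : ℕ) else S.tr (b : ℕ) 0
    have hp : p ∈ S.side1.A := by simp only [p]; split_ifs <;> exact S.tr_mem _ _
    have hq : q ∈ S.side1.A := by simp only [q]; split_ifs <;> exact S.tr_mem _ _
    have hfix : (q⁻¹ * p) • S.qq i = S.qq i := by rw [mul_smul, h, inv_smul_smul]
    obtain ⟨m, hm⟩ := Subgroup.mem_zpowers_iff.1
      (S.fix_kk' (S.side1.A.mul_mem (S.side1.A.inv_mem hq) hp) i (S.qq_spec i).1 (S.qq_spec i).2.2 hfix)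
    have ia := a.isLt; have ib := b.isLt
    have hne : (a : ℕ) ≠ b := fun e => hab (Fin.ext e)
    rw [kk'_coord] at hm
    by_cases hi : i = 0
    · subst hi
      have : q⁻¹ * p = S.u ^ (0 : ℤ) * S.v1 ^ (((a : ℕ) : ℤ) - (b : ℕ)) := by
        simp only [p, q, if_true, tr, zpow_zero, one_mul]; rw [← zpow_neg, ← zpow_add]; ring_nf
      rw [this] at hm
      obtain ⟨h1, h2⟩ := S.coord_pow hm
      simp at h1 h2
      omega
    · have : q⁻¹ * p = S.u ^ (((a : ℕ) : ℤ) - (b : ℕ)) * S.v1 ^ (0 : ℤ) := by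
        simp only [p, q, if_neg hi, tr, zpow_zero, mul_one]; rw [← zpow_neg, ← zpow_add]; ring_nf
      rw [this] at hm
      obtain ⟨h1, h2⟩ := S.coord_pow hm
      revert hi h1 h2
      fin_cases i <;> simp <;> omega

theorem pt_bij : Function.Bijective S.pt := by
  classical
  haveI := Fintype.ofFinite S.Pt
  exact (Fintype.bijective_iff_injective_and_card _).2 ⟨S.pt_inj, by
    rw [← Nat.card_eq_fintype_card (α := S.Pt), S.card_Pt]; rfl⟩

/-- the line with a given label -/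
noncomputable def lineOf : LLab → Set S.Pt
  | .inl i => S.Lp i
  | .inr (x, y) => S.tr (x : ℕ) (y : ℕ) • S.m0

theorem lineOf_line (l : LLab) : S.IsLine (S.lineOf l) := by
  rcases l with i | ⟨x, y⟩
  · exact S.Lp_line i
  · exact S.line_smul _ S.exists_avoid.choose_spec.1

theorem lineOf_eq (l : LLab) : S.lineOf l = S.pt '' (lineTab l : Set PLab) := by
  classical
  refine (Set.eq_of_subset_of_ncard_le ?_ ?_ (Set.toFinite _)).symm
  · rintro _ ⟨p, hp, rfl⟩
    rcases l with i | ⟨x, y⟩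
    · simp [lineTab] at hp
      rcases hp with rfl | rfl | rfl | rfl
      · exact S.p0_Lp i
      all_goals exact (S.pt_Lp i _).1
    · simp [lineTab] at hp
      rcases hp with rfl | rfl | rfl | rfl <;>
        (rw [← tr_pt]; exact Set.smul_mem_smul_set (S.qq_spec _).2.1)
  · rw [Set.ncard_image_of_injective _ S.pt_inj, Set.ncard_coe_finset, node_check.2.2.2.2 l,
      ← Nat.card_coe_set_eq, S.line_card (S.lineOf_line l)]

theorem lineOf_inj : Function.Injective S.lineOf := fun l l' h => by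
  rw [lineOf_eq, lineOf_eq] at h
  exact node_check.2.2.2.1 l l' (Finset.coe_injective (Set.image_injective.2 S.pt_inj h))

theorem lineOf_surj {L : Set S.Pt} (hL : S.IsLine L) : ∃ l, S.lineOf l = L := by
  by_cases h0 : S.p0 ∈ L
  · obtain ⟨n, hn, rfl⟩ := S.line_p0 hL h0
    classical
    haveI := Fintype.ofFinite S.Pt
    obtain ⟨q, hq, hq0⟩ : ∃ q ∈ n • S.ell, q ≠ S.p0 := by
      by_contra hno
      push Not at hno
      have : Nat.card (n • S.ell : Set S.Pt) ≤ Nat.card ({S.p0} : Set S.Pt) :=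
        Nat.card_mono (Set.toFinite _) fun x hx => hno x hx
      rw [S.line_card hL] at this
      simp at this
    obtain ⟨i, hi⟩ := S.cover hq0
    exact ⟨.inl i, S.line_unique (S.Lp_line i) hL (Ne.symm hq0) (S.p0_Lp i) hi h0 hq⟩
  · obtain ⟨a, ha0, haL, ha⟩ := S.meets hL h0 0
    obtain ⟨b, hb0, hbL, hb⟩ := S.meets hL h0 1
    obtain ⟨pa, rfl⟩ := S.pt_bij.2 a
    obtain ⟨pb, rfl⟩ := S.pt_bij.2 b
    rcases pa with _ | ⟨i, c⟩
    · exact absurd rfl ha0
    rcases pb with _ | ⟨j, d⟩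
    · exact absurd rfl hb0
    have hi : i = 0 := S.Lp_eq ha0 (S.pt_Lp i c).1 ha
    have hj : j = 1 := S.Lp_eq hb0 (S.pt_Lp j d).1 hb
    subst hi; subst hj
    refine ⟨.inr (d, c), S.line_unique (S.lineOf_line _) hL (fun e => absurd (S.pt_inj e) (by simp)) ?_ ?_ haL hbL⟩
    · rw [show (some ((0 : Fin 4), c) : PLab) = some (0, coordClass 0 d c) by simp [coordClass], ← tr_pt]
      exact Set.smul_mem_smul_set (S.qq_spec 0).2.1
    · rw [show (some ((1 : Fin 4), d) : PLab) = some (1, coordClass 1 d c) by simp [coordClass], ← tr_pt]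
      exact Set.smul_mem_smul_set (S.qq_spec 1).2.1

/-- lines as a type -/
abbrev Ln : Type u := {L : Set S.Pt // S.IsLine L}

/-- incidence -/
def Inc : S.Pt ⊕ S.Ln → S.Pt ⊕ S.Ln → Prop
  | .inl p, .inr L => p ∈ L.1
  | .inr L, .inl p => p ∈ L.1
  | _, _ => False

/-- the node map -/
noncomputable def node26 (i : Fin 26) : S.Pt ⊕ S.Ln :=
  Sum.map S.pt (fun l => ⟨S.lineOf l, S.lineOf_line l⟩) (nodeLab i)

theorem node26_bij : Function.Bijective S.node26 := by
  have hinj : Function.Injective (fun l => (⟨S.lineOf l, S.lineOf_line l⟩ : S.Ln)) :=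
    fun a b h => S.lineOf_inj (congrArg Subtype.val h)
  have hsurj : Function.Surjective (fun l => (⟨S.lineOf l, S.lineOf_line l⟩ : S.Ln)) := fun L => by
    obtain ⟨l, hl⟩ := S.lineOf_surj L.2
    exact ⟨l, Subtype.ext hl⟩
  have hlab : Function.Bijective nodeLab := (Fintype.bijective_iff_injective_and_card _).2
    ⟨fun a b h => node_check.2.2.1 a b h, by simp⟩
  exact Function.Bijective.comp ⟨Sum.map_injective.2 ⟨S.pt_inj, hinj⟩, Sum.map_surjective.2 ⟨S.pt_bij.2, hsurj⟩⟩ hlab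

theorem inc_node (i j : Fin 26) : CommGraph.iAdj i j ↔ S.Inc (S.node26 i) (S.node26 j) := by
  rw [node_check.1 i j, node26, node26]
  rcases nodeLab i with p | l <;> rcases nodeLab j with q | m <;>
    simp [labInc, Inc, Sum.map, lineOf_eq, S.pt_inj.eq_iff]

/-- the action on nodes -/
noncomputable def nodeHom : G →* Equiv.Perm (Fin 26) :=
  let act : G →* Equiv.Perm (S.Pt ⊕ S.Ln) :=
    { toFun := fun g => Equiv.sumCongr (MulAction.toPerm g)
        { toFun := fun L => ⟨g • L.1, S.line_smul g L.2⟩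
          invFun := fun L => ⟨g⁻¹ • L.1, S.line_smul g⁻¹ L.2⟩
          left_inv := fun L => Subtype.ext (inv_smul_smul g L.1)
          right_inv := fun L => Subtype.ext (smul_inv_smul g L.1) }
      map_one' := by ext (p | L) <;> simp
      map_mul' := fun g h => by ext (p | L) <;> simp [mul_smul] }
  ((Equiv.ofBijective _ S.node26_bij).symm.permCongrHom).toMonoidHom.comp act

theorem node_hom (g : G) (i : Fin 26) :
    S.node26 (S.nodeHom g i) = Sum.map (fun p => g • p) (fun L : S.Ln => ⟨g • L.1, S.line_smul g L.2⟩) (S.node26 i) := by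
  simp only [nodeHom, MonoidHom.comp_apply]
  show (Equiv.ofBijective _ S.node26_bij) _ = _
  simp [Equiv.permCongrHom, Equiv.permCongr]
  rcases S.node26 i with p | L <;> rfl

include S in
theorem iso_SLThree : Nonempty (G ≃* CommGraph.SLThree) := by
  classical
  haveI := S.simple
  have hmem : ∀ g, S.nodeHom g ∈ CommGraph.planeAut := by
    intro g
    refine ⟨fun i j => ?_, fun i => ?_⟩
    · rw [S.inc_node, S.inc_node, S.node_hom, S.node_hom]
      rcases S.node26 i with p | L <;> rcases S.node26 j with q | M <;>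
        simp [Inc, Set.smul_mem_smul_set_iff]
    · have key : ∀ k : Fin 26, CommGraph.isPt k = (S.node26 k).isLeft := fun k => by
        rw [node_check.2.1 k, node26]; rcases nodeLab k with a | b <;> rfl
      rw [key, key, S.node_hom]
      rcases S.node26 i with p | L <;> rfl
  set ρ := S.nodeHom.codRestrict CommGraph.planeAut hmem
  have hinj : Function.Injective ρ := by
    rw [← MonoidHom.ker_eq_bot_iff]
    rcases IsSimpleGroup.eq_bot_or_eq_top_of_normal ρ.ker (MonoidHom.normal_ker ρ) with h | h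
    · exact h
    · exfalso
      have hall : ∀ p : S.Pt, ∀ g : G, g • p = p := by
        intro p g
        obtain ⟨i, hi⟩ := S.node26_bij.2 (.inl p)
        have hm : g ∈ ρ.ker := h ▸ Subgroup.mem_top g
        have hg : S.nodeHom g = (1 : Equiv.Perm (Fin 26)) := congrArg Subtype.val (MonoidHom.mem_ker.1 hm)
        have := S.node_hom g i
        rw [hg, Equiv.Perm.one_apply, hi] at this
        exact (Sum.inl_injective this).symm
      have h13 := S.card_Pt
      haveI : Subsingleton S.Pt := ⟨fun a b => by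
        obtain ⟨g, hg⟩ := S.exists_to_p0 a
        obtain ⟨g', hg'⟩ := S.exists_to_p0 b
        rw [hall] at hg hg'
        rw [hg, hg']⟩
      rw [Nat.card_of_subsingleton S.p0] at h13
      norm_num at h13
  have hc : Nat.card CommGraph.planeAut ≤ Nat.card G := by rw [S.card]; exact CommGraph.card_planeAut_le
  have hbij : Function.Bijective ρ := hinj.bijective_of_nat_card_le hc
  exact ⟨(MulEquiv.ofBijective ρ hbij).trans
    ((MonoidHom.ofInjective CommGraph.idEquiv.act_injective).trans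
      (MulEquiv.subgroupCongr CommGraph.range_idEquiv)).symm⟩

end Hyp

end Cfsg.Agent.Lead.GLTwoThree
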