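import Cfsg.Agent.Lib.Lead.GLTwoThree.Main
import Cfsg.Prelude.Def_Transfer

/-!
# Simplicity when there is no subgroup of index two
-/

set_option autoImplicit false
set_option maxRecDepth 20000
set_option linter.style.haveILetI false

namespace Cfsg.Agent.Lead.GLTwoThree

open Cfsg

universe u

variable {G : Type u} [Group G] [Finite G] {t : G}
variable (ht : orderOf t = 2) (e : ↥(Subgroup.centralizer ({t} : Set G)) ≃* GLT)

theorem odd_check : (∀ x ∈ codes, pw x 3 = 28 → x ≠ 28 →
      ∃ g ∈ codes, pw (mc x (mc (mc g x) (iv g))) 3 ≠ 28) ∧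
    (29 ∈ codes ∧ mc 56 29 ∈ codes) ∧ (mc 29 29 = 28 ∧ mc (mc 56 29) (mc 56 29) = 28) ∧
    mc 29 (mc 56 29) = 56 := by decide +kernel

include ht e in
theorem even_of_normal (hno : ∀ H : Subgroup G, H.index ≠ 2) (N : Subgroup G) [N.Normal] (hN : N ≠ ⊥) :
    2 ∣ Nat.card N := by
  classical
  by_contra hodd
  haveI := Fintype.ofFinite G
  obtain ⟨hc1, ⟨ha, hb⟩, ⟨haa, hbb⟩, hab⟩ := odd_check
  set f : GLT →* G := (Subgroup.centralizer ({t} : Set G)).subtype.comp e.symm.toMonoidHom with hf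
  have hinj : Function.Injective f := Subtype.val_injective.comp e.symm.injective
  have hfe : ∀ n : ↥(Subgroup.centralizer ({t} : Set G)), f (e n) = (n : G) := fun n => by simp [hf]
  -- `t` acts without fixed points
  have hfree : ∀ x ∈ N, x * t = t * x → x = 1 := by
    intro x hx hxt
    by_contra hx1
    set c : ↥(Subgroup.centralizer ({t} : Set G)) := ⟨x, mem_cent_iff.2 hxt⟩
    have h3 : ∀ y : GLT, f y ∈ N → y ^ 3 = 1 := fun y hy => by
      have a1 : orderOf y ∣ Nat.card N := by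
        rw [← orderOf_injective f hinj]; exact Subgroup.orderOf_dvd_natCard N hy
      have a2 : orderOf y ∣ 48 := card_glt ▸ orderOf_dvd_natCard y
      have key : ∀ d ∈ Nat.divisors 48, ¬ 2 ∣ d → d ∣ 3 := by decide +kernel
      exact orderOf_dvd_iff_pow_eq_one.1 (key _ (Nat.mem_divisors.2 ⟨a2, by norm_num⟩) fun h => hodd (h.trans a1))
    have hc : f (e c) ∈ N := by rw [hfe]; exact hx
    obtain ⟨g, hg, hne⟩ := hc1 (cod (e c)) (cod_mem _) (by rw [← cod_pow, h3 _ hc, cod_one])
      (fun h => hx1 (by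
        have := cod_injective (h.trans cod_one.symm)
        exact congrArg Subtype.val (e.injective (this.trans (map_one e).symm))))
    apply hne
    have hm : f (e c * (ofCode g hg * e c * (ofCode g hg)⁻¹)) ∈ N := by
      rw [map_mul, map_mul, map_mul, map_inv]
      exact N.mul_mem hc (Subgroup.Normal.conj_mem inferInstance _ hc _)
    have := congrArg cod (h3 _ hm)
    rwa [cod_pow, cod_mul, cod_mul, cod_mul, cod_inv, cod_ofCode, cod_one] at this
  let φ : N →* N :=
    { toFun := fun x => ⟨t * x * t⁻¹, Subgroup.Normal.conj_mem inferInstance _ x.2 t⟩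
      map_one' := Subtype.ext (by simp)
      map_mul' := fun x y => Subtype.ext (by simp [mul_assoc]) }
  have hφ : MonoidHom.FixedPointFree φ := fun x hx =>
    Subtype.ext (hfree _ x.2 (by
      have e : t * (x : G) * t⁻¹ = x := congrArg Subtype.val hx
      calc (x : G) * t = t * (x : G) * t⁻¹ * t := by rw [e]
        _ = t * x := by group))
  have hinv : Function.Involutive φ := fun x => Subtype.ext (by
    show t * (t * (x : G) * t⁻¹) * t⁻¹ = x
    calc t * (t * (x : G) * t⁻¹) * t⁻¹ = (t * t) * x * (t * t)⁻¹ := by group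
      _ = x := by rw [(orderOf_two_iff.1 ht).1]; simp)
  have htinv : ∀ x ∈ N, t * x * t⁻¹ = x⁻¹ := fun x hx =>
    congrArg Subtype.val (congrFun (MonoidHom.FixedPointFree.coe_eq_inv_of_involutive hφ hinv) ⟨x, hx⟩)
  have allinv : ∀ r : G, orderOf r = 2 → ∀ x ∈ N, r * x * r⁻¹ = x⁻¹ := by
    intro r hr x hx
    obtain ⟨g, rfl⟩ := isConj_iff.1 (one_class ht e hno r hr)
    have hy : g⁻¹ * x * g ∈ N := by
      have := Subgroup.Normal.conj_mem (inferInstance : N.Normal) x hx g⁻¹
      rwa [inv_inv] at this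
    calc g * t * g⁻¹ * x * (g * t * g⁻¹)⁻¹ = g * (t * (g⁻¹ * x * g) * t⁻¹) * g⁻¹ := by group
      _ = g * (g⁻¹ * x * g)⁻¹ * g⁻¹ := by rw [htinv _ hy]
      _ = _ := by group
  obtain ⟨x, hx, hx1⟩ : ∃ x ∈ N, x ≠ 1 := by
    by_contra hno'
    push Not at hno'
    exact hN ((Subgroup.eq_bot_iff_forall _).2 hno')
  have hord : ∀ c (hc : c ∈ codes), mc c c = 28 → c ≠ 28 → orderOf (f (ofCode c hc)) = 2 := fun c hc p q => by
    rw [orderOf_injective f hinj, orderOf_two_iff, invol_cod, cod_ofCode]; exact ⟨p, q⟩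
  have ra := hord 29 ha haa (by norm_num)
  have rb := hord (mc 56 29) hb hbb (by decide +kernel)
  have hprod : f (ofCode 29 ha) * f (ofCode (mc 56 29) hb) = t := by
    rw [← map_mul]
    refine (congrArg f ?_).trans (hfe ⟨t, t_mem⟩)
    exact cod_injective (by rw [cod_mul, cod_ofCode, cod_ofCode, cod_t ht e, hab])
  have h := htinv x hx
  rw [← hprod] at h
  have h2 : x = x⁻¹ := by
    calc x = f (ofCode 29 ha) * x⁻¹ * (f (ofCode 29 ha))⁻¹ := by rw [allinv _ ra _ (N.inv_mem hx), inv_inv]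
      _ = f (ofCode 29 ha) * (f (ofCode (mc 56 29) hb) * x * (f (ofCode (mc 56 29) hb))⁻¹) * (f (ofCode 29 ha))⁻¹ := by
        rw [allinv _ rb _ hx]
      _ = _ := by rw [← h]; group
  apply hodd
  have : orderOf x = 2 := orderOf_two_iff.2 ⟨by nth_rewrite 1 [h2]; exact inv_mul_cancel x, hx1⟩
  exact this ▸ Subgroup.orderOf_dvd_natCard N hx

include ht e in
theorem cent_le_of_normal (hno : ∀ H : Subgroup G, H.index ≠ 2) (N : Subgroup G) [N.Normal] (hN : N ≠ ⊥) :
    Subgroup.centralizer ({t} : Set G) ≤ N := by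
  obtain ⟨r, hr⟩ := exists_prime_orderOf_dvd_card' (G := N) 2 (even_of_normal ht e hno N hN)
  have hall : ∀ a : G, orderOf a = 2 → a ∈ N := by
    intro a ha
    have hr' : orderOf (r : G) = 2 := by rw [Subgroup.orderOf_coe, hr]
    obtain ⟨g, hg⟩ := isConj_iff.1 ((one_class ht e hno _ hr').symm.trans (one_class ht e hno a ha))
    rw [← hg]
    exact Subgroup.Normal.conj_mem inferInstance _ r.2 g
  intro n hn
  obtain ⟨u, hu, v, hv, w, hw, ⟨eu, ev, ew⟩, hx⟩ := gen_check _ (cod_mem (e ⟨n, hn⟩))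
  have one : ∀ c (hc : c ∈ codes), mc c c = 28 → ((e.symm (ofCode c hc)) : G) ∈ N := by
    intro c hc ec
    by_cases h28 : c = 28
    · subst h28
      rw [show ofCode 28 hc = 1 from cod_injective (by rw [cod_ofCode, cod_one]), map_one, Subgroup.coe_one]
      exact N.one_mem
    · refine hall _ ?_
      rw [Subgroup.orderOf_coe, MulEquiv.orderOf_eq, orderOf_two_iff, invol_cod, cod_ofCode]
      exact ⟨ec, h28⟩
  have en : (⟨n, hn⟩ : ↥(Subgroup.centralizer ({t} : Set G))) =
      e.symm (ofCode u hu) * e.symm (ofCode v hv) * e.symm (ofCode w hw) := by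
    rw [← map_mul, ← map_mul, MulEquiv.eq_symm_apply]
    exact cod_injective (by rw [hx, cod_mul, cod_mul, cod_ofCode, cod_ofCode, cod_ofCode])
  have := congrArg Subtype.val en
  rw [Subgroup.coe_mul, Subgroup.coe_mul] at this
  change n = _ at this
  rw [this]
  exact N.mul_mem (N.mul_mem (one u hu eu) (one v hv ev)) (one w hw ew)

/-- the centraliser inside a subgroup containing it -/
def centInside {N : Subgroup G} (h : Subgroup.centralizer ({t} : Set G) ≤ N) (htN : t ∈ N) :
    ↥(Subgroup.centralizer ({(⟨t, htN⟩ : N)} : Set N)) ≃* ↥(Subgroup.centralizer ({t} : Set G)) where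
  toFun x := ⟨((x : N) : G), mem_cent_iff.2 (congrArg Subtype.val (Subgroup.mem_centralizer_singleton_iff.1 x.2))⟩
  invFun x := ⟨⟨x, h x.2⟩, Subgroup.mem_centralizer_singleton_iff.2 (Subtype.ext (mem_cent_iff.1 x.2))⟩
  left_inv _ := rfl
  right_inv _ := rfl
  map_mul' _ _ := rfl

include ht e in
theorem simple_of_no_index_two (hno : ∀ H : Subgroup G, H.index ≠ 2) : IsSimpleGroup G := by
  classical
  haveI : Fact (Nat.Prime 2) := ⟨Nat.prime_two⟩
  have hcard := card_cases ht e hno
  haveI : Nontrivial G := Finite.one_lt_card_iff_nontrivial.1 (by omega)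
  refine ⟨fun N hN => ?_⟩
  by_cases hb : N = ⊥
  · exact Or.inl hb
  right
  haveI := hN
  have hCN := cent_le_of_normal ht e hno N hb
  have htN : t ∈ N := hCN t_mem
  obtain ⟨P, -, -, hPC⟩ := exists_sylow ht e
  -- odd order elements of `N`
  set K : Subgroup G := Subgroup.closure {g | g ∈ N ∧ ¬ 2 ∣ orderOf g} with hK
  have hKN : K ≤ N := (Subgroup.closure_le _).2 fun g hg => hg.1
  haveI hKn : K.Normal := by
    refine ⟨fun a ha g => ?_⟩
    have hle : K ≤ K.comap (MulAut.conj g).toMonoidHom := (Subgroup.closure_le _).2 fun x hx => by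
      refine Subgroup.subset_closure ⟨hN.conj_mem x hx.1 g, ?_⟩
      have e : orderOf ((MulAut.conj g).toMonoidHom x) = orderOf x := MulEquiv.orderOf_eq (MulAut.conj g) x
      rw [e]; exact hx.2
    exact hle ha
  have hKb : K ≠ ⊥ := by
    obtain ⟨x, hx⟩ := exists_prime_orderOf_dvd_card' (G := ↥(Subgroup.centralizer ({t} : Set G))) 3 (hp := ⟨Nat.prime_three⟩)
      (by rw [Nat.card_congr e.toEquiv, card_glt]; norm_num)
    intro hbot
    have hxK : (x : G) ∈ K := Subgroup.subset_closure ⟨hCN x.2, by rw [Subgroup.orderOf_coe, hx]; norm_num⟩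
    rw [hbot, Subgroup.mem_bot] at hxK
    have h1 : x = 1 := Subtype.ext hxK
    rw [h1, orderOf_one] at hx
    norm_num at hx
  have hPK : (P : Subgroup G) ≤ K := hPC.trans (cent_le_of_normal ht e hno K hKb)
  have hoddK : ¬ 2 ∣ K.index := fun h => P.not_dvd_index (h.trans (Subgroup.index_dvd_of_le hPK))
  have hnoN : ∀ H : Subgroup N, H.index ≠ 2 := by
    intro H hH
    haveI := Subgroup.normal_of_index_eq_two hH
    have hle : K ≤ H.map N.subtype := (Subgroup.closure_le _).2 fun g hg => by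
      refine ⟨⟨g, hg.1⟩, ?_, rfl⟩
      show (⟨g, hg.1⟩ : N) ∈ H
      rw [← QuotientGroup.eq_one_iff]
      have h1 : ((⟨g, hg.1⟩ : N) : N ⧸ H) ^ 2 = 1 := by
        have := pow_card_eq_one' (x := ((⟨g, hg.1⟩ : N) : N ⧸ H))
        rwa [← Subgroup.index_eq_card, hH] at this
      have h2 : ((⟨g, hg.1⟩ : N) : N ⧸ H) ^ orderOf g = 1 := by
        have e1 : (⟨g, hg.1⟩ : N) ^ orderOf g = 1 := Subtype.ext (by simp [pow_orderOf_eq_one])
        exact (QuotientGroup.mk_pow H (⟨g, hg.1⟩ : N) (orderOf g)).symm.trans ((congrArg _ e1).trans rfl)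
      obtain ⟨k, hk⟩ : Odd (orderOf g) := Nat.not_even_iff_odd.1 fun h => hg.2 (even_iff_two_dvd.1 h)
      have h3 : ((⟨g, hg.1⟩ : N) : N ⧸ H) ^ (2 * k + 1) = 1 := hk ▸ h2
      rwa [pow_succ, pow_mul, h1, one_pow, one_mul] at h3
    apply hoddK
    refine dvd_trans ?_ (Subgroup.index_dvd_of_le hle)
    rw [Subgroup.index_map_subtype, hH]
    exact dvd_mul_right 2 _
  have hc := card_cases (t := (⟨t, htN⟩ : N)) (by rw [Subgroup.orderOf_mk, ht]) ((centInside hCN htN).trans e) hnoN
  refine Subgroup.eq_top_of_card_eq _ ?_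
  have hd := Subgroup.card_subgroup_dvd_card N
  rcases hcard with h | h <;> rcases hc with h' | h' <;> rw [h, h'] at hd <;> first | omega | norm_num at hd

theorem no_index_two_of_residual (hO : Cfsg.pResidual 2 G = ⊤) : ∀ H : Subgroup G, H.index ≠ 2 := by
  intro H hH
  haveI := Subgroup.normal_of_index_eq_two hH
  have hle : Cfsg.pResidual 2 G ≤ H := (Subgroup.closure_le _).2 fun g hg => by
    show g ∈ H
    rw [← QuotientGroup.eq_one_iff]
    have h1 : ((g : G) : G ⧸ H) ^ 2 = 1 := by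
      have := pow_card_eq_one' (x := ((g : G) : G ⧸ H))
      rwa [← Subgroup.index_eq_card, hH] at this
    have h2 : ((g : G) : G ⧸ H) ^ orderOf g = 1 := by
      rw [← QuotientGroup.mk_pow, pow_orderOf_eq_one]; rfl
    obtain ⟨k, hk⟩ : Odd (orderOf g) := Nat.coprime_two_right.1 hg
    rwa [hk, pow_succ, pow_mul, h1, one_pow, one_mul] at h2
  rw [hO, top_le_iff] at hle
  rw [hle, Subgroup.index_top] at hH
  norm_num at hH

end Cfsg.Agent.Lead.GLTwoThree
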