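import Cfsg.Agent.Lib.Char.IndSpan
import Mathlib.LinearAlgebra.Matrix.GeneralLinearGroup.Defs
import Mathlib.Data.ZMod.Basic

/-!
# GL(2,3) by codes, and some induced characters
-/

set_option autoImplicit false
set_option maxRecDepth 20000

namespace Cfsg.Agent.Lead.GLTwoThree

open Cfsg Module
open scoped ComplexConjugate

/-- GL(2,3) -/
abbrev GLT : Type := GL (Fin 2) (ZMod 3)

def pack (a b c d : ℕ) : ℕ := a % 3 * 27 + b % 3 * 9 + c % 3 * 3 + d % 3

def mc (x y : ℕ) : ℕ :=
  pack (x / 27 * (y / 27) + x / 9 % 3 * (y / 3 % 3)) (x / 27 * (y / 9 % 3) + x / 9 % 3 * (y % 3))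
    (x / 3 % 3 * (y / 27) + x % 3 * (y / 3 % 3)) (x / 3 % 3 * (y / 9 % 3) + x % 3 * (y % 3))

def dt (x : ℕ) : ℕ := (x / 27 * (x % 3) + 2 * (x / 9 % 3) * (x / 3 % 3)) % 3

def iv (x : ℕ) : ℕ :=
  pack (dt x * (x % 3)) (dt x * 2 * (x / 9 % 3)) (dt x * 2 * (x / 3 % 3)) (dt x * (x / 27))

def codes : List ℕ := (List.range 81).filter fun x => dt x != 0

/-- the class: 1, z, order 4, 3, 6, outer involutions, two classes of order 8 -/
def cls (x : ℕ) : Fin 8 :=
  if x = 28 then 0 else if x = 56 then 1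
  else if dt x = 1 then (if (x / 27 + x % 3) % 3 = 0 then 2 else if (x / 27 + x % 3) % 3 = 2 then 3 else 4)
  else (if (x / 27 + x % 3) % 3 = 0 then 5 else if (x / 27 + x % 3) % 3 = 1 then 6 else 7)

def codm (A : Matrix (Fin 2) (Fin 2) (ZMod 3)) : ℕ :=
  pack (A 0 0).val (A 0 1).val (A 1 0).val (A 1 1).val

def cod (g : GLT) : ℕ := codm g.val

theorem codm_inj {A B : Matrix (Fin 2) (Fin 2) (ZMod 3)} (h : codm A = codm B) : A = B := by
  have b : ∀ x : ZMod 3, x.val < 3 := ZMod.val_lt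
  have := b (A 0 0); have := b (A 0 1); have := b (A 1 0); have := b (A 1 1)
  have := b (B 0 0); have := b (B 0 1); have := b (B 1 0); have := b (B 1 1)
  simp only [codm, pack] at h
  ext i j
  apply ZMod.val_injective
  fin_cases i <;> fin_cases j <;> simp only [Fin.zero_eta, Fin.mk_one] <;> omega

theorem cod_injective : Function.Injective cod := fun _ _ h => Units.ext (codm_inj h)

theorem codm_digits (A : Matrix (Fin 2) (Fin 2) (ZMod 3)) :
    codm A / 27 = (A 0 0).val ∧ codm A / 9 % 3 = (A 0 1).val ∧ codm A / 3 % 3 = (A 1 0).val ∧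
      codm A % 3 = (A 1 1).val := by
  have b : ∀ x : ZMod 3, x.val < 3 := ZMod.val_lt
  have := b (A 0 0); have := b (A 0 1); have := b (A 1 0); have := b (A 1 1)
  simp only [codm, pack]
  omega

theorem cod_mul (g h : GLT) : cod (g * h) = mc (cod g) (cod h) := by
  obtain ⟨a1, a2, a3, a4⟩ := codm_digits g.val
  obtain ⟨b1, b2, b3, b4⟩ := codm_digits h.val
  show codm (g.val * h.val) = mc (codm g.val) (codm h.val)
  rw [mc, a1, a2, a3, a4, b1, b2, b3, b4, codm]
  simp [pack, Matrix.mul_apply, Fin.sum_univ_two, ZMod.val_add, ZMod.val_mul, Nat.add_mod]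

theorem cod_one : cod (1 : GLT) = 28 := by decide

theorem cod_mem (g : GLT) : cod g ∈ codes := by
  obtain ⟨a1, a2, a3, a4⟩ := codm_digits g.val
  have b : ∀ x : ZMod 3, x.val < 3 := ZMod.val_lt
  have := b (g.val 0 0); have := b (g.val 0 1); have := b (g.val 1 0); have := b (g.val 1 1)
  refine List.mem_filter.2 ⟨List.mem_range.2 (by simp only [cod, codm, pack]; omega), ?_⟩
  have hd : g.val.det ≠ 0 := ((Matrix.isUnit_iff_isUnit_det _).1 g.isUnit).ne_zero
  rw [Matrix.det_fin_two] at hd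
  simp only [cod, dt, a1, a2, a3, a4, bne_iff_ne, ne_eq]
  intro h
  apply hd
  have h2 : ((((g.val 0 0).val * (g.val 1 1).val + 2 * (g.val 0 1).val * (g.val 1 0).val : ℕ)) : ZMod 3) = 0 := by
    rw [← ZMod.natCast_mod, h, Nat.cast_zero]
  push_cast [ZMod.natCast_zmod_val] at h2
  rw [show (2 : ZMod 3) = -1 by decide] at h2
  linear_combination h2

def toMat (x : ℕ) : Matrix (Fin 2) (Fin 2) (ZMod 3) :=
  !![((x / 27 : ℕ) : ZMod 3), ((x / 9 % 3 : ℕ) : ZMod 3); ((x / 3 % 3 : ℕ) : ZMod 3), ((x % 3 : ℕ) : ZMod 3)]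

theorem toMat_check : ∀ x ∈ codes, toMat x * toMat (iv x) = 1 ∧ toMat (iv x) * toMat x = 1 ∧
    codm (toMat x) = x := by decide +kernel

def ofCode (x : ℕ) (hx : x ∈ codes) : GLT :=
  ⟨toMat x, toMat (iv x), (toMat_check x hx).1, (toMat_check x hx).2.1⟩

theorem cod_ofCode (x : ℕ) (hx : x ∈ codes) : cod (ofCode x hx) = x := (toMat_check x hx).2.2

theorem codes_nodup : codes.Nodup := List.nodup_range.filter _

theorem sum_cod [Fintype GLT] {M : Type*} [AddCommMonoid M] (F : ℕ → M) :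
    ∑ g : GLT, F (cod g) = (codes.map F).sum := by
  classical
  rw [← List.sum_toFinset F codes_nodup]
  refine Finset.sum_nbij cod (fun g _ => List.mem_toFinset.2 (cod_mem g))
    (fun a _ b _ h => cod_injective h) (fun x hx => ?_) (fun g _ => rfl)
  exact ⟨ofCode x (List.mem_toFinset.1 hx), Finset.mem_univ _, cod_ofCode _ _⟩

theorem card_glt : Nat.card GLT = 48 := by
  classical
  haveI := Fintype.ofFinite GLT
  rw [Nat.card_eq_fintype_card, Fintype.card_eq_sum_ones, sum_cod (fun _ => 1)]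
  decide +kernel

theorem inv_check : ∀ x ∈ codes, ∀ y ∈ codes, mc x y = 28 → y = iv x := by decide +kernel

theorem cod_inv (g : GLT) : cod g⁻¹ = iv (cod g) := by
  refine inv_check _ (cod_mem g) _ (cod_mem _) ?_
  rw [← cod_mul, mul_inv_cancel, cod_one]

/-- exponents of the conjugates lying in a list -/
def expo (Hl : List ℕ) (k : ℕ → ℕ) (g : ℕ) : List ℕ :=
  codes.filterMap fun x => if mc (iv x) (mc g x) ∈ Hl then some (k (mc (iv x) (mc g x))) else none

def expoTab (Hl : List ℕ) (k : ℕ → ℕ) (n g : ℕ) : List ℕ :=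
  (List.range n).map fun m => ((expo Hl k g).map (· % n)).count m

theorem sum_pow_eq_count {n : ℕ} (hn : 0 < n) {ζ : ℂ} (hζ : ζ ^ n = 1) (l : List ℕ) :
    (l.map (fun m => ζ ^ m)).sum =
      ∑ m ∈ Finset.range n, (((l.map (· % n)).count m : ℕ) : ℂ) * ζ ^ m := by
  induction l with
  | nil => simp
  | cons a l ih =>
    rw [List.map_cons, List.sum_cons, ih]
    simp only [List.map_cons, List.count_cons, Nat.cast_add, add_mul, Finset.sum_add_distrib]
    rw [add_comm]
    congr 1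
    rw [Finset.sum_eq_single (a % n)]
    · simp [pow_eq_pow_mod a hζ]
    · intro b _ hb
      simp [Ne.symm hb]
    · intro h
      exact absurd (Finset.mem_range.2 (Nat.mod_lt a hn)) h

theorem sum_filterMap {α β M : Type*} [AddCommMonoid M] (l : List α) (p : α → Prop) [DecidablePred p]
    (k : α → β) (F : β → M) :
    (l.map fun x => if p x then F (k x) else 0).sum =
      ((l.filterMap fun x => if p x then some (k x) else none).map F).sum := by
  induction l with
  | nil => rfl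
  | cons a l ih => by_cases h : p a <;> simp [h, ih]

/-- Induced linear characters, by counting. -/
theorem ind_char (Hl : List ℕ) (k : ℕ → ℕ) (n : ℕ) (hn : 0 < n) {ζ : ℂ} (hζ : ζ ^ n = 1)
    (h1 : (28 ∈ Hl ∧ k 28 % n = 0) ∧ Hl.Nodup ∧ (∀ x ∈ Hl, x ∈ codes ∧ iv x ∈ Hl) ∧
      ∀ x ∈ Hl, ∀ y ∈ Hl, mc x y ∈ Hl ∧ k (mc x y) % n = (k x + k y) % n) :
    IsCharacter GLT (fun g => (Hl.length : ℂ)⁻¹ *
      ∑ m ∈ Finset.range n, (((expoTab Hl k n (cod g)).getD m 0 : ℕ) : ℂ) * ζ ^ m) := by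
  classical
  haveI := Fintype.ofFinite GLT
  obtain ⟨⟨hone, hk1⟩, hnd, hsub, hmul⟩ := h1
  let K : Subgroup GLT :=
    { carrier := {g | cod g ∈ Hl}
      one_mem' := by show cod (1 : GLT) ∈ Hl; rw [cod_one]; exact hone
      mul_mem' := fun {a b} ha hb => by show cod (a * b) ∈ Hl; rw [cod_mul]; exact (hmul _ ha _ hb).1
      inv_mem' := fun {a} ha => by show cod a⁻¹ ∈ Hl; rw [cod_inv]; exact (hsub _ ha).2 }
  let u : ℂˣ := Units.ofPowEqOne ζ n hζ hn.ne'
  let l : K →* ℂˣ :=
    { toFun := fun g => u ^ k (cod g.1)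
      map_one' := by
        apply Units.ext
        show ((u : ℂˣ) ^ k (cod (1 : GLT)) : ℂˣ).val = 1
        rw [cod_one, Units.val_pow_eq_pow_val, Units.val_ofPowEqOne, pow_eq_pow_mod _ hζ, hk1, pow_zero]
      map_mul' := fun a b => by
        apply Units.ext
        show ((u : ℂˣ) ^ k (cod (a.1 * b.1)) : ℂˣ).val = _
        rw [cod_mul, Units.val_mul]
        simp only [Units.val_pow_eq_pow_val, u, Units.val_ofPowEqOne]
        rw [← pow_add, pow_eq_pow_mod _ hζ, (hmul _ a.2 _ b.2).2, ← pow_eq_pow_mod _ hζ] }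
  have hK : Nat.card K = Hl.length := by
    rw [← List.toFinset_card_of_nodup hnd, ← Nat.card_eq_finsetCard]
    refine Nat.card_congr (Equiv.ofBijective (fun g => ⟨cod g.1, List.mem_toFinset.2 g.2⟩) ⟨?_, ?_⟩)
    · exact fun a b h => Subtype.ext (cod_injective (congrArg Subtype.val h))
    · rintro ⟨x, hx⟩
      have hxH := List.mem_toFinset.1 hx
      exact ⟨⟨ofCode x (hsub x hxH).1, by show cod _ ∈ Hl; rw [cod_ofCode]; exact hxH⟩,
        Subtype.ext (cod_ofCode x (hsub x hxH).1)⟩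
  have hch := Cfsg.Agent.Char.isCharacter_indFun K (Cfsg.Agent.Char.isCharacter_hom K l)
  have e : indFun K (fun x => (l x : ℂ)) = fun g => (Hl.length : ℂ)⁻¹ *
      ∑ m ∈ Finset.range n, (((expoTab Hl k n (cod g)).getD m 0 : ℕ) : ℂ) * ζ ^ m := by
    funext g
    show (Nat.card K : ℂ)⁻¹ * _ = _
    rw [hK]
    congr 1
    have : ∀ x : GLT, extendByZero K (fun x => (l x : ℂ)) (x⁻¹ * g * x) =
        if mc (iv (cod x)) (mc (cod g) (cod x)) ∈ Hl then ζ ^ k (mc (iv (cod x)) (mc (cod g) (cod x))) else 0 := by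
      intro x
      have ec : cod (x⁻¹ * g * x) = mc (iv (cod x)) (mc (cod g) (cod x)) := by
        rw [mul_assoc, cod_mul, cod_mul, cod_inv]
      rw [← ec]
      split_ifs with hx
      · rw [Cfsg.Agent.Char.extendByZero_mem K _ hx]
        show ((u ^ k (cod (x⁻¹ * g * x)) : ℂˣ) : ℂ) = _
        rw [Units.val_pow_eq_pow_val, Units.val_ofPowEqOne]
      · exact Cfsg.Agent.Char.extendByZero_not_mem K _ hx
    rw [Finset.sum_congr rfl fun x _ => this x,
      sum_cod (fun c => if mc (iv c) (mc (cod g) c) ∈ Hl then ζ ^ k (mc (iv c) (mc (cod g) c)) else 0),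
      sum_filterMap codes (fun c => mc (iv c) (mc (cod g) c) ∈ Hl) (fun c => k (mc (iv c) (mc (cod g) c)))
        (fun m => ζ ^ m), sum_pow_eq_count hn hζ]
    refine Finset.sum_congr rfl fun m hm => ?_
    simp only [expoTab, expo, List.getD_eq_getElem?_getD, List.getElem?_map,
      List.getElem?_range (Finset.mem_range.1 hm), Option.map_some, Option.getD_some]
  rw [← e]
  exact hch

end Cfsg.Agent.Lead.GLTwoThree
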