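import Cfsg.Agent.Lib.Lead.GLTwoThree.Sides

/-!
# Normalisers of the two elementary subgroups of order nine
-/

set_option autoImplicit false
set_option maxRecDepth 20000
set_option linter.style.haveILetI false

namespace Cfsg.Agent.Lead.GLTwoThree

universe u

variable {G : Type u} [Group G] [Finite G] {t : G}

theorem card_pairSub {a b : G} (h : Commute a b) (ha : a ^ 3 = 1) (hb : b ^ 3 = 1) (ha1 : a ≠ 1)
    (hba : b ∉ Subgroup.zpowers a) : Nat.card (pairSub a b h) = 9 := by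
  have hbij : Function.Bijective (fun p : Fin 3 × Fin 3 =>
      (⟨a ^ ((p.1 : ℕ) : ℤ) * b ^ ((p.2 : ℕ) : ℤ), ⟨_, _, rfl⟩⟩ : pairSub a b h)) := by
    refine ⟨?_, ?_⟩
    · rintro ⟨i, j⟩ ⟨k, l⟩ e
      have e' : a ^ ((i : ℕ) : ℤ) * b ^ ((j : ℕ) : ℤ) = a ^ ((k : ℕ) : ℤ) * b ^ ((l : ℕ) : ℤ) := congrArg Subtype.val e
      obtain ⟨h1, h2⟩ := pair_inj h ha hb ha1 hba (i := ((i : ℕ) : ℤ) - (k : ℕ)) (j := ((j : ℕ) : ℤ) - (l : ℕ)) (by
        rw [zpow_sub, zpow_sub]
        calc a ^ ((i : ℕ) : ℤ) * (a ^ ((k : ℕ) : ℤ))⁻¹ * (b ^ ((j : ℕ) : ℤ) * (b ^ ((l : ℕ) : ℤ))⁻¹)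
            = a ^ ((i : ℕ) : ℤ) * ((a ^ ((k : ℕ) : ℤ))⁻¹ * b ^ ((j : ℕ) : ℤ)) * (b ^ ((l : ℕ) : ℤ))⁻¹ := by group
          _ = a ^ ((i : ℕ) : ℤ) * b ^ ((j : ℕ) : ℤ) * ((a ^ ((k : ℕ) : ℤ))⁻¹ * (b ^ ((l : ℕ) : ℤ))⁻¹) := by
            rw [((h.zpow_zpow ((k : ℕ) : ℤ) ((j : ℕ) : ℤ)).inv_left).eq]; group
          _ = _ := by
            rw [e', ((h.zpow_zpow ((k : ℕ) : ℤ) ((l : ℕ) : ℤ)).inv_inv).eq]; group)
      have := i.isLt; have := j.isLt; have := k.isLt; have := l.isLt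
      exact Prod.ext (Fin.ext (by simp only; omega)) (Fin.ext (by simp only; omega))
    · rintro ⟨x, i, j, rfl⟩
      refine ⟨(⟨(i % 3).toNat, by omega⟩, ⟨(j % 3).toNat, by omega⟩), Subtype.ext ?_⟩
      simp only
      rw [Int.toNat_of_nonneg (by omega), Int.toNat_of_nonneg (by omega), ← pow_three_zpow ha, ← pow_three_zpow hb]
  rw [← Nat.card_congr (Equiv.ofBijective _ hbij)]
  simp

namespace Hyp

variable (S : Hyp G t)

/-- a second generator -/
structure Side (w : G) : Prop where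
  mem : w ∈ S.P
  three : w ^ 3 = 1
  out : w ∉ Subgroup.zpowers S.u
  conj : IsConj S.u w

variable {S}
variable {w : G} (hw : S.Side w)

/-- the elementary subgroup -/
noncomputable def Side.A : Subgroup G := pairSub S.u w (show Commute S.u w from (S.P_comm hw.mem).symm)

theorem Side.u_mem : S.u ∈ hw.A := ⟨1, 0, by simp⟩

theorem Side.w_mem : w ∈ hw.A := ⟨0, 1, by simp⟩

theorem Side.zpowers_le : Subgroup.zpowers S.u ≤ hw.A := Subgroup.zpowers_le.2 hw.u_mem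

theorem Side.card_A : Nat.card hw.A = 9 := card_pairSub _ S.u_three hw.three S.u_ne hw.out

theorem Side.A_le : hw.A ≤ S.P := by
  rintro x ⟨i, j, rfl⟩
  exact S.P.mul_mem (S.P.zpow_mem S.u_mem i) (S.P.zpow_mem hw.mem j)

theorem Side.A_comm {a b : G} (ha : a ∈ hw.A) (hb : b ∈ hw.A) : a * b = b * a := by
  obtain ⟨i, j, rfl⟩ := ha
  obtain ⟨k, l, rfl⟩ := hb
  have c : Commute S.u w := (S.P_comm hw.mem).symm
  exact (((Commute.refl S.u).zpow_zpow i k).mul_right (c.zpow_zpow i l)).mul_left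
    ((c.symm.zpow_zpow j k).mul_right ((Commute.refl w).zpow_zpow j l)) |>.eq

theorem Side.A_three {a : G} (ha : a ∈ hw.A) : a ^ 3 = 1 := by
  obtain ⟨i, j, rfl⟩ := ha
  have c : Commute S.u w := (S.P_comm hw.mem).symm
  rw [(c.zpow_zpow i j).mul_pow, ← zpow_natCast (S.u ^ i), ← zpow_natCast (w ^ j), ← zpow_mul, ← zpow_mul,
    pow_three_zpow S.u_three, pow_three_zpow hw.three]
  simp

variable (S)

theorem center_eq : ∀ x : S.P, x ∈ Subgroup.center S.P ↔ (x : G) ∈ Subgroup.zpowers S.u := by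
  intro x
  refine ⟨fun hx => S.center_P x.2 fun y hy => congrArg Subtype.val (Subgroup.mem_center_iff.1 hx ⟨y, hy⟩),
    fun hx => Subgroup.mem_center_iff.2 fun y => Subtype.ext ?_⟩
  obtain ⟨i, hi⟩ := Subgroup.mem_zpowers_iff.1 hx
  push_cast
  rw [← hi]
  exact ((show Commute (y : G) S.u from S.P_comm y.2).zpow_right i).eq

theorem quot_comm (a b : S.P ⧸ Subgroup.center S.P) : a * b = b * a := by
  haveI : Fact (Nat.Prime 3) := ⟨Nat.prime_three⟩
  have hc : Nat.card (Subgroup.center S.P) = 3 := by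
    rw [← S.orderOf_u, ← Nat.card_zpowers]
    refine Nat.card_congr
      { toFun := fun x => ⟨(x : S.P), (S.center_eq _).1 x.2⟩
        invFun := fun x => ⟨⟨x.1, Subgroup.zpowers_le.2 S.u_mem x.2⟩, (S.center_eq _).2 x.2⟩
        left_inv := fun x => rfl
        right_inv := fun x => rfl }
  have := IsPGroup.isMulCommutative_of_card_eq_prime_sq (p := 3) (G := S.P ⧸ Subgroup.center S.P) (by
    have hi := (Subgroup.center S.P).index_mul_card
    rw [hc, S.card_P, Subgroup.index_eq_card] at hi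
    omega)
  exact this.is_comm.comm a b

theorem commutator_mem {x y : G} (hx : x ∈ S.P) (hy : y ∈ S.P) : x * y * x⁻¹ * y⁻¹ ∈ Subgroup.zpowers S.u := by
  refine (S.center_eq (⟨x, hx⟩ * ⟨y, hy⟩ * ⟨x, hx⟩⁻¹ * ⟨y, hy⟩⁻¹)).1 ?_
  rw [← QuotientGroup.eq_one_iff, QuotientGroup.mk_mul, QuotientGroup.mk_mul, QuotientGroup.mk_mul, QuotientGroup.mk_inv,
    QuotientGroup.mk_inv, S.quot_comm ((⟨x, hx⟩ : S.P) : S.P ⧸ Subgroup.center S.P)]
  group

variable {S}

theorem normalizer_of_finite {H : Subgroup G} {n : G} (h : ∀ a ∈ H, n * a * n⁻¹ ∈ H) :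
    n ∈ Subgroup.normalizer (H : Set G) := by
  have hle : H.map (MulAut.conj n).toMonoidHom ≤ H := by
    rintro _ ⟨a, ha, rfl⟩; exact h a ha
  have heq := Subgroup.eq_of_le_of_card_ge hle (by rw [Subgroup.card_map_of_injective (MulAut.conj n).injective])
  rw [Subgroup.mem_normalizer_iff]
  refine fun a => ⟨h a, fun ha => ?_⟩
  rw [← heq] at ha
  obtain ⟨b, hb, hab⟩ := ha
  have : n * b * n⁻¹ = n * a * n⁻¹ := hab
  rwa [← mul_left_cancel (mul_right_cancel this)]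

theorem Side.P_norm : S.P ≤ Subgroup.normalizer (hw.A : Set G) := fun x hx =>
  normalizer_of_finite fun a ha => by
    have := hw.A.mul_mem (hw.zpowers_le (S.commutator_mem hx (hw.A_le ha))) ha
    simpa using this

/-- the normaliser acts on the non-trivial elements -/
theorem Side.t_norm_of (h : t * w * t⁻¹ * w ∈ Subgroup.zpowers S.u) : t ∈ Subgroup.normalizer (hw.A : Set G) :=
  normalizer_of_finite fun a ha => by
    obtain ⟨i, j, rfl⟩ := ha
    rw [show t * (S.u ^ i * w ^ j) * t⁻¹ = (t * S.u * t⁻¹) ^ i * (t * w * t⁻¹) ^ j by rw [conj_zpow, conj_zpow]; group,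
      S.conj_u_t]
    refine hw.A.mul_mem (hw.A.zpow_mem hw.u_mem i) (hw.A.zpow_mem ?_ j)
    have := hw.A.mul_mem (hw.zpowers_le h) (hw.A.inv_mem hw.w_mem)
    simpa using this

variable (S)

/-- the fixed vector of `s` -/
noncomputable def v1 : G := (S.exists_fixed S.flip_s).choose

/-- the fixed vector of `t s` -/
noncomputable def v2 : G := (S.exists_fixed (S.flip_mul S.flip_s)).choose

theorem side1 : S.Side S.v1 := by
  obtain ⟨a, -, b, -, c, -, d⟩ := (S.exists_fixed S.flip_s).choose_spec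
  exact ⟨a, b, c, d⟩

theorem side2 : S.Side S.v2 := by
  obtain ⟨a, -, b, -, c, -, d⟩ := (S.exists_fixed (S.flip_mul S.flip_s)).choose_spec
  exact ⟨a, b, c, d⟩

theorem conj_v : S.s * S.v1 * S.s⁻¹ = S.v1 ∧ S.s * S.v2 * S.s⁻¹ = S.v2⁻¹ ∧ t * S.v1 * t⁻¹ = S.v1⁻¹ ∧
    t * S.v2 * t⁻¹ = S.v2⁻¹ := by
  obtain ⟨-, -, -, a, -, b, -⟩ := (S.exists_fixed S.flip_s).choose_spec
  obtain ⟨-, -, -, c, -, d, -⟩ := (S.exists_fixed (S.flip_mul S.flip_s)).choose_spec
  refine ⟨?_, ?_, b, d⟩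
  · rw [show S.s * S.v1 = S.v1 * S.s from a.symm, mul_inv_cancel_right]
  · have t2 := (orderOf_two_iff.1 S.ht).1
    have h : (t * S.s) * S.v2 * (t * S.s)⁻¹ = S.v2 := by
      rw [show (t * S.s) * S.v2 = S.v2 * (t * S.s) from c.symm, mul_inv_cancel_right]
    calc S.s * S.v2 * S.s⁻¹ = t⁻¹ * ((t * S.s) * S.v2 * (t * S.s)⁻¹) * t := by group
      _ = t⁻¹ * S.v2 * t := by rw [h]
      _ = t * S.v2 * t⁻¹ := by rw [inv_eq_of_mul_eq_one_left t2]
      _ = _ := d

theorem v2_not_mem : S.v2 ∉ S.side1.A := by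
  rintro ⟨i, j, e⟩
  obtain ⟨-, -, -, c, -, -, -⟩ := (S.exists_fixed (S.flip_mul S.flip_s)).choose_spec
  have h1 : (t * S.s) * S.u * (t * S.s)⁻¹ = S.u⁻¹ := (S.flip_mul S.flip_s).2.2
  have h2 : (t * S.s) * S.v1 * (t * S.s)⁻¹ = S.v1⁻¹ := by
    calc (t * S.s) * S.v1 * (t * S.s)⁻¹ = t * (S.s * S.v1 * S.s⁻¹) * t⁻¹ := by group
      _ = _ := by rw [S.conj_v.1, S.conj_v.2.2.1]
  have h3 : (t * S.s) * S.v2 * (t * S.s)⁻¹ = S.v2 := by
    rw [show (t * S.s) * S.v2 = S.v2 * (t * S.s) from c.symm, mul_inv_cancel_right]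
  have c : Commute S.u S.v1 := (S.P_comm S.side1.mem).symm
  have h4 : (t * S.s) * S.v2 * (t * S.s)⁻¹ = S.v2⁻¹ := by
    rw [e, show (t * S.s) * (S.u ^ i * S.v1 ^ j) * (t * S.s)⁻¹ =
      ((t * S.s) * S.u * (t * S.s)⁻¹) ^ i * ((t * S.s) * S.v1 * (t * S.s)⁻¹) ^ j by rw [conj_zpow, conj_zpow]; group,
      h1, h2, inv_zpow, inv_zpow, ← mul_inv_rev, (c.zpow_zpow i j).eq]
  rw [h3] at h4
  have h5 : S.v2 * S.v2 = 1 := by rw [eq_comm, inv_eq_iff_mul_eq_one] at h4; exact h4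
  have := S.side2.three
  rw [pow_succ, pow_two, h5, one_mul] at this
  exact S.side2.out (this ▸ Subgroup.one_mem _)

theorem decompose {x : G} (hx : x ∈ S.P) : ∃ k : ℤ, x * (S.v2 ^ k)⁻¹ ∈ S.side1.A := by
  classical
  haveI : Fact (Nat.Prime 3) := ⟨Nat.prime_three⟩
  set K := S.side1.A.subgroupOf S.P with hK
  haveI hn : K.Normal := ⟨fun a ha g => Subgroup.mem_subgroupOf.2 (by
    push_cast
    exact (Subgroup.mem_normalizer_iff.1 (S.side1.P_norm g.2) _).1 (Subgroup.mem_subgroupOf.1 ha))⟩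
  have hq : Nat.card (S.P ⧸ K) = 3 := by
    have hi := K.index_mul_card
    rw [Nat.card_congr (Subgroup.subgroupOfEquivOfLe S.side1.A_le).toEquiv, S.side1.card_A, S.card_P,
      Subgroup.index_eq_card] at hi
    omega
  have hne : ((⟨S.v2, S.side2.mem⟩ : S.P) : S.P ⧸ K) ≠ 1 := fun e =>
    S.v2_not_mem (Subgroup.mem_subgroupOf.1 ((QuotientGroup.eq_one_iff _).1 e))
  have htop := mem_zpowers_of_prime_card hq (g := ((⟨S.v2, S.side2.mem⟩ : S.P) : S.P ⧸ K))
    (g' := ((⟨x, hx⟩ : S.P) : S.P ⧸ K)) hne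
  obtain ⟨k, hk⟩ := Subgroup.mem_zpowers_iff.1 htop
  refine ⟨k, ?_⟩
  have hm : ((⟨x, hx⟩ * (⟨S.v2, S.side2.mem⟩ ^ k)⁻¹ : S.P) : S.P ⧸ K) = 1 := by
    rw [QuotientGroup.mk_mul, QuotientGroup.mk_inv, QuotientGroup.mk_zpow, hk, mul_inv_cancel]
  simpa using Subgroup.mem_subgroupOf.1 ((QuotientGroup.eq_one_iff _).1 hm)

theorem t_inverts {x : G} (hx : x ∈ S.P) : t * x * t⁻¹ * x ∈ Subgroup.zpowers S.u := by
  obtain ⟨k, hk⟩ := S.decompose hx
  set a := x * (S.v2 ^ k)⁻¹ with ha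
  have ha' : t * a * t⁻¹ * a ∈ Subgroup.zpowers S.u := by
    obtain ⟨i, j, e⟩ := hk
    rw [e, show t * (S.u ^ i * S.v1 ^ j) * t⁻¹ = (t * S.u * t⁻¹) ^ i * (t * S.v1 * t⁻¹) ^ j by
      rw [conj_zpow, conj_zpow]; group, S.conj_u_t, S.conj_v.2.2.1, inv_zpow]
    have c : Commute S.u S.v1 := (S.P_comm S.side1.mem).symm
    have : S.u ^ i * (S.v1 ^ j)⁻¹ * (S.u ^ i * S.v1 ^ j) = S.u ^ (i + i) := by
      rw [(c.zpow_zpow i j).eq, zpow_add]; group
    rw [this]
    exact Subgroup.zpow_mem_zpowers _ _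
  have haP : a ∈ S.P := S.side1.A_le hk
  set b := S.v2 ^ k
  have hbP : b ∈ S.P := S.P.zpow_mem S.side2.mem k
  have hb : t * b * t⁻¹ = b⁻¹ := by rw [← conj_zpow, S.conj_v.2.2.2, inv_zpow]
  have hx' : x = a * b := by rw [ha]; group
  have key : t * x * t⁻¹ * x = (t * a * t⁻¹ * a) * (a⁻¹ * b⁻¹ * a⁻¹⁻¹ * b⁻¹⁻¹) := by
    rw [hx', show t * (a * b) * t⁻¹ = (t * a * t⁻¹) * (t * b * t⁻¹) by group, hb]
    group
  rw [key]
  exact Subgroup.mul_mem _ ha' (S.commutator_mem (S.P.inv_mem haP) (S.P.inv_mem hbP))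

variable {S}

theorem Side.t_norm : t ∈ Subgroup.normalizer (hw.A : Set G) := hw.t_norm_of (S.t_inverts hw.mem)

theorem Side.cent_norm {n : G} (hn : n * S.u = S.u * n) : n ∈ Subgroup.normalizer (hw.A : Set G) := by
  rcases S.cent_cases hn with h | h
  · exact hw.P_norm h
  · have := Subgroup.mul_mem _ (hw.P_norm h) (Subgroup.inv_mem _ hw.t_norm)
    simpa using this

/-- conjugates of `u` inside the normaliser of `A` -/
def Side.orb : Set G := {a | ∃ n ∈ Subgroup.normalizer (hw.A : Set G), n * S.u * n⁻¹ = a}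

theorem Side.orb_step {a n : G} (ha : a ∈ hw.orb) (hn : n ∈ Subgroup.normalizer (hw.A : Set G)) :
    n * a * n⁻¹ ∈ hw.orb := by
  obtain ⟨m, hm, rfl⟩ := ha
  exact ⟨n * m, Subgroup.mul_mem _ hn hm, by group⟩

theorem Side.orb_mem {a : G} (ha : a ∈ hw.orb) : a ∈ hw.A := by
  obtain ⟨n, hn, rfl⟩ := ha
  exact (Subgroup.mem_normalizer_iff.1 hn _).1 hw.u_mem

theorem Side.exists_moving : ∃ n ∈ Subgroup.normalizer (hw.A : Set G), n * S.u * n⁻¹ ∉ Subgroup.zpowers S.u := by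
  obtain ⟨g, hg⟩ := isConj_iff.1 hw.conj
  -- the conjugate of `P` at `w`
  have hmem : ∀ a ∈ hw.A, g⁻¹ * a * g ∈ S.P := fun a ha => by
    refine S.mem_P ?_ ?_
    · calc g⁻¹ * a * g * S.u = g⁻¹ * (a * (g * S.u * g⁻¹)) * g := by group
        _ = g⁻¹ * ((g * S.u * g⁻¹) * a) * g := by rw [hg, hw.A_comm ha hw.w_mem]
        _ = _ := by group
    · rw [show g⁻¹ * a * g = g⁻¹ * a * g⁻¹⁻¹ by group, conj_pow, show 27 = 3 * 9 by norm_num, pow_mul,
        hw.A_three ha]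
      group
  have hnorm : ∀ x ∈ S.P, g * x * g⁻¹ ∈ Subgroup.normalizer (hw.A : Set G) := fun x hx =>
    normalizer_of_finite fun a ha => by
      obtain ⟨i, hi⟩ := Subgroup.mem_zpowers_iff.1 (S.commutator_mem hx (hmem a ha))
      have e : g * x * g⁻¹ * a * (g * x * g⁻¹)⁻¹ = w ^ i * a := by
        rw [← hg, conj_zpow, hi]; group
      rw [e]
      exact hw.A.mul_mem (hw.A.zpow_mem hw.w_mem i) ha
  by_contra hno
  push Not at hno
  have hPP : ∀ x ∈ S.P, g * x * g⁻¹ ∈ S.P := by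
    intro x hx
    refine S.mem_P ?_ (by rw [conj_pow, S.P_pow hx]; group)
    set y := g * x * g⁻¹ with hy
    have hy27 : y ^ 27 = 1 := by rw [hy, conj_pow, S.P_pow hx]; group
    rcases mem_zpowers_three S.u_three (hno y (hnorm x hx)) with e | e | e
    · exact absurd (by calc S.u = y⁻¹ * (y * S.u * y⁻¹) * y := by group
                          _ = 1 := by rw [e]; group) S.u_ne
    · exact mul_inv_eq_iff_eq_mul.1 e
    · exfalso
      have e2 : y ^ 2 * S.u * (y ^ 2)⁻¹ = S.u := by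
        rw [pow_two, show y * y * S.u * (y * y)⁻¹ = y * (y * S.u * y⁻¹) * y⁻¹ by group, e,
          show y * S.u⁻¹ * y⁻¹ = (y * S.u * y⁻¹)⁻¹ by group, e, inv_inv]
      have c2 : Commute (y ^ 2) S.u := mul_inv_eq_iff_eq_mul.1 e2
      have cy : Commute y S.u := by
        rw [show y = (y ^ 2) ^ 14 by rw [← pow_mul, show 2 * 14 = 27 + 1 by norm_num, pow_succ, hy27, one_mul]]
        exact c2.pow_left 14
      rw [show y * S.u = S.u * y from cy, mul_inv_cancel_right] at e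
      exact S.u_ne_inv e.symm
  -- then `w` would be central in `P`
  have hmap : S.P.map (MulAut.conj g).toMonoidHom = S.P :=
    Subgroup.eq_of_le_of_card_ge (by rintro _ ⟨x, hx, rfl⟩; exact hPP x hx)
      (by rw [Subgroup.card_map_of_injective (MulAut.conj g).injective])
  refine hw.out (S.center_P hw.mem fun y hy => ?_)
  rw [← hmap] at hy
  obtain ⟨x, hx, rfl⟩ := hy
  show g * x * g⁻¹ * w = w * (g * x * g⁻¹)
  rw [← hg]
  calc g * x * g⁻¹ * (g * S.u * g⁻¹) = g * (x * S.u) * g⁻¹ := by group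
    _ = g * (S.u * x) * g⁻¹ := by rw [S.P_comm hx]
    _ = _ := by group

theorem Side.out_mem_orb {a : G} (ha : a ∈ hw.A) (hout : a ∉ Subgroup.zpowers S.u) : a ∈ hw.orb := by
  obtain ⟨x, hx, hxw⟩ : ∃ x ∈ S.P, x * w ≠ w * x := by
    by_contra hno
    push Not at hno
    exact hw.out (S.center_P hw.mem hno)
  obtain ⟨k, hk⟩ := Subgroup.mem_zpowers_iff.1 (S.commutator_mem hx hw.mem)
  have hk3 : ¬ (3 : ℤ) ∣ k := fun hd => hxw (by
    rw [pow_three_zpow S.u_three, Int.emod_eq_zero_of_dvd hd, zpow_zero, eq_comm, mul_inv_eq_one,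
      mul_inv_eq_iff_eq_mul] at hk
    exact hk)
  have hkk : k % 3 = 1 ∨ k % 3 = 2 := by omega
  have cuw : Commute S.u w := (S.P_comm hw.mem).symm
  have hxn : ∀ n : ℕ, x ^ n * w * (x ^ n)⁻¹ = S.u ^ (k * n) * w := by
    intro n
    induction n with
    | zero => simp
    | succ n ih =>
      rw [pow_succ', show x * x ^ n * w * (x * x ^ n)⁻¹ = x * (x ^ n * w * (x ^ n)⁻¹) * x⁻¹ by group, ih,
        show x * (S.u ^ (k * n) * w) * x⁻¹ = (x * S.u ^ (k * n) * x⁻¹) * (x * w * x⁻¹) by group,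
        show x * w * x⁻¹ = S.u ^ k * w by rw [hk]; group,
        ((show Commute x S.u from S.P_comm hx).zpow_right _).eq, mul_inv_cancel_right, ← mul_assoc, ← zpow_add]
      push_cast; ring_nf
  have move : ∀ (i j : ℤ), ¬ (3 : ℤ) ∣ j → ∃ n ∈ Subgroup.normalizer (hw.A : Set G),
      n * w * n⁻¹ = S.u ^ i * w ^ j := by
    intro i j hj
    have hj' : j % 3 = 1 ∨ j % 3 = 2 := by omega
    have get : ∀ m : ℤ, ∃ n ∈ Subgroup.normalizer (hw.A : Set G), n * w * n⁻¹ = S.u ^ m * w := by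
      intro m
      obtain ⟨n, hn⟩ : ∃ n : ℕ, (k * n) % 3 = m % 3 := by
        rcases hkk with e | e <;> have : m % 3 = 0 ∨ m % 3 = 1 ∨ m % 3 = 2 := by omega
        all_goals rcases this with f | f | f <;> first | exact ⟨0, by omega⟩ | exact ⟨1, by omega⟩ | exact ⟨2, by omega⟩
      refine ⟨x ^ n, hw.P_norm (S.P.pow_mem hx n), ?_⟩
      rw [hxn, pow_three_zpow S.u_three, hn, ← pow_three_zpow S.u_three]
    rcases hj' with e | e
    · obtain ⟨n, hn, hnw⟩ := get i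
      exact ⟨n, hn, by rw [hnw, pow_three_zpow hw.three j, e, zpow_one]⟩
    · obtain ⟨l, hl⟩ := Subgroup.mem_zpowers_iff.1 (S.t_inverts hw.mem)
      obtain ⟨n, hn, hnw⟩ := get (i - l)
      refine ⟨t * n, Subgroup.mul_mem _ hw.t_norm hn, ?_⟩
      rw [show t * n * w * (t * n)⁻¹ = t * (n * w * n⁻¹) * t⁻¹ by group, hnw,
        show t * (S.u ^ (i - l) * w) * t⁻¹ = (t * S.u * t⁻¹) ^ (i - l) * (t * w * t⁻¹) by rw [conj_zpow]; group,
        S.conj_u_t, show t * w * t⁻¹ = S.u ^ l * w⁻¹ by rw [hl]; group, ← mul_assoc, ← zpow_add,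
        pow_three_zpow hw.three j, e]
      have h2 : w⁻¹ = w ^ (2 : ℤ) := by
        rw [show (2 : ℤ) = ((2 : ℕ) : ℤ) from rfl, zpow_natCast]
        exact inv_eq_of_mul_eq_one_right (by rw [← pow_succ', hw.three])
      rw [h2, sub_add_cancel]
  obtain ⟨n, hn, hnout⟩ := hw.exists_moving
  obtain ⟨i₀, j₀, e₀⟩ := (Subgroup.mem_normalizer_iff.1 hn _).1 hw.u_mem
  have hj₀ : ¬ (3 : ℤ) ∣ j₀ := fun hd => hnout (by
    rw [e₀, pow_three_zpow hw.three, Int.emod_eq_zero_of_dvd hd, zpow_zero, mul_one]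
    exact Subgroup.zpow_mem_zpowers _ _)
  obtain ⟨n₀, hn₀, e₀'⟩ := move i₀ j₀ hj₀
  obtain ⟨i, j, rfl⟩ := ha
  have hj : ¬ (3 : ℤ) ∣ j := fun hd => hout (by
    rw [pow_three_zpow hw.three, Int.emod_eq_zero_of_dvd hd, zpow_zero, mul_one]
    exact Subgroup.zpow_mem_zpowers _ _)
  obtain ⟨n₁, hn₁, e₁⟩ := move i j hj
  refine ⟨n₁ * n₀⁻¹ * n, Subgroup.mul_mem _ (Subgroup.mul_mem _ hn₁ (Subgroup.inv_mem _ hn₀)) hn, ?_⟩
  calc n₁ * n₀⁻¹ * n * S.u * (n₁ * n₀⁻¹ * n)⁻¹ = n₁ * (n₀⁻¹ * (n * S.u * n⁻¹) * n₀) * n₁⁻¹ := by group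
    _ = n₁ * w * n₁⁻¹ := by rw [e₀, ← e₀']; group
    _ = _ := e₁

theorem Side.cent_sub : (Subgroup.centralizer ({S.u} : Set G)) ≤ Subgroup.normalizer (hw.A : Set G) :=
  fun _ hn => hw.cent_norm (Subgroup.mem_centralizer_singleton_iff.1 hn)

theorem Side.inv_mem_orb : S.u⁻¹ ∈ hw.orb := by
  classical
  by_contra hno
  haveI := Fintype.ofFinite G
  set N := Subgroup.normalizer (hw.A : Set G)
  set C := Subgroup.centralizer ({S.u} : Set G)
  -- the orbit has exactly seven elements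
  let O : Set G := {a | a ∈ hw.A ∧ a ≠ 1 ∧ a ≠ S.u⁻¹}
  have hO : Nat.card O = 7 := by
    have h9 := hw.card_A
    have hb : (Finset.univ.filter fun a : G => a ∈ hw.A).card = 9 := by
      rw [← h9, Nat.card_eq_fintype_card, Fintype.card_subtype]
    have hfin : O.toFinset = ((Finset.univ.filter fun a : G => a ∈ hw.A).erase 1).erase S.u⁻¹ := by
      ext a; simp [O]; tauto
    rw [Nat.card_eq_card_toFinset, hfin, Finset.card_erase_of_mem, Finset.card_erase_of_mem, hb]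
    · simp [hw.A.one_mem]
    · simp [hw.A.inv_mem hw.u_mem, S.u_ne]
  let g : ↥N ⧸ C.subgroupOf N → O := fun q => ⟨(q.out : G) * S.u * (q.out : G)⁻¹,
    hw.orb_mem ⟨_, q.out.2, rfl⟩, fun e => S.u_ne (by
      calc S.u = (q.out : G)⁻¹ * ((q.out : G) * S.u * (q.out : G)⁻¹) * (q.out : G) := by group
        _ = 1 := by rw [e]; group), fun e => hno ⟨_, q.out.2, e⟩⟩
  have hg : Function.Bijective g := by
    refine ⟨fun a b h => ?_, fun o => ?_⟩
    · have h' : (a.out : G) * S.u * (a.out : G)⁻¹ = (b.out : G) * S.u * (b.out : G)⁻¹ := congrArg Subtype.val h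
      rw [← QuotientGroup.out_eq' a, ← QuotientGroup.out_eq' b, QuotientGroup.eq, Subgroup.mem_subgroupOf,
        Subgroup.mem_centralizer_singleton_iff]
      push_cast
      calc (a.out : G)⁻¹ * b.out * S.u = (a.out : G)⁻¹ * ((b.out : G) * S.u * (b.out : G)⁻¹) * b.out := by group
        _ = (a.out : G)⁻¹ * ((a.out : G) * S.u * (a.out : G)⁻¹) * b.out := by rw [h']
        _ = _ := by group
    · obtain ⟨a, ha, ha1, ha2⟩ := o
      have horb : a ∈ hw.orb := by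
        by_cases hz : a ∈ Subgroup.zpowers S.u
        · rcases mem_zpowers_three S.u_three hz with e | e | e
          · exact absurd e ha1
          · exact ⟨1, Subgroup.one_mem _, by rw [e]; group⟩
          · exact absurd e ha2
        · exact hw.out_mem_orb ha hz
      obtain ⟨n, hn, hna⟩ := horb
      refine ⟨QuotientGroup.mk ⟨n, hn⟩, Subtype.ext ?_⟩
      have h := Subgroup.mem_subgroupOf.1
        (QuotientGroup.eq.1 (QuotientGroup.out_eq' (QuotientGroup.mk (s := C.subgroupOf N) (⟨n, hn⟩ : N))).symm)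
      rw [Subgroup.mem_centralizer_singleton_iff] at h
      push_cast at h
      show _ * S.u * _⁻¹ = a
      rw [← hna]
      generalize ((QuotientGroup.mk (s := C.subgroupOf N) (⟨n, hn⟩ : N)).out : G) = m at h ⊢
      calc m * S.u * m⁻¹ = n * (n⁻¹ * m * S.u) * m⁻¹ := by group
        _ = n * (S.u * (n⁻¹ * m)) * m⁻¹ := by rw [h]
        _ = _ := by group
  have hi := (C.subgroupOf N).index_mul_card
  rw [Nat.card_congr (Subgroup.subgroupOfEquivOfLe hw.cent_sub).toEquiv, S.card_cent_u, Subgroup.index_eq_card,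
    Nat.card_congr (Equiv.ofBijective g hg), hO] at hi
  have := S.card ▸ Subgroup.card_subgroup_dvd_card N
  rw [← hi] at this
  norm_num at this

theorem Side.orb_eq {a : G} (ha : a ∈ hw.A) (h1 : a ≠ 1) : a ∈ hw.orb := by
  by_cases hz : a ∈ Subgroup.zpowers S.u
  · rcases mem_zpowers_three S.u_three hz with e | e | e
    · exact absurd e h1
    · exact ⟨1, Subgroup.one_mem _, by rw [e]; group⟩
    · exact e ▸ hw.inv_mem_orb
  · exact hw.out_mem_orb ha hz

theorem Side.flip_norm {r : G} (hr : S.IsFlip r) : r ∈ Subgroup.normalizer (hw.A : Set G) := by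
  obtain ⟨n, hn, e⟩ := hw.inv_mem_orb
  have hm := hw.cent_norm (S.flip_cases e hr)
  have := Subgroup.mul_mem _ (Subgroup.inv_mem _ hn) hm
  simpa using this

theorem Side.card_normalizer : Nat.card (Subgroup.normalizer (hw.A : Set G)) = 432 := by
  classical
  set N := Subgroup.normalizer (hw.A : Set G)
  set C := Subgroup.centralizer ({S.u} : Set G)
  let O : Set G := {a | a ∈ hw.A ∧ a ≠ 1}
  have hO : Nat.card O = 8 := by
    haveI := Fintype.ofFinite G
    have hb : (Finset.univ.filter fun a : G => a ∈ hw.A).card = 9 := by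
      rw [← hw.card_A, Nat.card_eq_fintype_card, Fintype.card_subtype]
    have hfin : O.toFinset = (Finset.univ.filter fun a : G => a ∈ hw.A).erase 1 := by
      ext a; simp [O]; tauto
    rw [Nat.card_eq_card_toFinset, hfin, Finset.card_erase_of_mem, hb]
    simp [hw.A.one_mem]
  let g : ↥N ⧸ C.subgroupOf N → O := fun q => ⟨(q.out : G) * S.u * (q.out : G)⁻¹,
    hw.orb_mem ⟨_, q.out.2, rfl⟩, fun e => S.u_ne (by
      calc S.u = (q.out : G)⁻¹ * ((q.out : G) * S.u * (q.out : G)⁻¹) * (q.out : G) := by group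
        _ = 1 := by rw [e]; group)⟩
  have hg : Function.Bijective g := by
    refine ⟨fun a b h => ?_, fun o => ?_⟩
    · have h' : (a.out : G) * S.u * (a.out : G)⁻¹ = (b.out : G) * S.u * (b.out : G)⁻¹ := congrArg Subtype.val h
      rw [← QuotientGroup.out_eq' a, ← QuotientGroup.out_eq' b, QuotientGroup.eq, Subgroup.mem_subgroupOf,
        Subgroup.mem_centralizer_singleton_iff]
      push_cast
      calc (a.out : G)⁻¹ * b.out * S.u = (a.out : G)⁻¹ * ((b.out : G) * S.u * (b.out : G)⁻¹) * b.out := by group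
        _ = (a.out : G)⁻¹ * ((a.out : G) * S.u * (a.out : G)⁻¹) * b.out := by rw [h']
        _ = _ := by group
    · obtain ⟨a, ha, ha1⟩ := o
      obtain ⟨n, hn, hna⟩ := hw.orb_eq ha ha1
      refine ⟨QuotientGroup.mk ⟨n, hn⟩, Subtype.ext ?_⟩
      have h := Subgroup.mem_subgroupOf.1
        (QuotientGroup.eq.1 (QuotientGroup.out_eq' (QuotientGroup.mk (s := C.subgroupOf N) (⟨n, hn⟩ : N))).symm)
      rw [Subgroup.mem_centralizer_singleton_iff] at h
      push_cast at h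
      show _ * S.u * _⁻¹ = a
      rw [← hna]
      generalize ((QuotientGroup.mk (s := C.subgroupOf N) (⟨n, hn⟩ : N)).out : G) = m at h ⊢
      calc m * S.u * m⁻¹ = n * (n⁻¹ * m * S.u) * m⁻¹ := by group
        _ = n * (S.u * (n⁻¹ * m)) * m⁻¹ := by rw [h]
        _ = _ := by group
  have hi := (C.subgroupOf N).index_mul_card
  rw [Nat.card_congr (Subgroup.subgroupOfEquivOfLe hw.cent_sub).toEquiv, S.card_cent_u, Subgroup.index_eq_card,
    Nat.card_congr (Equiv.ofBijective g hg), hO] at hi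
  omega

theorem Side.A_eq {v : G} (hv : S.Side v) (h : v ∈ hw.A) : hv.A = hw.A := by
  refine Subgroup.eq_of_le_of_card_ge ?_ (by rw [hw.card_A, hv.card_A])
  rintro x ⟨i, j, rfl⟩
  exact hw.A.mul_mem (hw.A.zpow_mem hw.u_mem i) (hw.A.zpow_mem h j)

/-- every such subgroup is one of the two standard ones -/
theorem Side.cases : hw.A = S.side1.A ∨ hw.A = S.side2.A := by
  obtain ⟨k, hk⟩ := S.decompose hw.mem
  obtain ⟨i, j, e⟩ := hk
  by_cases hj : (3 : ℤ) ∣ j
  · right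
    refine S.side2.A_eq hw ⟨i, k, ?_⟩
    rw [pow_three_zpow S.side1.three j, Int.emod_eq_zero_of_dvd hj, zpow_zero, mul_one] at e
    calc w = w * (S.v2 ^ k)⁻¹ * S.v2 ^ k := by group
      _ = _ := by rw [e]
  · left
    symm
    refine hw.A_eq S.side1 ?_
    have hs := (Subgroup.mem_normalizer_iff.1 (hw.flip_norm S.flip_s) w).1 hw.w_mem
    have hw' : w = S.u ^ i * S.v1 ^ j * S.v2 ^ k := by rw [← e]; group
    have hsw : S.s * w * S.s⁻¹ = S.u ^ (-i) * S.v1 ^ j * S.v2 ^ (-k) := by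
      rw [hw', show S.s * (S.u ^ i * S.v1 ^ j * S.v2 ^ k) * S.s⁻¹ =
        (S.s * S.u * S.s⁻¹) ^ i * (S.s * S.v1 * S.s⁻¹) ^ j * (S.s * S.v2 * S.s⁻¹) ^ k by
        rw [conj_zpow, conj_zpow, conj_zpow]; group, S.flip_s.2.2, S.conj_v.1, S.conj_v.2.1, inv_zpow', inv_zpow']
    rw [hsw] at hs
    have hmul := hw.A.mul_mem hw.w_mem hs
    replace hmul := (congrArg (fun y => y * (S.u ^ (-i) * S.v1 ^ j * S.v2 ^ (-k)) ∈ hw.A) hw').mp hmul
    set a := S.v1 ^ j
    set b := S.v2 ^ k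
    have haP : a ∈ S.P := S.P.zpow_mem S.side1.mem j
    have hbP : b ∈ S.P := S.P.zpow_mem S.side2.mem k
    have hz := hw.zpowers_le (S.commutator_mem hbP haP)
    have cu : ∀ y ∈ S.P, ∀ m : ℤ, y * S.u ^ m = S.u ^ m * y := fun y hy m =>
      ((show Commute y S.u from S.P_comm hy).zpow_right m).eq
    have e2 : S.u ^ i * a * b * (S.u ^ (-i) * a * S.v2 ^ (-k)) = a * ((b * a * b⁻¹ * a⁻¹) * a) := by
      rw [show S.v2 ^ (-k) = b⁻¹ from zpow_neg _ _]
      calc S.u ^ i * a * b * (S.u ^ (-i) * a * b⁻¹) = S.u ^ i * ((a * b) * S.u ^ (-i)) * a * b⁻¹ := by group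
        _ = S.u ^ i * (S.u ^ (-i) * (a * b)) * a * b⁻¹ := by rw [cu _ (S.P.mul_mem haP hbP)]
        _ = _ := by group
    rw [e2] at hmul
    obtain ⟨m, hm⟩ := Subgroup.mem_zpowers_iff.1 (S.commutator_mem hbP haP)
    rw [← hm, ← mul_assoc, cu a haP, mul_assoc] at hmul
    have haa : a * a ∈ hw.A := by
      have := hw.A.mul_mem (hw.A.inv_mem (hw.A.zpow_mem hw.u_mem m)) hmul
      simpa using this
    have : a ∈ hw.A := by
      have h3 : a ^ 3 = 1 := by
        rw [← zpow_natCast, ← zpow_mul, pow_three_zpow S.side1.three]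
        simp
      have := hw.A.mul_mem haa haa
      rwa [show a * a * (a * a) = a ^ 3 * a by simp [pow_succ, mul_assoc], h3, one_mul] at this
    have : S.v1 = a ^ j := by
      rw [← zpow_mul, pow_three_zpow S.side1.three]
      have : j * j % 3 = 1 := by
        rw [Int.mul_emod]
        have : j % 3 = 1 ∨ j % 3 = 2 := by omega
        rcases this with e' | e' <;> rw [e'] <;> norm_num
      rw [this, zpow_one]
    rw [this]
    exact hw.A.zpow_mem ‹a ∈ hw.A› j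

end Hyp

end Cfsg.Agent.Lead.GLTwoThree
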