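import Cfsg.Agent.Lib.Lead.GLTwoThree.Main

/-!
# The 3-local structure of a simple group of order 5616 with an involution centraliser GL(2,3)
-/

set_option autoImplicit false
set_option maxRecDepth 20000
set_option linter.style.haveILetI false

namespace Cfsg.Agent.Lead.GLTwoThree

theorem cod_check : (37 ∈ codes ∧ 29 ∈ codes) ∧ (pw 37 3 = 28 ∧ mc 56 37 = mc 37 56) ∧
    (mc 29 29 = 28 ∧ mc (mc 29 37) 29 = pw 37 2) ∧
    ((codes.filter fun x => mc x 37 == mc 37 x).length = 6) ∧
    (∀ x ∈ codes, mc x 37 = mc 37 x → mc x x = 28 → x = 28 ∨ x = 56) ∧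
    (∀ x ∈ codes, pw x 3 = 28 → x ≠ 28 → ∃ g ∈ codes, mc (mc g 37) (iv g) = x) := by decide +kernel

universe u

/-- The hypotheses. -/
structure Hyp (G : Type u) [Group G] (t : G) where
  ht : orderOf t = 2
  e : ↥(Subgroup.centralizer ({t} : Set G)) ≃* GLT
  card : Nat.card G = 5616
  simple : IsSimpleGroup G

variable {G : Type u} [Group G] [Finite G] {t : G}

namespace Hyp

variable (S : Hyp G t)

include S in
theorem not_normal {H : Subgroup G} (hH : H.Normal) (h1 : H ≠ ⊥) : H = ⊤ := by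
  haveI := S.simple
  exact (IsSimpleGroup.eq_bot_or_eq_top_of_normal H hH).resolve_left h1

include S in
theorem one_class' : ∀ u : G, orderOf u = 2 → IsConj t u := by
  haveI := S.simple
  refine one_class S.ht S.e fun H hH => ?_
  have h := Subgroup.normal_of_index_eq_two hH
  by_cases hb : H = ⊥
  · rw [hb, Subgroup.index_bot, S.card] at hH; norm_num at hH
  · rw [S.not_normal h hb, Subgroup.index_top] at hH; norm_num at hH

/-- the model inside `G` -/
noncomputable def inc : GLT →* G :=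
  (Subgroup.centralizer ({t} : Set G)).subtype.comp S.e.symm.toMonoidHom

theorem inc_injective : Function.Injective S.inc := Subtype.val_injective.comp S.e.symm.injective

theorem inc_apply (n : ↥(Subgroup.centralizer ({t} : Set G))) : S.inc (S.e n) = (n : G) := by simp [inc]

theorem inc_z {h : (56 : ℕ) ∈ codes} : S.inc (ofCode 56 h) = t := by
  have : ofCode 56 h = S.e ⟨t, t_mem⟩ := cod_injective (by rw [cod_ofCode, cod_t S.ht S.e])
  rw [this, inc_apply]

theorem inc_mem (g : GLT) : S.inc g * t = t * S.inc g := mem_cent_iff.1 (S.e.symm g).2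

theorem exists_inc {g : G} (h : g * t = t * g) : ∃ x, S.inc x = g := ⟨S.e ⟨g, mem_cent_iff.2 h⟩, S.inc_apply _⟩

/-- an element of order three centralising `t` -/
noncomputable def u : G := S.inc (ofCode 37 cod_check.1.1)

theorem orderOf_u : orderOf S.u = 3 := by
  haveI : Fact (Nat.Prime 3) := ⟨Nat.prime_three⟩
  rw [u, orderOf_injective S.inc S.inc_injective, orderOf_eq_prime_iff]
  refine ⟨cod_injective (by rw [cod_pow, cod_ofCode, cod_check.2.1.1, cod_one]), fun h => ?_⟩
  have := congrArg cod h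
  rw [cod_ofCode, cod_one] at this
  exact absurd this (by norm_num)

theorem comm_ut : S.u * t = t * S.u := S.inc_mem _

/-- an involution inverting `u` -/
noncomputable def s : G := S.inc (ofCode 29 cod_check.1.2)

theorem s_spec : S.s * S.s = 1 ∧ S.s * S.u * S.s⁻¹ = S.u⁻¹ ∧ S.s * t = t * S.s ∧ S.s ≠ 1 ∧ S.s ≠ t := by
  obtain ⟨-, ⟨hu3, -⟩, ⟨h1, h2⟩, -⟩ := cod_check
  have hss : ofCode 29 cod_check.1.2 * ofCode 29 cod_check.1.2 = 1 :=
    cod_injective (by rw [cod_mul, cod_ofCode, h1, cod_one])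
  refine ⟨by rw [s, ← map_mul, hss, map_one], ?_, S.inc_mem _, ?_, ?_⟩
  · rw [s, u, ← map_inv, ← map_mul, ← map_mul, ← map_inv]
    congr 1
    rw [inv_eq_of_mul_eq_one_right hss, eq_comm, inv_eq_iff_mul_eq_one]
    refine cod_injective ?_
    rw [cod_mul, cod_mul, cod_mul, cod_ofCode, cod_ofCode, h2, cod_one]
    decide +kernel
  · intro h
    have := congrArg cod (S.inc_injective (h.trans (map_one _).symm))
    rw [cod_ofCode, cod_one] at this
    exact absurd this (by norm_num)
  · intro h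
    have := congrArg cod (S.inc_injective (h.trans (S.inc_z (h := by decide +kernel)).symm))
    rw [cod_ofCode, cod_ofCode] at this
    exact absurd this (by norm_num)

theorem cent_ut_card (H : Subgroup G) (hH : ∀ g ∈ H, g * S.u = S.u * g ∧ g * t = t * g) : Nat.card H ≤ 6 := by
  classical
  rw [← cod_check.2.2.2.1]
  set l := codes.filter fun x => mc x 37 == mc 37 x
  have hl : l.Nodup := codes_nodup.filter _
  rw [← List.toFinset_card_of_nodup hl, ← Nat.card_eq_finsetCard]
  choose x hx using fun g : H => S.exists_inc (hH g.1 g.2).2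
  refine Nat.card_le_card_of_injective (fun g => ⟨cod (x g), List.mem_toFinset.2 (List.mem_filter.2 ⟨cod_mem _, ?_⟩)⟩) ?_
  · have h := (hH g.1 g.2).1
    rw [← hx g, u, ← map_mul, ← map_mul] at h
    simpa [cod_mul, cod_ofCode] using congrArg cod (S.inc_injective h)
  · intro a b h
    have := cod_injective (congrArg Subtype.val h)
    exact Subtype.ext (by rw [← hx a, ← hx b, this])

omit [Finite G] in
theorem card_cent_conj (g x : G) :
    Nat.card (Subgroup.centralizer ({g * x * g⁻¹} : Set G)) = Nat.card (Subgroup.centralizer ({x} : Set G)) := by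
  refine Nat.card_congr ((MulAut.conj g⁻¹).toEquiv.subtypeEquiv fun a => ?_)
  show a ∈ _ ↔ g⁻¹ * a * g⁻¹⁻¹ ∈ _
  rw [Subgroup.mem_centralizer_singleton_iff, Subgroup.mem_centralizer_singleton_iff]
  constructor
  · intro h
    calc g⁻¹ * a * g⁻¹⁻¹ * x = g⁻¹ * (a * (g * x * g⁻¹)) * g := by group
      _ = g⁻¹ * ((g * x * g⁻¹) * a) * g := by rw [h]
      _ = _ := by group
  · intro h
    calc a * (g * x * g⁻¹) = g * (g⁻¹ * a * g⁻¹⁻¹ * x) * g⁻¹ := by group
      _ = g * (x * (g⁻¹ * a * g⁻¹⁻¹)) * g⁻¹ := by rw [h]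
      _ = _ := by group

theorem invol_ut {g : G} (hu : g * S.u = S.u * g) (ht' : g * t = t * g) (h2 : g * g = 1) : g = 1 ∨ g = t := by
  obtain ⟨x, rfl⟩ := S.exists_inc ht'
  rw [u, ← map_mul, ← map_mul] at hu
  have a : mc (cod x) 37 = mc 37 (cod x) := by simpa [cod_mul, cod_ofCode] using congrArg cod (S.inc_injective hu)
  have b : mc (cod x) (cod x) = 28 := by
    rw [← cod_mul, ← cod_one]; exact congrArg cod (S.inc_injective (by rw [map_mul, h2, map_one]))
  rcases cod_check.2.2.2.2.1 _ (cod_mem x) a b with h | h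
  · left; rw [show x = 1 from cod_injective (by rw [h, cod_one]), map_one]
  · right; rw [show x = ofCode 56 (by decide +kernel) from cod_injective (by rw [h, cod_ofCode]), S.inc_z]

/-- elements of order three centralised by involutions are conjugate to `u` -/
theorem conj_u {v s' : G} (hv3 : v ^ 3 = 1) (hv1 : v ≠ 1) (hs : orderOf s' = 2) (hc : v * s' = s' * v) :
    IsConj S.u v := by
  obtain ⟨g, hg⟩ := isConj_iff.1 (S.one_class' s' hs)
  have hw : (g⁻¹ * v * g) * t = t * (g⁻¹ * v * g) := by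
    have e : t = g⁻¹ * s' * g := by rw [← hg]; group
    rw [e]
    calc g⁻¹ * v * g * (g⁻¹ * s' * g) = g⁻¹ * (v * s') * g := by group
      _ = g⁻¹ * (s' * v) * g := by rw [hc]
      _ = _ := by group
  obtain ⟨x, hx⟩ := S.exists_inc hw
  have h3 : pw (cod x) 3 = 28 := by
    rw [← cod_pow, ← cod_one]
    refine congrArg cod (S.inc_injective ?_)
    rw [map_pow, hx, map_one, show g⁻¹ * v * g = g⁻¹ * v * g⁻¹⁻¹ by group, conj_pow, hv3]; group
  have h1 : cod x ≠ 28 := fun h => hv1 (by
    have : x = 1 := cod_injective (by rw [h, cod_one])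
    rw [this, map_one] at hx
    calc v = g * (g⁻¹ * v * g) * g⁻¹ := by group
      _ = 1 := by rw [← hx]; group)
  obtain ⟨k, hk, hkx⟩ := cod_check.2.2.2.2.2 _ (cod_mem x) h3 h1
  have : x = ofCode k hk * ofCode 37 cod_check.1.1 * (ofCode k hk)⁻¹ :=
    cod_injective (by rw [cod_mul, cod_mul, cod_inv, cod_ofCode, cod_ofCode, hkx])
  refine isConj_iff.2 ⟨g * S.inc (ofCode k hk), ?_⟩
  calc g * S.inc (ofCode k hk) * S.u * (g * S.inc (ofCode k hk))⁻¹
      = g * (S.inc (ofCode k hk) * S.u * (S.inc (ofCode k hk))⁻¹) * g⁻¹ := by group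
    _ = g * S.inc x * g⁻¹ := by rw [this, map_mul, map_mul, map_inv]; rfl
    _ = v := by rw [hx]; group

include S in
theorem normalizer_thirteen (Q : Subgroup G) (hQ : Nat.card Q = 13) :
    Nat.card (Subgroup.normalizer (Q : Set G)) = 39 := by
  classical
  haveI : Fact (Nat.Prime 13) := ⟨by norm_num⟩
  let Q' : Sylow 13 G := Sylow.ofCard Q (by
    rw [hQ, S.card, Nat.factorization_def _ (by norm_num : Nat.Prime 13)]
    have : padicValNat 13 5616 = 1 := by
      rw [show (5616 : ℕ) = 13 * 432 by norm_num, padicValNat.mul (by norm_num) (by norm_num), padicValNat_self,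
        padicValNat.eq_zero_of_not_dvd (by norm_num)]
    rw [this]; norm_num)
  have hQ' : (Q' : Subgroup G) = Q := rfl
  have hmod := card_sylow_modEq_one 13 G
  have hn : Nat.card (Sylow 13 G) = (Subgroup.normalizer (Q : Set G)).index :=
    Sylow.card_eq_index_normalizer Q'
  have hmul := (Subgroup.normalizer (Q : Set G)).index_mul_card
  rw [← hn, S.card] at hmul
  have key : ∀ n ∈ Nat.divisors 5616, n % 13 = 1 → n = 1 ∨ n = 27 ∨ n = 144 := by decide +kernel
  rcases key _ (Nat.mem_divisors.2 ⟨⟨_, hmul.symm⟩, by norm_num⟩) hmod with h | h | h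
  · exfalso
    rw [h, one_mul] at hmul
    have htop : Subgroup.normalizer (Q : Set G) = ⊤ := Subgroup.eq_top_of_card_eq _ (by rw [hmul, S.card])
    have hn' := Subgroup.normalizer_eq_top_iff.1 htop
    have hb : Q ≠ ⊥ := fun e => by rw [e, Subgroup.card_bot] at hQ; norm_num at hQ
    rw [S.not_normal hn' hb, Subgroup.card_top, S.card] at hQ
    norm_num at hQ
  · exfalso
    rw [h] at hmul
    -- a Sylow 2-subgroup normalises a subgroup of order 13
    haveI : Fact (Nat.Prime 2) := ⟨Nat.prime_two⟩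
    obtain ⟨P, hqd, hP, hPC⟩ := exists_sylow S.ht S.e
    obtain ⟨T, hT⟩ := Sylow.exists_subgroup_card_pow_prime (G := ↥(Subgroup.normalizer (Q : Set G))) 2 (n := 4)
      (by rw [show Nat.card ↥(Subgroup.normalizer (Q : Set G)) = 208 by omega]; norm_num)
    have hTc : Nat.card (T.map (Subgroup.normalizer (Q : Set G)).subtype) = 16 := by
      rw [Subgroup.card_map_of_injective (Subtype.val_injective), hT]; norm_num
    let T' : Sylow 2 G := Sylow.ofCard (T.map (Subgroup.normalizer (Q : Set G)).subtype) (by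
      rw [hTc, ← Sylow.card_eq_multiplicity P, hP])
    obtain ⟨g, hg⟩ := MulAction.exists_smul_eq G P T'
    obtain ⟨n, hn3, hn4, a, b, ha, hb, hrel⟩ := hqd
    have hn' : n = 3 := by
      rw [hP, show (16 : ℕ) = 2 ^ 4 by norm_num] at hn4
      have := Nat.pow_right_injective (le_refl 2) hn4
      omega
    subst hn'
    have act : ∀ x : ↥(P : Subgroup G), g * (x : G) * g⁻¹ ∈ Subgroup.normalizer (Q : Set G) := fun x => by
      have : g * (x : G) * g⁻¹ ∈ ((T' : Sylow 2 G) : Subgroup G) := by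
        rw [← hg]; exact ⟨x, x.2, rfl⟩
      obtain ⟨y, -, hy⟩ := this
      rw [← hy]; exact y.2
    obtain ⟨q, hq⟩ := (isCyclic_of_prime_card hQ).exists_generator
    have powr : ∀ x : ↥(P : Subgroup G), ∃ i : ℤ, (g * (x : G) * g⁻¹) * (q : G) * (g * (x : G) * g⁻¹)⁻¹ = (q : G) ^ i := by
      intro x
      obtain ⟨i, hi⟩ := Subgroup.mem_zpowers_iff.1 (hq ⟨_, ((Subgroup.mem_normalizer_iff.1 (act x)) q).1 q.2⟩)
      exact ⟨i, by simpa using (congrArg Subtype.val hi).symm⟩
    set A := g * (a : G) * g⁻¹ with hA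
    set B := g * (b : G) * g⁻¹ with hB
    obtain ⟨i, hi⟩ := powr a
    obtain ⟨j, hj⟩ := powr b
    have hbb : b * b = 1 := (orderOf_two_iff.1 hb).1
    have hBB : B⁻¹ = B := inv_eq_of_mul_eq_one_right (by
      rw [hB, show g * (b : G) * g⁻¹ * (g * b * g⁻¹) = g * ((b * b : ↥(P : Subgroup G)) : G) * g⁻¹ by push_cast; group,
        hbb]; simp)
    have cA : ∀ k : ℤ, A * (q : G) ^ k * A⁻¹ = (q : G) ^ (i * k) := fun k => by
      rw [← conj_zpow, hA, hi, zpow_mul]
    have cB : ∀ k : ℤ, B * (q : G) ^ k * B⁻¹ = (q : G) ^ (j * k) := fun k => by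
      rw [← conj_zpow, hB, hj, zpow_mul]
    have hjj : (q : G) ^ (j * j) = (q : G) := by
      rw [← cB j, hB, ← hj, ← hB]
      calc B * (B * (q : G) * B⁻¹) * B⁻¹ = (B * B) * (q : G) * (B * B)⁻¹ := by group
        _ = q := by
          have : B * B = 1 := by nth_rewrite 1 [← hBB]; group
          rw [this]; simp
    have hcube : A ^ 3 = B * A * B⁻¹ := by
      rw [hA, hB, conj_pow]
      have e : ((b * a * b⁻¹ : ↥(P : Subgroup G)) : G) = ((a : G)) ^ 3 := by rw [hrel]; rfl
      rw [← e]
      push_cast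
      group
    have hsame : A ^ 3 * (q : G) * (A ^ 3)⁻¹ = A * (q : G) * A⁻¹ := by
      rw [hcube]
      have eBq : B⁻¹ * (q : G) * B = (q : G) ^ j := by
        have h := cB j
        rw [hjj] at h
        calc B⁻¹ * (q : G) * B = B⁻¹ * (B * (q : G) ^ j * B⁻¹) * B := by rw [h]
          _ = (q : G) ^ j := by group
      calc B * A * B⁻¹ * (q : G) * (B * A * B⁻¹)⁻¹ = B * (A * (B⁻¹ * (q : G) * B) * A⁻¹) * B⁻¹ := by group
        _ = A * (q : G) * A⁻¹ := by
          rw [eBq, cA, cB, show j * (i * j) = i * (j * j) by ring, ← cA, hjj]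
    have hA2 : Commute (A ^ 2) (q : G) := by
      show A ^ 2 * (q : G) = (q : G) * A ^ 2
      calc A ^ 2 * (q : G) = A⁻¹ * (A ^ 3 * (q : G) * (A ^ 3)⁻¹) * A * A ^ 2 := by group
        _ = A⁻¹ * (A * (q : G) * A⁻¹) * A * A ^ 2 := by rw [hsame]
        _ = (q : G) * A ^ 2 := by group
    have ha4 : ((a : G)) ^ 4 = t := by
      have h2 : orderOf ((a : G) ^ 4) = 2 := by
        rw [orderOf_pow' _ (by norm_num : (4 : ℕ) ≠ 0), Subgroup.orderOf_coe, ha]; norm_num
      obtain ⟨x, hx⟩ := S.exists_inc (g := (a : G)) (mem_cent_iff.1 (hPC a.2))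
      have h8 : pw (cod x) 8 = 28 ∧ pw (cod x) 4 ≠ 28 := by
        rw [← cod_pow, ← cod_pow, ← cod_one]
        refine ⟨congrArg cod (S.inc_injective ?_), fun e => ?_⟩
        · rw [map_pow, hx, map_one, show (8 : ℕ) = 4 * 2 from rfl, pow_mul, pow_two]; exact (orderOf_two_iff.1 h2).1
        · have : (a : G) ^ 4 = 1 := by rw [← hx, ← map_pow, cod_injective e, map_one]
          rw [this, orderOf_one] at h2; norm_num at h2
      have key8 : ∀ y ∈ codes, pw y 8 = 28 → pw y 4 ≠ 28 → pw y 4 = 56 := by decide +kernel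
      have h56 := key8 _ (cod_mem x) h8.1 h8.2
      rw [← hx, ← map_pow, show x ^ 4 = ofCode 56 (by decide +kernel) from
        cod_injective (by rw [cod_pow, h56, cod_ofCode]), S.inc_z]
    have hA4 : A ^ 4 = g * t * g⁻¹ := by rw [hA, conj_pow, ha4]
    have hct : (g⁻¹ * (q : G) * g) * t = t * (g⁻¹ * (q : G) * g) := by
      have h := (hA2.pow_left 2).eq
      rw [← pow_mul, hA4] at h
      calc g⁻¹ * (q : G) * g * t = g⁻¹ * ((q : G) * (g * t * g⁻¹)) * g := by group
        _ = g⁻¹ * ((g * t * g⁻¹) * (q : G)) * g := by rw [h]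
        _ = _ := by group
    have h13 : orderOf (g⁻¹ * (q : G) * g) = 13 := by
      rw [show g⁻¹ * (q : G) * g = MulAut.conj g⁻¹ q by simp, MulEquiv.orderOf_eq, Subgroup.orderOf_coe,
        orderOf_eq_card_of_forall_mem_zpowers hq, hQ]
    obtain ⟨x, hx⟩ := S.exists_inc hct
    rw [← hx, orderOf_injective S.inc S.inc_injective] at h13
    have := orderOf_dvd_natCard (G := GLT) x
    rw [h13, card_glt] at this
    norm_num at this
  · rw [h] at hmul; omega

include S in
theorem cent_thirteen {z : G} (hz : orderOf z = 3) (h13 : 13 ∣ Nat.card (Subgroup.centralizer ({z} : Set G))) :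
    Nat.card (Subgroup.centralizer ({z} : Set G)) = 39 := by
  classical
  haveI : Fact (Nat.Prime 13) := ⟨by norm_num⟩
  set C := Subgroup.centralizer ({z} : Set G) with hC
  have hcd : Nat.card C ∣ 5616 := S.card ▸ Subgroup.card_subgroup_dvd_card C
  have R : Sylow 13 C := default
  have hR : Nat.card (R : Subgroup C) = 13 := by
    obtain ⟨k, hk⟩ := (IsPGroup.iff_card).1 R.2
    have h1 : 13 ∣ Nat.card (R : Subgroup C) := Sylow.dvd_card_of_dvd_card R h13
    have h2 : Nat.card (R : Subgroup C) ∣ 5616 := (Subgroup.card_subgroup_dvd_card _).trans hcd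
    rw [hk] at h1 h2 ⊢
    match k with
    | 0 => norm_num at h1
    | 1 => rfl
    | k + 2 =>
      exfalso
      have h3 : (13 : ℕ) ^ 2 ∣ 5616 := (pow_dvd_pow 13 (by omega)).trans h2
      norm_num at h3
  set Q := (R : Subgroup C).map C.subtype with hQdef
  have hQ : Nat.card Q = 13 := by rw [hQdef, Subgroup.card_map_of_injective Subtype.val_injective, hR]
  have hN := S.normalizer_thirteen Q hQ
  have hzC : z ∈ C := Subgroup.mem_centralizer_singleton_iff.2 rfl
  set M := Subgroup.normalizer ((R : Subgroup C) : Set C) with hM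
  have hle : Nat.card M ∣ 39 := by
    rw [← hN, ← Subgroup.card_map_of_injective (K := M) (f := C.subtype) Subtype.val_injective]
    refine Subgroup.card_dvd_of_le ?_
    rintro _ ⟨m, hm, rfl⟩
    rw [Subgroup.mem_normalizer_iff]
    intro x
    constructor
    · rintro ⟨y, hy, rfl⟩
      exact ⟨m * y * m⁻¹, (Subgroup.mem_normalizer_iff.1 hm y).1 hy, by simp⟩
    · rintro ⟨y, hy, hyx⟩
      refine ⟨m⁻¹ * y * m, (Subgroup.mem_normalizer_iff.1 hm _).2
        (by rw [show m * (m⁻¹ * y * m) * m⁻¹ = y by group]; exact hy), ?_⟩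
      rw [map_mul, map_mul, map_inv, hyx]
      group
  have hz' : (⟨z, hzC⟩ : C) ∈ M := by
    rw [hM, Subgroup.mem_normalizer_iff]
    intro x
    have : (⟨z, hzC⟩ : C) * x * (⟨z, hzC⟩ : C)⁻¹ = x := Subtype.ext (by
      show z * (x : G) * z⁻¹ = x
      rw [← Subgroup.mem_centralizer_singleton_iff.1 x.2]; group)
    rw [this]
  have h13M : 13 ∣ Nat.card M := hR ▸ Subgroup.card_dvd_of_le Subgroup.le_normalizer
  have h3M : 3 ∣ Nat.card M := by
    have := Subgroup.orderOf_dvd_natCard M hz'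
    rwa [Subgroup.orderOf_mk, hz] at this
  have hM39 : Nat.card M = 39 :=
    Nat.dvd_antisymm hle (Nat.Coprime.mul_dvd_of_dvd_of_dvd (by norm_num : Nat.Coprime 3 13) h3M h13M)
  have hn : Nat.card (Sylow 13 C) = M.index := Sylow.card_eq_index_normalizer R
  have hmod := card_sylow_modEq_one 13 C
  have hmul := M.index_mul_card
  rw [← hn, hM39] at hmul
  have key : ∀ c ∈ Nat.divisors 5616, 39 ∣ c → c / 39 % 13 = 1 → c = 39 ∨ c = 5616 := by decide +kernel
  rcases key (Nat.card C) (Nat.mem_divisors.2 ⟨hcd, by norm_num⟩) ⟨_, by rw [← hmul]; ring⟩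
    (by rw [← hmul, Nat.mul_div_cancel _ (by norm_num)]; exact hmod) with h | h
  · exact h
  · exfalso
    have htop : C = ⊤ := Subgroup.eq_top_of_card_eq _ (by rw [h, S.card])
    have hzc : z ∈ Subgroup.center G := Subgroup.mem_center_iff.2 fun g =>
      Subgroup.mem_centralizer_singleton_iff.1 (show g ∈ C from htop ▸ Subgroup.mem_top g)
    have hne : Subgroup.center G ≠ ⊥ := fun e => by
      rw [e, Subgroup.mem_bot] at hzc; rw [hzc, orderOf_one] at hz; norm_num at hz
    have ht : t ∈ Subgroup.center G := S.not_normal inferInstance hne ▸ Subgroup.mem_top t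
    have : Subgroup.centralizer ({t} : Set G) = ⊤ := eq_top_iff.2 fun g _ =>
      mem_cent_iff.2 (Subgroup.mem_center_iff.1 ht g)
    have h48 := Nat.card_congr S.e.toEquiv
    rw [this, Subgroup.card_top, S.card, card_glt] at h48
    norm_num at h48

include S in
theorem normalizer_threeSylow (P : Subgroup G) (hP : Nat.card P = 27) {z : G} (hz : orderOf z = 3)
    (hzP : z ∈ P) (hc : ∀ x ∈ P, (∀ y ∈ P, y * x = x * y) → x ∈ Subgroup.zpowers z)
    (hzc : ∀ y ∈ P, y * z = z * y) (hcent : Subgroup.centralizer ({z} : Set G) = P) {r : G}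
    (hr : orderOf r = 2) (hrP : r ∈ Subgroup.normalizer (P : Set G)) : False := by
  classical
  haveI : Fact (Nat.Prime 3) := ⟨Nat.prime_three⟩
  set N := Subgroup.normalizer (P : Set G) with hN
  haveI := Fintype.ofFinite G
  have hmap : ∀ n : N, (n : G) * z * (n : G)⁻¹ ∈ ({z, z⁻¹} : Finset G) := by
    intro n
    have hm := (Subgroup.mem_normalizer_iff.1 n.2 z).1 hzP
    have hz' := hc _ hm fun y hy => by
      have hy' := hzc _ ((Subgroup.mem_normalizer_iff.1 n.2 ((n : G)⁻¹ * y * n)).2 (by simpa [mul_assoc] using hy))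
      calc y * ((n : G) * z * (n : G)⁻¹) = (n : G) * (((n : G)⁻¹ * y * n) * z) * (n : G)⁻¹ := by group
        _ = (n : G) * (z * ((n : G)⁻¹ * y * n)) * (n : G)⁻¹ := by rw [hy']
        _ = _ := by group
    have hf : IsOfFinOrder z := isOfFinOrder_of_finite z
    obtain ⟨i, hi, he⟩ := Finset.mem_image.1 ((IsOfFinOrder.mem_zpowers_iff_mem_range_orderOf hf).1 hz')
    rw [Finset.mem_range, hz] at hi
    interval_cases i
    · exfalso
      rw [pow_zero] at he
      have : z = 1 := by
        calc z = (n : G)⁻¹ * ((n : G) * z * (n : G)⁻¹) * n := by group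
          _ = 1 := by rw [← he]; group
      rw [this, orderOf_one] at hz; norm_num at hz
    · rw [← he, pow_one]; exact Finset.mem_insert_self _ _
    · rw [← he]
      refine Finset.mem_insert_of_mem (Finset.mem_singleton.2 (eq_inv_of_mul_eq_one_left ?_))
      rw [← pow_succ, show 2 + 1 = orderOf z from hz.symm, pow_orderOf_eq_one]
  have hle : Nat.card N ≤ 54 := by
    have h1 : (P.subgroupOf N).index ≤ 2 := by
      have hinj : Function.Injective (fun q : ↥N ⧸ P.subgroupOf N =>
          (⟨(q.out : G) * z * (q.out : G)⁻¹, hmap q.out⟩ : ({z, z⁻¹} : Finset G))) := by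
        intro a b h
        have h' := congrArg Subtype.val h
        simp only at h'
        rw [← QuotientGroup.out_eq' a, ← QuotientGroup.out_eq' b, QuotientGroup.eq]
        show ((a.out)⁻¹ * b.out : N).1 ∈ P
        refine (SetLike.ext_iff.1 hcent _).1 ?_
        rw [Subgroup.mem_centralizer_singleton_iff]
        push_cast
        calc (a.out : G)⁻¹ * b.out * z = (a.out : G)⁻¹ * ((b.out : G) * z * (b.out : G)⁻¹) * b.out := by group
          _ = (a.out : G)⁻¹ * ((a.out : G) * z * (a.out : G)⁻¹) * b.out := by rw [h']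
          _ = _ := by group
      have := Nat.card_le_card_of_injective _ hinj
      rw [Nat.card_eq_finsetCard] at this
      exact this.trans Finset.card_le_two
    calc Nat.card N = (P.subgroupOf N).index * Nat.card (P.subgroupOf N) := (Subgroup.index_mul_card _).symm
      _ ≤ 2 * 27 := by
        rw [Nat.card_congr (Subgroup.subgroupOfEquivOfLe (Subgroup.le_normalizer (H := P))).toEquiv, hP]
        exact Nat.mul_le_mul_right _ h1
  let P' : Sylow 3 G := Sylow.ofCard P (by
    rw [hP, S.card, Nat.factorization_def _ (by norm_num : Nat.Prime 3)]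
    have : padicValNat 3 5616 = 3 := by
      rw [show (5616 : ℕ) = 3 ^ 3 * 208 by norm_num, padicValNat.mul (by norm_num) (by norm_num),
        padicValNat.prime_pow, padicValNat.eq_zero_of_not_dvd (by norm_num)]
    rw [this]; norm_num)
  have h2 : 2 ∣ Nat.card N := hr ▸ Subgroup.orderOf_dvd_natCard N hrP
  have h27 : 27 ∣ Nat.card N := hP ▸ Subgroup.card_dvd_of_le Subgroup.le_normalizer
  have h54 : Nat.card N = 54 := by
    have := Nat.le_of_dvd Nat.card_pos (Nat.Coprime.mul_dvd_of_dvd_of_dvd (by norm_num : Nat.Coprime 2 27) h2 h27)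
    omega
  have hn : Nat.card (Sylow 3 G) = N.index := Sylow.card_eq_index_normalizer P'
  have hmul := N.index_mul_card
  rw [← hn, h54, S.card] at hmul
  have hmod := card_sylow_modEq_one 3 G
  rw [Nat.ModEq, show Nat.card (Sylow 3 G) = 104 by omega] at hmod
  norm_num at hmod

/-- the centraliser of `u` -/
theorem card_cent_u : Nat.card (Subgroup.centralizer ({S.u} : Set G)) = 54 := by
  classical
  haveI : Fact (Nat.Prime 3) := ⟨Nat.prime_three⟩
  haveI : Fact (Nat.Prime 2) := ⟨Nat.prime_two⟩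
  set C := Subgroup.centralizer ({S.u} : Set G) with hC
  have memC : ∀ {x : G}, x ∈ C ↔ x * S.u = S.u * x := fun {x} => Subgroup.mem_centralizer_singleton_iff
  have htC : t ∈ C := memC.2 S.comm_ut.symm
  have huC : S.u ∈ C := memC.2 rfl
  have h2 : 2 ∣ Nat.card C := S.ht ▸ Subgroup.orderOf_dvd_natCard C htC
  have h3 : 3 ∣ Nat.card C := S.orderOf_u ▸ Subgroup.orderOf_dvd_natCard C huC
  have hcd : Nat.card C ∣ 5616 := S.card ▸ Subgroup.card_subgroup_dvd_card C
  have h13 : ¬ 13 ∣ Nat.card C := fun h => by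
    have h' := S.cent_thirteen S.orderOf_u h
    rw [← hC] at h'
    rw [h'] at h2; norm_num at h2
  have h4 : ¬ 4 ∣ Nat.card C := by
    intro h
    obtain ⟨T0, hT0⟩ := (IsPGroup.of_card (p := 2) (G := ↥((Subgroup.zpowers t).subgroupOf C)) (n := 1) (by
      rw [Nat.card_congr (Subgroup.subgroupOfEquivOfLe (Subgroup.zpowers_le.2 htC)).toEquiv, Nat.card_zpowers, S.ht]
      rfl)).exists_le_sylow
    have hT4 : 2 ^ 2 ∣ Nat.card (T0 : Subgroup C) := T0.pow_dvd_card_of_pow_dvd_card h
    have htT : (⟨t, htC⟩ : C) ∈ (T0 : Subgroup C) := hT0 (Subgroup.mem_subgroupOf.2 (Subgroup.mem_zpowers t))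
    haveI : Nontrivial (T0 : Subgroup C) := (Subgroup.nontrivial_iff_exists_ne_one _).2
      ⟨_, htT, fun e => (orderOf_two_iff.1 S.ht).2 (congrArg Subtype.val e)⟩
    obtain ⟨c, hc, hc2⟩ := Cfsg.Agent.Char.QDSimple.exists_invol T0.2
    have hcomm : ∀ y ∈ (T0 : Subgroup C), (y : G) * ((c : C) : G) = ((c : C) : G) * (y : G) := fun y hy => by
      simpa using congrArg (fun w : (T0 : Subgroup C) => ((w : C) : G)) (Subgroup.mem_center_iff.1 hc ⟨y, hy⟩)
    obtain ⟨e2, e1⟩ := orderOf_two_iff.1 hc2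
    have hct : ((c : C) : G) = t := by
      rcases S.invol_ut (g := ((c : C) : G)) (memC.1 (c : C).2) (hcomm ⟨t, htC⟩ htT).symm
        (by simpa using congrArg (fun w : (T0 : Subgroup C) => ((w : C) : G)) e2) with h | h
      · exact absurd (Subtype.ext (Subtype.ext h)) e1
      · exact h
    have h6 := S.cent_ut_card ((T0 : Subgroup C).map C.subtype) fun g hg => by
      obtain ⟨y, hy, rfl⟩ := hg
      exact ⟨memC.1 y.2, by rw [← hct]; exact hcomm y hy⟩
    rw [Subgroup.card_map_of_injective Subtype.val_injective] at h6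
    obtain ⟨k, hk⟩ := (IsPGroup.iff_card).1 T0.2
    have hk4 : Nat.card (T0 : Subgroup C) = 4 := by
      rw [hk] at hT4 h6 ⊢
      have hk2 := (Nat.pow_dvd_pow_iff_le_right (by norm_num : 1 < 2)).1 hT4
      have : k < 3 := by
        by_contra hh
        push Not at hh
        have := Nat.pow_le_pow_right (by norm_num : 1 ≤ 2) hh
        omega
      rw [show k = 2 by omega]; norm_num
    -- the group of order 4 lies in the cyclic group of order 6
    obtain ⟨y, hy, hyne⟩ : ∃ y ∈ (T0 : Subgroup C), y ≠ 1 ∧ (y : G) ≠ t := by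
      by_contra hno
      push Not at hno
      have hsub : (T0 : Subgroup C) ≤ Subgroup.zpowers (⟨t, htC⟩ : C) := fun y hy => by
        by_cases h1 : y = 1
        · rw [h1]; exact one_mem _
        · rw [show y = ⟨t, htC⟩ from Subtype.ext (hno y hy h1)]; exact Subgroup.mem_zpowers _
      have := Subgroup.card_le_of_le hsub
      rw [hk4, Nat.card_zpowers, Subgroup.orderOf_mk, S.ht] at this
      norm_num at this
    have hy4 : y ^ 4 = 1 := by
      have := pow_card_eq_one' (x := (⟨y, hy⟩ : (T0 : Subgroup C)))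
      rw [hk4] at this
      simpa using congrArg Subtype.val this
    obtain ⟨x, hx⟩ := S.exists_inc (g := (y : G)) (by rw [← hct]; exact hcomm y hy)
    have key : ∀ a ∈ codes, mc a 37 = mc 37 a → pw a 4 = 28 → a = 28 ∨ a = 56 := by decide +kernel
    have hu' := memC.1 y.2
    rw [← hx, u, ← map_mul, ← map_mul] at hu'
    rcases key _ (cod_mem x) (by simpa [cod_mul, cod_ofCode] using congrArg cod (S.inc_injective hu'))
      (by rw [← cod_pow, ← cod_one]
          exact congrArg cod (S.inc_injective (by rw [map_pow, hx, map_one]; exact_mod_cast congrArg Subtype.val hy4)))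
      with h | h
    · exact hyne.1 (Subtype.ext (by rw [← hx, show x = 1 from cod_injective (by rw [h, cod_one]), map_one]; rfl))
    · exact hyne.2 (by rw [← hx, show x = ofCode 56 (by decide +kernel) from cod_injective (by rw [h, cod_ofCode]), S.inc_z])
  have key : ∀ c ∈ Nat.divisors 5616, 2 ∣ c → 3 ∣ c → ¬ 4 ∣ c → ¬ 13 ∣ c → c = 6 ∨ c = 18 ∨ c = 54 := by decide +kernel
  have hcases := key _ (Nat.mem_divisors.2 ⟨hcd, by norm_num⟩) h2 h3 h4 h13
  -- a Sylow 3-subgroup through `u`
  obtain ⟨P, hP⟩ := (IsPGroup.of_card (p := 3) (G := ↥(Subgroup.zpowers S.u)) (n := 1)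
    (by rw [Nat.card_zpowers, S.orderOf_u]; rfl)).exists_le_sylow
  have huP : S.u ∈ (P : Subgroup G) := hP (Subgroup.mem_zpowers _)
  have hPc : Nat.card (P : Subgroup G) = 27 := by
    rw [Sylow.card_eq_multiplicity, S.card, Nat.factorization_def _ (by norm_num : Nat.Prime 3)]
    have : padicValNat 3 5616 = 3 := by
      rw [show (5616 : ℕ) = 3 ^ 3 * 208 by norm_num, padicValNat.mul (by norm_num) (by norm_num),
        padicValNat.prime_pow, padicValNat.eq_zero_of_not_dvd (by norm_num)]
    rw [this]; norm_num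
  haveI : Nontrivial (P : Subgroup G) := (Subgroup.nontrivial_iff_exists_ne_one _).2
    ⟨S.u, huP, fun e => by have := S.orderOf_u; rw [e, orderOf_one] at this; norm_num at this⟩
  haveI : Nontrivial (Subgroup.center (P : Subgroup G)) := P.2.center_nontrivial
  by_cases huc : ∀ y ∈ (P : Subgroup G), y * S.u = S.u * y
  · have h27 : 27 ∣ Nat.card C := hPc ▸ Subgroup.card_dvd_of_le fun y hy => memC.2 (huc y hy)
    rcases hcases with h | h | h <;> rw [h] at h27 ⊢ <;> norm_num at h27
  by_contra hno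
  have hyes : Nat.card C = 54 → False := hno
  push Not at huc
  obtain ⟨z', hz'⟩ := exists_prime_orderOf_dvd_card' (G := Subgroup.center (P : Subgroup G)) 3 (by
    obtain ⟨k, hk⟩ := (IsPGroup.iff_card).1 (P.2.to_subgroup (Subgroup.center (P : Subgroup G)))
    have : 1 < Nat.card (Subgroup.center (P : Subgroup G)) := Finite.one_lt_card
    rw [hk] at this ⊢
    exact dvd_pow_self 3 (by rintro rfl; simp at this))
  set z : G := ((z' : (P : Subgroup G)) : G) with hzdef
  have hzP : z ∈ (P : Subgroup G) := (z' : (P : Subgroup G)).2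
  have hz3 : orderOf z = 3 := by rw [hzdef, Subgroup.orderOf_coe, Subgroup.orderOf_coe, hz']
  have hzc : ∀ y ∈ (P : Subgroup G), y * z = z * y := fun y hy =>
    congrArg Subtype.val (Subgroup.mem_center_iff.1 z'.2 ⟨y, hy⟩)
  -- the centre is of order three
  obtain ⟨w, hw, hwu⟩ := huc
  have hcenter : ∀ x ∈ (P : Subgroup G), (∀ y ∈ (P : Subgroup G), y * x = x * y) → x ∈ Subgroup.zpowers z := by
    intro x hx hxc
    have hcc : Nat.card (Subgroup.center (P : Subgroup G)) ≤ 3 := by
      have hd : Nat.card (Subgroup.center (P : Subgroup G)) ∣ 3 ^ 3 := by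
        rw [show (3 : ℕ) ^ 3 = 27 from rfl, ← hPc]; exact Subgroup.card_subgroup_dvd_card _
      obtain ⟨k, hk, hk'⟩ := (Nat.dvd_prime_pow Nat.prime_three).1 hd
      rw [hk']
      interval_cases k <;> norm_num
      all_goals
        exfalso
        refine hwu ?_
        haveI : IsCyclic ((P : Subgroup G) ⧸ Subgroup.center (P : Subgroup G)) := by
          have hi := (Subgroup.center (P : Subgroup G)).index_mul_card
          rw [hk', hPc] at hi
          first
            | exact isCyclic_of_prime_card (p := 3) (by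
                rw [← Subgroup.index_eq_card]; omega)
            | (haveI : Subsingleton ((P : Subgroup G) ⧸ Subgroup.center (P : Subgroup G)) := by
                rw [← Finite.card_le_one_iff_subsingleton, ← Subgroup.index_eq_card]; omega
               infer_instance)
        have := (commutative_of_cyclic_center_quotient (QuotientGroup.mk' (Subgroup.center (P : Subgroup G)))
          (by rw [QuotientGroup.ker_mk']) ⟨w, hw⟩ ⟨S.u, huP⟩)
        exact congrArg Subtype.val this
    have hxz : (⟨x, hx⟩ : (P : Subgroup G)) ∈ Subgroup.center (P : Subgroup G) :=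
      Subgroup.mem_center_iff.2 fun y => Subtype.ext (hxc y y.2)
    have htop : Subgroup.zpowers z' = ⊤ := Subgroup.eq_top_of_le_card _ (by rw [Nat.card_zpowers, hz']; exact hcc)
    obtain ⟨i, hi⟩ := Subgroup.mem_zpowers_iff.1 (htop ▸ Subgroup.mem_top (⟨_, hxz⟩ : Subgroup.center (P : Subgroup G)))
    exact Subgroup.mem_zpowers_iff.2 ⟨i, by
      have := congrArg (fun a : Subgroup.center (P : Subgroup G) => ((a : (P : Subgroup G)) : G)) hi
      simpa [hzdef] using this⟩
  -- the centraliser of `z` is `P`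
  set Cz := Subgroup.centralizer ({z} : Set G) with hCz
  have hPCz : (P : Subgroup G) ≤ Cz := fun y hy => Subgroup.mem_centralizer_singleton_iff.2 (hzc y hy)
  have h27z : 27 ∣ Nat.card Cz := hPc ▸ Subgroup.card_dvd_of_le hPCz
  have hcz13 : ¬ 13 ∣ Nat.card Cz := fun h => by
    have h' := S.cent_thirteen hz3 h
    rw [← hCz] at h'
    rw [h'] at h27z; norm_num at h27z
  have hzC : z ∈ C := memC.2 (hzc S.u huP).symm
  have hune : S.u ∉ Subgroup.zpowers z := fun h => hwu (by
    obtain ⟨i, hi⟩ := Subgroup.mem_zpowers_iff.1 h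
    rw [← hi]
    exact ((show Commute w z from hzc w hw).zpow_right i).eq)
  have hz1 : z ≠ 1 := fun e => by rw [e, orderOf_one] at hz3; norm_num at hz3
  have hu3 : S.u ^ 3 = 1 := by rw [← S.orderOf_u]; exact pow_orderOf_eq_one _
  have hz3' : z ^ 3 = 1 := by rw [← hz3]; exact pow_orderOf_eq_one _
  set D := (P : Subgroup G) ⊓ C with hD
  have memD : ∀ ab : Fin 3 × Fin 3, S.u ^ (ab.1 : ℕ) * z ^ (ab.2 : ℕ) ∈ D := fun ab =>
    D.mul_mem (D.pow_mem ⟨huP, huC⟩ _) (D.pow_mem ⟨hzP, hzC⟩ _)
  have hinjD : Function.Injective fun ab : Fin 3 × Fin 3 => (⟨_, memD ab⟩ : D) := by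
    rintro ⟨a, b⟩ ⟨c, d⟩ h
    have h' : S.u ^ (a : ℕ) * z ^ (b : ℕ) = S.u ^ (c : ℕ) * z ^ (d : ℕ) := congrArg Subtype.val h
    have e : S.u ^ (((a : ℕ) : ℤ) - ((c : ℕ) : ℤ)) = z ^ (((d : ℕ) : ℤ) - ((b : ℕ) : ℤ)) := by
      have cu : Commute S.u z := hzc S.u huP
      rw [zpow_sub, zpow_sub, zpow_natCast, zpow_natCast, zpow_natCast, zpow_natCast,
        eq_mul_inv_iff_mul_eq, mul_assoc, (cu.pow_pow _ _).inv_left.eq, ← mul_assoc, h',
        (cu.pow_pow _ _).eq, mul_inv_cancel_right]
    have hac : a = c := by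
      by_contra hne
      apply hune
      have : S.u ∈ Subgroup.zpowers (S.u ^ (((a : ℕ) : ℤ) - ((c : ℕ) : ℤ))) := by
        rw [Subgroup.mem_zpowers_iff]
        refine ⟨((a : ℕ) : ℤ) - ((c : ℕ) : ℤ), ?_⟩
        have : ((((a : ℕ) : ℤ) - ((c : ℕ) : ℤ)) * (((a : ℕ) : ℤ) - ((c : ℕ) : ℤ))) % 3 = 1 := by
          revert hne; fin_cases a <;> fin_cases c <;> simp
        rw [← zpow_mul, ← zpow_mod_orderOf, S.orderOf_u]
        push_cast
        rw [this, zpow_one]
      rw [e] at this
      exact Subgroup.zpowers_le.2 (Subgroup.zpow_mem_zpowers z _) this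
    subst hac
    have hbd : z ^ (b : ℕ) = z ^ (d : ℕ) := mul_left_cancel h'
    rw [pow_inj_mod, hz3, Nat.mod_eq_of_lt b.2, Nat.mod_eq_of_lt d.2] at hbd
    exact Prod.ext rfl (Fin.ext hbd)
  have h9 : 9 ≤ Nat.card D := by
    have := Nat.card_le_card_of_injective _ hinjD
    simpa using this
  rcases hcases with h | h | h
  · have hdd : Nat.card D ∣ Nat.card C := Subgroup.card_dvd_of_le inf_le_right
    rw [h] at hdd; have := Nat.le_of_dvd (by norm_num) hdd; omega
  swap
  · exact hyes h
  have hD9 : Nat.card D = 9 := by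
    have ha : Nat.card D ∣ Nat.card (P : Subgroup G) := Subgroup.card_dvd_of_le inf_le_left
    have hb : Nat.card D ∣ Nat.card C := Subgroup.card_dvd_of_le inf_le_right
    have h1 := Nat.dvd_gcd ha hb
    rw [hPc, h, show Nat.gcd 27 18 = 9 from rfl] at h1
    have := Nat.le_of_dvd (by norm_num) h1
    omega
  have hcz2 : ¬ 2 ∣ Nat.card Cz := by
    intro h2z
    obtain ⟨r, hr⟩ := exists_prime_orderOf_dvd_card' (G := Cz) 2 h2z
    have hc' := S.conj_u (v := z) (s' := (r : G)) hz3' hz1 (by rw [Subgroup.orderOf_coe, hr])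
      (Subgroup.mem_centralizer_singleton_iff.1 r.2).symm
    obtain ⟨g, hg⟩ := isConj_iff.1 hc'
    rw [hCz, ← hg, card_cent_conj, ← hC, h] at h27z
    norm_num at h27z
  have hCzP : Cz = (P : Subgroup G) := by
    refine (Subgroup.eq_of_le_of_card_ge hPCz ?_).symm
    have key' : ∀ c ∈ Nat.divisors 5616, 27 ∣ c → ¬ 2 ∣ c → ¬ 13 ∣ c → c = 27 := by decide +kernel
    rw [hPc, key' _ (Nat.mem_divisors.2 ⟨S.card ▸ Subgroup.card_subgroup_dvd_card Cz, by norm_num⟩) h27z hcz2 hcz13]
  -- the involution `t` moves `z` inside `D`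
  haveI hDn : (D.subgroupOf C).Normal := Subgroup.normal_of_index_eq_two (by
    have := (D.subgroupOf C).index_mul_card
    rw [Nat.card_congr (Subgroup.subgroupOfEquivOfLe (inf_le_right : D ≤ C)).toEquiv, hD9, h] at this
    omega)
  have hz'D : t * z * t⁻¹ ∈ D := hDn.conj_mem ⟨z, hzC⟩ ⟨hzP, hzC⟩ ⟨t, htC⟩
  haveI := Fintype.ofFinite D
  have hsurj : Function.Bijective fun ab : Fin 3 × Fin 3 => (⟨_, memD ab⟩ : D) :=
    (Fintype.bijective_iff_injective_and_card (α := Fin 3 × Fin 3) (β := D) _).2 ⟨hinjD, by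
      rw [← Nat.card_eq_fintype_card, ← Nat.card_eq_fintype_card, hD9]; simp⟩
  obtain ⟨⟨a, b⟩, hab⟩ := hsurj.2 ⟨_, hz'D⟩
  have hab' : t * z * t⁻¹ = S.u ^ (a : ℕ) * z ^ (b : ℕ) := (congrArg Subtype.val hab).symm
  by_cases ha : a = 0
  · subst ha
    rw [Fin.val_zero, pow_zero, one_mul] at hab'
    fin_cases b
    · simp only [pow_zero] at hab'
      exact hz1 (mul_left_cancel (a := t) (by rw [mul_one]; exact mul_inv_eq_one.1 hab'))
    · simp only [pow_one] at hab'
      refine hcz2 (S.ht ▸ Subgroup.orderOf_dvd_natCard Cz (x := t) ?_)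
      exact Subgroup.mem_centralizer_singleton_iff.2 (mul_inv_eq_iff_eq_mul.1 hab')
    · -- `t` inverts `z`, so it normalises `P`
      refine S.normalizer_threeSylow _ hPc hz3 hzP hcenter hzc hCzP S.ht ?_
      rw [← hCzP, Subgroup.mem_normalizer_iff]
      intro x
      rw [hCz, Subgroup.mem_centralizer_singleton_iff, Subgroup.mem_centralizer_singleton_iff]
      have e2 : t * z * t⁻¹ = z⁻¹ := by
        rw [hab']; exact eq_inv_of_mul_eq_one_left (by rw [← pow_succ]; exact hz3')
      have e3 : ∀ y : G, y * z = z * y ↔ y * z⁻¹ = z⁻¹ * y := fun y =>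
        ⟨fun hy => (Commute.inv_right hy).eq, fun hy => by simpa using (Commute.inv_right hy).eq⟩
      rw [e3 (t * x * t⁻¹), ← e2]
      constructor
      · intro hx
        calc t * x * t⁻¹ * (t * z * t⁻¹) = t * (x * z) * t⁻¹ := by group
          _ = t * (z * x) * t⁻¹ := by rw [hx]
          _ = _ := by group
      · intro hx
        calc x * z = t⁻¹ * (t * x * t⁻¹ * (t * z * t⁻¹)) * t := by group
          _ = t⁻¹ * (t * z * t⁻¹ * (t * x * t⁻¹)) * t := by rw [hx]
          _ = _ := by group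
  · -- otherwise `z` would be conjugate to a power of `u`
    have hZP : IsMulCommutative ((P : Subgroup G) ⧸ Subgroup.center (P : Subgroup G)) := by
      have hcc : Nat.card (Subgroup.center (P : Subgroup G)) = 3 := by
        have hle : Subgroup.center (P : Subgroup G) ≤ Subgroup.zpowers ((z' : (P : Subgroup G))) := fun x hx => by
          obtain ⟨i, hi⟩ := Subgroup.mem_zpowers_iff.1 (hcenter x x.2 fun y hy =>
            congrArg Subtype.val (Subgroup.mem_center_iff.1 hx ⟨y, hy⟩))
          exact Subgroup.mem_zpowers_iff.2 ⟨i, Subtype.ext (by simpa [hzdef] using hi)⟩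
        refine le_antisymm ((Subgroup.card_le_of_le hle).trans (by rw [Nat.card_zpowers, Subgroup.orderOf_coe, hz']))
          (Nat.le_of_dvd Nat.card_pos ?_)
        exact (dvd_of_eq hz'.symm).trans (orderOf_dvd_natCard z')
      refine IsPGroup.isMulCommutative_of_card_eq_prime_sq (p := 3) ?_
      have hi := (Subgroup.center (P : Subgroup G)).index_mul_card
      rw [hPc, hcc] at hi
      rw [← Subgroup.index_eq_card]; omega
    have hwk : w * S.u * w⁻¹ * S.u⁻¹ ∈ Subgroup.zpowers z := by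
      refine hcenter _ ((P : Subgroup G).mul_mem ((P : Subgroup G).mul_mem ((P : Subgroup G).mul_mem hw huP)
        ((P : Subgroup G).inv_mem hw)) ((P : Subgroup G).inv_mem huP)) fun y hy => ?_
      have hm : (⟨w, hw⟩ * ⟨S.u, huP⟩ * ⟨w, hw⟩⁻¹ * ⟨S.u, huP⟩⁻¹ : (P : Subgroup G)) ∈
          Subgroup.center (P : Subgroup G) := by
        rw [← QuotientGroup.eq_one_iff]
        simp only [QuotientGroup.mk_mul, QuotientGroup.mk_inv]
        rw [hZP.is_comm.comm ((⟨w, hw⟩ : (P : Subgroup G)) : (P : Subgroup G) ⧸ _)]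
        group
      exact congrArg Subtype.val (Subgroup.mem_center_iff.1 hm ⟨y, hy⟩)
    obtain ⟨k, hk⟩ := Subgroup.mem_zpowers_iff.1 hwk
    have hk3 : ¬ (3 : ℤ) ∣ k := by
      rintro ⟨j, rfl⟩
      rw [zpow_mul, show (z : G) ^ (3 : ℤ) = 1 by exact_mod_cast hz3', one_zpow, eq_comm, mul_inv_eq_one] at hk
      exact hwu (mul_inv_eq_iff_eq_mul.1 hk)
    have hwu' : w * S.u * w⁻¹ = z ^ k * S.u := by rw [hk]; group
    have cw : Commute w z := hzc w hw
    have hiter : ∀ n : ℕ, w ^ n * S.u ^ (a : ℕ) * (w ^ n)⁻¹ = z ^ (k * (n * (a : ℕ))) * S.u ^ (a : ℕ) := by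
      intro n
      induction n with
      | zero => simp
      | succ n ih =>
        have e : w * S.u ^ (a : ℕ) * w⁻¹ = z ^ (k * (a : ℕ)) * S.u ^ (a : ℕ) := by
          rw [← conj_pow, hwu', ((show Commute z S.u from (hzc S.u huP).symm).zpow_left k).mul_pow, ← zpow_natCast (z ^ k),
            ← zpow_mul]
        rw [pow_succ', show w * w ^ n * S.u ^ (a : ℕ) * (w * w ^ n)⁻¹ =
          w * (w ^ n * S.u ^ (a : ℕ) * (w ^ n)⁻¹) * w⁻¹ by group, ih]
        calc w * (z ^ (k * (n * (a : ℕ))) * S.u ^ (a : ℕ)) * w⁻¹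
            = z ^ (k * (n * (a : ℕ))) * (w * S.u ^ (a : ℕ) * w⁻¹) := by
              rw [← mul_assoc, (cw.zpow_right _).eq]; group
          _ = _ := by rw [e, ← mul_assoc, ← zpow_add]; congr 2; push_cast; ring
    obtain ⟨n, hn⟩ : ∃ n : ℕ, (k * (n * (a : ℕ))) % 3 = ((b : ℕ) : ℤ) % 3 := by
      have : (k % 3 = 1 ∨ k % 3 = 2) := by omega
      have key : ∀ kk ∈ ([1, 2] : List ℤ), ∀ a b : Fin 3, a ≠ 0 →
          ∃ n ∈ List.range 3, (kk * ((n : ℤ) * (a : ℕ))) % 3 = ((b : ℕ) : ℤ) % 3 := by decide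
      obtain ⟨n, -, hn⟩ := key (k % 3) (by rcases this with e | e <;> simp [e]) a b ha
      refine ⟨n, hn ▸ ?_⟩
      simp [Int.mul_emod]
    have hconj : t * z * t⁻¹ = w ^ n * S.u ^ (a : ℕ) * (w ^ n)⁻¹ := by
      rw [hab', hiter, ← zpow_mod_orderOf z (k * _), hz3]
      push_cast
      rw [hn, ← zpow_natCast z (b : ℕ)]
      conv_rhs => rw [show ((b : ℕ) : ℤ) % 3 = ((b : ℕ) : ℤ) from Int.emod_eq_of_lt (by omega) (by omega)]
      exact ((show Commute z S.u from (hzc S.u huP).symm).zpow_left _).pow_right _ |>.symm.eq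
    have e1 : Nat.card (Subgroup.centralizer ({t * z * t⁻¹} : Set G)) = 27 := by rw [card_cent_conj, ← hCz, hCzP, hPc]
    have e2 : Subgroup.centralizer ({S.u ^ (a : ℕ)} : Set G) = C := by
      ext x
      rw [Subgroup.mem_centralizer_singleton_iff, memC]
      constructor
      · intro hx
        have hs : (S.u ^ (a : ℕ)) ^ (a : ℕ) = S.u := by
          rw [← pow_mul, ← pow_mod_orderOf, S.orderOf_u]
          revert ha; fin_cases a <;> simp
        have := (Commute.pow_right (show Commute x (S.u ^ (a : ℕ)) from hx) (a : ℕ)).eq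
        rwa [hs] at this
      · intro hx
        exact (Commute.pow_right (show Commute x S.u from hx) _).eq
    rw [hconj, card_cent_conj, e2, h] at e1
    norm_num at e1

end Hyp

end Cfsg.Agent.Lead.GLTwoThree
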