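import Cfsg.Agent.Lib.Lead.GLTwoThree.Order
import Cfsg.Agent.Lib.Char.QDSimple

/-!
# Sylow 2-subgroups and the two possible orders
-/

set_option autoImplicit false
set_option maxRecDepth 20000
set_option linter.style.haveILetI false

namespace Cfsg.Agent.Lead.GLTwoThree

open Cfsg

universe u

variable {G : Type u} [Group G] [Finite G] {t : G}
variable (ht : orderOf t = 2) (e : ↥(Subgroup.centralizer ({t} : Set G)) ≃* GLT)

theorem sd_check : (∀ x ∈ cSD, ∀ y ∈ cSD, mc x y ∈ cSD) ∧ (∀ x ∈ cSD, x ∈ codes ∧ iv x ∈ cSD) ∧ cSD.Nodup ∧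
    (28 ∈ cSD ∧ 56 ∈ cSD ∧ 13 ∈ cSD) ∧ cSD.length = 16 ∧
    (∀ x ∈ codes, (∀ y ∈ cSD, mc x y = mc y x) → mc x x = 28 → x ≠ 28 → x = 56) ∧
    (pw 13 8 = 28 ∧ pw 13 4 ≠ 28) ∧
    ∃ b ∈ cSD, mc b b = 28 ∧ b ≠ 28 ∧ mc (mc b 13) b = pw 13 3 := by decide +kernel

/-- the semidihedral subgroup of order 16 -/
def sdSub : Subgroup GLT where
  carrier := {g | cod g ∈ cSD}
  one_mem' := by show cod (1 : GLT) ∈ cSD; rw [cod_one]; exact sd_check.2.2.2.1.1
  mul_mem' := fun {a b} ha hb => by show cod (a * b) ∈ cSD; rw [cod_mul]; exact sd_check.1 _ ha _ hb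
  inv_mem' := fun {a} ha => by show cod a⁻¹ ∈ cSD; rw [cod_inv]; exact (sd_check.2.1 _ ha).2

theorem card_sdSub : Nat.card sdSub = 16 := by
  have hnd := sd_check.2.2.1
  rw [← sd_check.2.2.2.2.1, ← List.toFinset_card_of_nodup hnd, ← Nat.card_eq_finsetCard]
  refine Nat.card_congr (Equiv.ofBijective (fun g => ⟨cod g.1, List.mem_toFinset.2 g.2⟩) ⟨?_, ?_⟩)
  · exact fun a b h => Subtype.ext (cod_injective (congrArg Subtype.val h))
  · rintro ⟨x, hx⟩
    have hxH := List.mem_toFinset.1 hx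
    exact ⟨⟨ofCode x (sd_check.2.1 x hxH).1, by show cod _ ∈ cSD; rw [cod_ofCode]; exact hxH⟩,
      Subtype.ext (cod_ofCode x (sd_check.2.1 x hxH).1)⟩

include ht e in
/-- A Sylow 2-subgroup is semidihedral of order 16 and lies in the centraliser of `t`. -/
theorem exists_sylow : ∃ P : Sylow 2 G, IsQuasiDihedral (P : Subgroup G) ∧
    Nat.card (P : Subgroup G) = 16 ∧ (P : Subgroup G) ≤ Subgroup.centralizer ({t} : Set G) := by
  classical
  haveI : Fact (Nat.Prime 2) := ⟨Nat.prime_two⟩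
  obtain ⟨-, -, -, ⟨-, h56, h13⟩, -, hcen, ⟨p8, p4⟩, b, hb, bb, b1, hrel⟩ := sd_check
  set f : GLT →* G := (Subgroup.centralizer ({t} : Set G)).subtype.comp e.symm.toMonoidHom with hf
  have hinj : Function.Injective f := Subtype.val_injective.comp e.symm.injective
  have hfe : ∀ n : ↥(Subgroup.centralizer ({t} : Set G)), f (e n) = (n : G) := fun n => by simp [hf]
  set P₀ : Subgroup G := sdSub.map f with hP₀
  have h0 : Nat.card P₀ = 16 := by
    rw [hP₀, Subgroup.card_map_of_injective hinj]; exact card_sdSub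
  have hp0 : IsPGroup 2 P₀ := IsPGroup.of_card (n := 4) (by rw [h0]; norm_num)
  obtain ⟨P, hP⟩ := hp0.exists_le_sylow
  have htP : t ∈ P₀ := ⟨e ⟨t, t_mem⟩, by show cod _ ∈ cSD; rw [cod_t ht e]; exact h56, hfe _⟩
  haveI : Nontrivial (P : Subgroup G) :=
    (Subgroup.nontrivial_iff_exists_ne_one _).2 ⟨t, hP htP, (orderOf_two_iff.1 ht).2⟩
  obtain ⟨z, hz, hz2⟩ := Cfsg.Agent.Char.QDSimple.exists_invol P.2
  have hzc : ∀ w ∈ (P : Subgroup G), w * (z : G) = (z : G) * w := fun w hw =>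
    congrArg Subtype.val (Subgroup.mem_center_iff.1 hz ⟨w, hw⟩)
  have hzmem : (z : G) ∈ Subgroup.centralizer ({t} : Set G) := mem_cent_iff.2 (hzc t (hP htP)).symm
  have hzt : (z : G) = t := by
    have hz2' : orderOf (e ⟨(z : G), hzmem⟩) = 2 := by
      rw [MulEquiv.orderOf_eq, ← Subgroup.orderOf_coe]; exact (Subgroup.orderOf_coe z).trans hz2
    obtain ⟨a, a'⟩ := invol_cod.1 (orderOf_two_iff.1 hz2')
    have : cod (e ⟨(z : G), hzmem⟩) = 56 := by
      refine hcen _ (cod_mem _) (fun y hy => ?_) a a'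
      have hy' := (sd_check.2.1 y hy).1
      have := hzc (f (ofCode y hy')) (hP ⟨ofCode y hy', by show cod _ ∈ cSD; rw [cod_ofCode]; exact hy, rfl⟩)
      rw [← hfe ⟨(z : G), hzmem⟩, ← map_mul, ← map_mul] at this
      rw [← cod_ofCode y hy', ← cod_mul, ← cod_mul, hinj this]
    rw [← cod_t ht e] at this
    exact congrArg Subtype.val (e.injective (cod_injective this))
  have hPC : (P : Subgroup G) ≤ Subgroup.centralizer ({t} : Set G) := fun w hw => by
    have := hzc w hw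
    rw [hzt] at this
    exact mem_cent_iff.2 this
  have hcard : Nat.card (P : Subgroup G) = 16 := by
    obtain ⟨k, hk⟩ := (IsPGroup.iff_card).1 P.2
    have h1 : Nat.card (P : Subgroup G) ∣ 48 := by
      rw [← card_glt, ← Nat.card_congr e.toEquiv]; exact Subgroup.card_dvd_of_le hPC
    have h2 : 16 ∣ Nat.card (P : Subgroup G) := h0 ▸ Subgroup.card_dvd_of_le hP
    rw [hk] at h1 h2 ⊢
    have hk4 : 2 ^ 4 ∣ 2 ^ k := h2
    have : 4 ≤ k := (Nat.pow_dvd_pow_iff_le_right (by norm_num)).1 hk4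
    have hle := Nat.le_of_dvd (by norm_num) h1
    have : k < 6 := by
      by_contra h
      push Not at h
      exact absurd hle (not_le.2 (lt_of_lt_of_le (by norm_num) (Nat.pow_le_pow_right (by norm_num : 1 ≤ 2) h)))
    interval_cases k <;> first | rfl | norm_num at h1
  refine ⟨P, ?_, hcard, hPC⟩
  have h13' := (sd_check.2.1 13 h13).1
  have hb' := (sd_check.2.1 b hb).1
  have hord : orderOf (ofCode 13 h13') = 2 ^ 3 := by
    refine orderOf_eq_prime_pow (fun h => p4 ?_) ?_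
    · rw [← cod_ofCode 13 h13', ← cod_pow, show (4 : ℕ) = 2 ^ 2 from rfl, h, cod_one]
    · exact cod_injective (by rw [cod_pow, cod_ofCode, show (2 : ℕ) ^ (2 + 1) = 8 from rfl, p8, cod_one])
  have hbo : orderOf (ofCode b hb') = 2 := by
    rw [orderOf_two_iff, invol_cod, cod_ofCode]; exact ⟨bb, b1⟩
  refine ⟨3, le_rfl, by rw [hcard]; norm_num,
    ⟨f (ofCode 13 h13'), hP ⟨_, by show cod _ ∈ cSD; rw [cod_ofCode]; exact h13, rfl⟩⟩,
    ⟨f (ofCode b hb'), hP ⟨_, by show cod _ ∈ cSD; rw [cod_ofCode]; exact hb, rfl⟩⟩, ?_, ?_, ?_⟩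
  · rw [← Subgroup.orderOf_coe, orderOf_injective f hinj, hord]
  · rw [← Subgroup.orderOf_coe, orderOf_injective f hinj, hbo]
  · apply Subtype.ext
    show f (ofCode b hb') * f (ofCode 13 h13') * (f (ofCode b hb'))⁻¹ = (f (ofCode 13 h13')) ^ (2 ^ (3 - 1) - 1)
    rw [← map_inv, ← map_mul, ← map_mul, ← map_pow]
    congr 1
    refine cod_injective ?_
    rw [cod_mul, cod_mul, cod_pow, cod_ofCode, cod_ofCode, cod_inv, cod_ofCode,
      ← inv_check b hb' b hb' bb]
    exact hrel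

include ht e in
theorem one_class (hno : ∀ H : Subgroup G, H.index ≠ 2) : ∀ u : G, orderOf u = 2 → IsConj t u := by
  obtain ⟨P, hP, -, -⟩ := exists_sylow ht e
  exact fun u hu => Cfsg.Agent.Char.QDSimple.one_class P (Or.inl hP) hno ht hu

include ht e in
theorem card_cases (hno : ∀ H : Subgroup G, H.index ≠ 2) : Nat.card G = 5616 ∨ Nat.card G = 7920 := by
  haveI : Fact (Nat.Prime 2) := ⟨Nat.prime_two⟩
  obtain ⟨P, -, hP, hPC⟩ := exists_sylow ht e
  obtain ⟨F, hdvd, hF, heq⟩ := order_equation ht e (one_class ht e hno)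
  have h48 : 48 ∣ Nat.card G := by
    rw [← card_glt, ← Nat.card_congr e.toEquiv]; exact Subgroup.card_subgroup_dvd_card _
  have h32 : ¬ 2 ∣ Nat.card G / 16 := by
    have := P.not_dvd_index
    rwa [show (P : Subgroup G).index = Nat.card G / 16 by
      rw [← (P : Subgroup G).index_mul_card, hP, Nat.mul_div_cancel _ (by norm_num)]] at this
  have hpos : 0 < Nat.card G := Nat.card_pos
  set n := Nat.card G
  have hb : (F - 8).natAbs ∈ Nat.divisors 72 :=
    Nat.mem_divisors.2 ⟨by exact_mod_cast Int.natAbs_dvd_natAbs.2 hdvd, by norm_num⟩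
  rw [show Nat.divisors 72 = {1, 2, 3, 4, 6, 8, 9, 12, 18, 24, 36, 72} by decide +kernel] at hb
  simp only [Finset.mem_insert, Finset.mem_singleton] at hb
  rcases hb with h | h | h | h | h | h | h | h | h | h | h | h <;>
    rcases Int.natAbs_eq (F - 8) with e' | e' <;> rw [h] at e' <;>
    obtain rfl : F = _ := (sub_eq_iff_eq_add.1 e') <;> push_cast at heq <;> norm_num at heq <;> omega

end Cfsg.Agent.Lead.GLTwoThree
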