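import Cfsg.Agent.Lib.Lead.GLTwoThree.Vals
import Cfsg.Agent.Lib.Lead.GLTwoThree.Decomp
import Cfsg.Agent.Lib.Char.Exceptional
import Cfsg.Agent.Lib.Char.DihedralOrder

/-!
# The order of a group with one class of involutions and involution centraliser GL(2,3)
-/

set_option autoImplicit false
set_option maxRecDepth 20000
set_option maxHeartbeats 1000000
set_option linter.style.haveILetI false

namespace Cfsg.Agent.Lead.GLTwoThree

open Cfsg Module Cfsg.Agent.Char
open scoped ComplexConjugate

/-- powers on codes -/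
def pw (x : ℕ) : ℕ → ℕ
  | 0 => 28
  | k + 1 => mc x (pw x k)

theorem cod_pow (g : GLT) (k : ℕ) : cod (g ^ k) = pw (cod g) k := by
  induction k with
  | zero => rw [pow_zero, cod_one]; rfl
  | succ k ih => rw [pow_succ', cod_mul, ih]; rfl

theorem root_check : ∀ x ∈ codes, isRoot x = true →
    (pw x 24 = 28) ∧ (∃ k ∈ List.range 24, pw x k = 56) ∧
    (∀ k ∈ List.range 24, mc (pw x k) (pw x k) = 28 → pw x k ≠ 28 → pw x k = 56) := by decide +kernel

theorem centre_check : ∀ x ∈ codes, (∀ y ∈ codes, mc x y = mc y x) → mc x x = 28 → x ≠ 28 → x = 56 := by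
  decide +kernel

theorem invol_cod {g : GLT} : (g * g = 1 ∧ g ≠ 1) ↔ (mc (cod g) (cod g) = 28 ∧ cod g ≠ 28) := by
  rw [← cod_mul, ← cod_one]
  exact and_congr cod_injective.eq_iff.symm cod_injective.ne_iff.symm

theorem classInner_equiv {A B : Type*} [Group A] [Group B] [Fintype A] [Fintype B] (e : A ≃* B)
    (φ ψ : B → ℂ) : classInner (fun a => φ (e a)) (fun a => ψ (e a)) = classInner φ ψ := by
  rw [classInner, classInner, Nat.card_congr e.toEquiv]
  congr 1
  exact Fintype.sum_equiv e.toEquiv _ _ fun a => rfl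

/-- the involutions and the identity -/
def invsList : List ℕ := codes.filter fun u => mc u u == 28

theorem gen_check : ∀ x ∈ codes, ∃ u ∈ codes, ∃ v ∈ codes, ∃ w ∈ codes,
    (mc u u = 28 ∧ mc v v = 28 ∧ mc w w = 28) ∧ x = mc (mc u v) w := by
  have h : ∀ x ∈ codes, ∃ u ∈ invsList, ∃ v ∈ invsList, mc (mc v u) x ∈ invsList ∧
      mc (mc u v) (mc (mc v u) x) = x := by decide +kernel
  intro x hx
  obtain ⟨u, hu, v, hv, hw, he⟩ := h x hx
  simp only [invsList, List.mem_filter, beq_iff_eq] at hu hv hw
  exact ⟨u, hu.1, v, hv.1, _, hw.1, ⟨hu.2, hv.2, hw.2⟩, he.symm⟩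

universe u

variable {G : Type u} [Group G] {t : G}

theorem orderOf_two_iff {H : Type*} [Group H] {g : H} : orderOf g = 2 ↔ (g * g = 1 ∧ g ≠ 1) := by
  haveI : Fact (Nat.Prime 2) := ⟨Nat.prime_two⟩
  rw [orderOf_eq_prime_iff, pow_two]

variable (ht : orderOf t = 2) (e : ↥(Subgroup.centralizer ({t} : Set G)) ≃* GLT)

theorem mem_cent_iff {x : G} : x ∈ Subgroup.centralizer ({t} : Set G) ↔ x * t = t * x := by
  rw [Subgroup.mem_centralizer_singleton_iff]

theorem t_mem : t ∈ Subgroup.centralizer ({t} : Set G) := mem_cent_iff.2 rfl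

include ht in
theorem cod_t : cod (e ⟨t, t_mem⟩) = 56 := by
  obtain ⟨h2, h1⟩ := orderOf_two_iff.1 ht
  obtain ⟨a, b⟩ := invol_cod.1 (show e ⟨t, t_mem⟩ * e ⟨t, t_mem⟩ = 1 ∧ e ⟨t, t_mem⟩ ≠ 1 from
    ⟨by rw [← map_mul, ← map_one e]; exact congrArg e (Subtype.ext h2),
      fun h => h1 (congrArg Subtype.val (e.injective (h.trans (map_one e).symm)))⟩)
  refine centre_check _ (cod_mem _) (fun y hy => ?_) a b
  obtain ⟨n, hn⟩ := e.surjective (ofCode y hy)
  rw [← cod_ofCode y hy, ← cod_mul, ← cod_mul, ← hn, ← map_mul, ← map_mul]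
  exact congrArg (fun m => cod (e m)) (Subtype.ext (mem_cent_iff.1 n.2).symm)

include ht in
theorem root_power {n : ↥(Subgroup.centralizer ({t} : Set G))} (hr : isRoot (cod (e n)) = true) :
    (∃ k, (n : G) ^ k = t) ∧ ∀ k, orderOf ((n : G) ^ k) = 2 → (n : G) ^ k = t := by
  obtain ⟨h24, ⟨k, hk, hk'⟩, hall⟩ := root_check _ (cod_mem (e n)) hr
  have key : ∀ j, pw (cod (e n)) j = 56 → (n : G) ^ j = t := fun j hj => by
    rw [← cod_pow, ← cod_t ht e, ← map_pow] at hj
    exact congrArg Subtype.val (e.injective (cod_injective hj))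
  refine ⟨⟨k, key k hk'⟩, fun j hj => ?_⟩
  have h1 : n ^ 24 = 1 := by
    apply e.injective; apply cod_injective
    rw [map_pow, cod_pow, h24, map_one, cod_one]
  have hj' : (n : G) ^ j = (n : G) ^ (j % 24) := by
    rw [← Subgroup.coe_pow, ← Subgroup.coe_pow, pow_eq_pow_mod j h1]
  rw [hj'] at hj ⊢
  refine key _ ?_
  obtain ⟨h2, hne⟩ := orderOf_two_iff.1 hj
  obtain ⟨a, b⟩ := invol_cod.1 (show e (n ^ (j % 24)) * e (n ^ (j % 24)) = 1 ∧ e (n ^ (j % 24)) ≠ 1 from
    ⟨by rw [← map_mul, ← map_one e]; exact congrArg e (Subtype.ext (by simpa using h2)),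
      fun h => hne (by simpa using congrArg Subtype.val (e.injective (h.trans (map_one e).symm)))⟩)
  rw [map_pow, cod_pow] at a b
  exact hall _ (List.mem_range.2 (Nat.mod_lt _ (by norm_num))) a b

/-- The local virtual characters. -/
noncomputable def psi (i : Fin 5) (n : ↥(Subgroup.centralizer ({t} : Set G))) : ℂ := fi i (e n)

theorem psi_class (i : Fin 5) : IsClassFunction _ (psi e i) := fun g h => by
  simp only [psi, map_mul, map_inv]; exact classFun_fi i _ _

section Induced

variable [Fintype G]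

/-- The induced virtual characters. -/
noncomputable def theta (i : Fin 5) : G → ℂ := indFun (Subgroup.centralizer ({t} : Set G)) (psi e i)

theorem gen_theta (i : Fin 5) : IsGeneralizedCharacter G (theta e i) := by
  obtain ⟨a, b, ha, hb, hab⟩ := gen_fi i
  refine ⟨_, _, isCharacter_indFun _ (isCharacter_comp e.toMonoidHom ha),
    isCharacter_indFun _ (isCharacter_comp e.toMonoidHom hb), ?_⟩
  rw [← indFun_sub]
  unfold theta
  congr 1
  funext n
  exact congrFun hab (e n)

include ht in
theorem theta_root (i : Fin 5) {n : ↥(Subgroup.centralizer ({t} : Set G))} (hr : isRoot (cod (e n)) = true) :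
    theta e i n = psi e i n := by
  classical
  have hterm : ∀ x : G, extendByZero (Subgroup.centralizer ({t} : Set G)) (psi e i) (x⁻¹ * (n : G) * x) = if x ∈ (Subgroup.centralizer ({t} : Set G)) then psi e i n else 0 := by
    intro x
    split_ifs with hx
    · have hm : x⁻¹ * (n : G) * x ∈ (Subgroup.centralizer ({t} : Set G)) := (Subgroup.centralizer ({t} : Set G)).mul_mem ((Subgroup.centralizer ({t} : Set G)).mul_mem ((Subgroup.centralizer ({t} : Set G)).inv_mem hx) n.2) hx
      rw [extendByZero_mem (Subgroup.centralizer ({t} : Set G)) _ hm]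
      have := psi_class e i n ⟨x⁻¹, (Subgroup.centralizer ({t} : Set G)).inv_mem hx⟩
      rw [← this]
      congr 1
      ext
      simp
    · by_cases hm : x⁻¹ * (n : G) * x ∈ (Subgroup.centralizer ({t} : Set G))
      · rw [extendByZero_mem (Subgroup.centralizer ({t} : Set G)) _ hm]
        refine fi_eq_zero i ?_
        by_contra hne
        rw [Bool.not_eq_false] at hne
        obtain ⟨⟨k, hk⟩, -⟩ := root_power ht e hr
        obtain ⟨-, huniq⟩ := root_power ht e hne
        have hc : (x⁻¹ * (n : G) * x) ^ k = x⁻¹ * t * x := by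
          have := conj_pow (a := x⁻¹) (b := (n : G)) (i := k)
          rw [inv_inv] at this
          rw [this, hk]
        have := huniq k (by
          show orderOf ((x⁻¹ * (n : G) * x) ^ k) = 2
          rw [hc, ← ht]
          rw [show x⁻¹ * t * x = MulAut.conj x⁻¹ t by rw [MulAut.conj_apply, inv_inv]]
          exact MulEquiv.orderOf_eq _ t)
        apply hx
        rw [mem_cent_iff]
        have e' : x⁻¹ * t * x = t := by rw [← hc]; exact this
        calc x * t = x * (x⁻¹ * t * x) := by rw [e']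
          _ = t * x := by group
      · exact extendByZero_not_mem (Subgroup.centralizer ({t} : Set G)) _ hm
  simp only [theta, indFun, hterm, Finset.sum_ite, Finset.sum_const_zero, add_zero, Finset.sum_const, nsmul_eq_mul]
  rw [← Fintype.card_subtype, ← Nat.card_eq_fintype_card, ← mul_assoc, inv_mul_cancel₀, one_mul]
  exact Nat.cast_ne_zero.mpr Nat.card_pos.ne'

theorem theta_one (i : Fin 5) : theta e i 1 = 0 := by
  rw [theta, indFun_one, psi, map_one, fi, cod_one, show cls 28 = 0 from rfl]
  fin_cases i <;> simp [V]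

include ht in
theorem inner_theta (i j : Fin 5) : classInner (theta e i) (theta e j) = (gram i j : ℂ) := by
  classical
  haveI := Fintype.ofFinite ↥(Subgroup.centralizer ({t} : Set G))
  haveI := Fintype.ofFinite GLT
  rw [← inner_fi, ← classInner_equiv e]
  simp only [theta]
  rw [Cfsg.Agent.Char.frobenius _ _ (isClassFunction_indFun _ _), classInner, classInner]
  congr 1
  refine Finset.sum_congr rfl fun n _ => ?_
  show psi e i n * _ = fi i (e n) * conj (fi j (e n))
  by_cases hr : isRoot (cod (e n)) = true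
  · rw [show indFun _ (psi e j) (n : G) = psi e j n from theta_root ht e j hr]; rfl
  · rw [Bool.not_eq_true] at hr
    simp [psi, fi_eq_zero i hr]

theorem inner_theta_one (i : Fin 5) :
    classInner (theta e i) (fun _ => 1) = ((![0, 0, 1, 0, 0] : Fin 5 → ℤ) i : ℂ) := by
  classical
  haveI := Fintype.ofFinite ↥(Subgroup.centralizer ({t} : Set G))
  haveI := Fintype.ofFinite GLT
  rw [← inner_fi_one, ← classInner_equiv e, theta,
    Cfsg.Agent.Char.frobenius _ _ (show IsClassFunction G (fun _ => (1 : ℂ)) from fun _ _ => rfl)]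
  rfl

include ht in
/-- The values at the involution are read off the coordinates. -/
theorem value_t {χ : G → ℂ} (hχ : IsClassFunction G χ) :
    2 * classInner (theta e 0) χ + 2 * classInner (theta e 1) χ + classInner (theta e 2) χ +
      classInner (theta e 3) χ - 4 * classInner (theta e 4) χ = conj (χ t) := by
  classical
  haveI := Fintype.ofFinite ↥(Subgroup.centralizer ({t} : Set G))
  simp only [theta, Cfsg.Agent.Char.frobenius _ _ hχ]
  simp only [classInner, psi]
  have hc : (Nat.card ↥(Subgroup.centralizer ({t} : Set G)) : ℂ) = 48 := by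
    rw [Nat.card_congr e.toEquiv, card_glt]; norm_num
  rw [hc]
  have : ∀ n : ↥(Subgroup.centralizer ({t} : Set G)),
      2 * (fi 0 (e n) * conj (χ n)) + 2 * (fi 1 (e n) * conj (χ n)) + fi 2 (e n) * conj (χ n) +
        fi 3 (e n) * conj (χ n) - 4 * (fi 4 (e n) * conj (χ n)) =
      if n = ⟨t, t_mem⟩ then 48 * conj (χ n) else 0 := by
    intro n
    have h := indicator_z (e n)
    have hiff : cod (e n) = 56 ↔ n = ⟨t, t_mem⟩ := by
      rw [← cod_t ht e, cod_injective.eq_iff, e.injective.eq_iff]
    simp only [hiff] at h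
    split_ifs with hn
    · rw [if_pos hn] at h; linear_combination conj (χ (n : G)) * h
    · rw [if_neg hn] at h; linear_combination conj (χ (n : G)) * h
  calc _ = (48 : ℂ)⁻¹ * ∑ n : ↥(Subgroup.centralizer ({t} : Set G)),
        (2 * (fi 0 (e n) * conj (χ n)) + 2 * (fi 1 (e n) * conj (χ n)) + fi 2 (e n) * conj (χ n) +
          fi 3 (e n) * conj (χ n) - 4 * (fi 4 (e n) * conj (χ n))) := by
        simp only [Finset.sum_sub_distrib, Finset.sum_add_distrib, ← Finset.mul_sum]; ring
    _ = _ := by
        rw [Finset.sum_congr rfl fun n _ => this n]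
        simp

end Induced

theorem sum_map_boole (l : List ℕ) (p : ℕ → Bool) :
    (l.map fun x => if p x = true then 1 else 0).sum = l.countP p := by
  induction l with
  | nil => rfl
  | cons a l ih => by_cases h : p a = true <;> simp [h, ih, add_comm]

section Count

variable [Fintype G]

/-- pairs of involutions with a given product -/
noncomputable def pairCount (g : G) : ℕ := Nat.card {u : G // orderOf u = 2 ∧ orderOf (u * g) = 2}

omit [Fintype G] in
theorem pairCount_class (g h : G) : pairCount (h * g * h⁻¹) = pairCount g := by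
  refine (Nat.card_congr ((MulAut.conj h).toEquiv.subtypeEquiv fun u => ?_)).symm
  show _ ↔ orderOf (MulAut.conj h u) = 2 ∧ orderOf (MulAut.conj h u * (MulAut.conj h g)) = 2
  rw [← map_mul, MulEquiv.orderOf_eq, MulEquiv.orderOf_eq]

omit [Fintype G] in
include ht in
theorem pairCount_root {n : ↥(Subgroup.centralizer ({t} : Set G))} (hr : isRoot (cod (e n)) = true) :
    pairCount (n : G) = invPairs (cod (e n)) := by
  classical
  haveI := Fintype.ofFinite GLT
  obtain ⟨⟨k, hk⟩, -⟩ := root_power ht e hr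
  have hu : ∀ u : G, orderOf u = 2 ∧ orderOf (u * (n : G)) = 2 → u ∈ Subgroup.centralizer ({t} : Set G) := by
    rintro u ⟨h1, h2⟩
    obtain ⟨a, -⟩ := orderOf_two_iff.1 h1
    obtain ⟨b, -⟩ := orderOf_two_iff.1 h2
    obtain ⟨c, -⟩ := orderOf_two_iff.1 ht
    have hi : u⁻¹ = u := inv_eq_of_mul_eq_one_left a
    have hinv : u * (n : G) * u⁻¹ = (n : G)⁻¹ := by
      rw [hi]; exact eq_inv_of_mul_eq_one_left (by rw [mul_assoc]; exact b)
    have := congrArg (fun z => z ^ k) hinv
    simp only [conj_pow, inv_pow, hk, inv_eq_of_mul_eq_one_left c] at this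
    rw [mem_cent_iff]
    calc u * t = (u * t * u⁻¹) * u := by group
      _ = t * u := by rw [this]
  let P : GLT → Prop := fun g => (g * g = 1 ∧ g ≠ 1) ∧ (g * e n * (g * e n) = 1 ∧ g * e n ≠ 1)
  have hP : ∀ u : ↥(Subgroup.centralizer ({t} : Set G)),
      (orderOf (u : G) = 2 ∧ orderOf ((u : G) * n) = 2) ↔ P (e u) := by
    intro u
    rw [← Subgroup.coe_mul, Subgroup.orderOf_coe, Subgroup.orderOf_coe, ← MulEquiv.orderOf_eq e,
      ← MulEquiv.orderOf_eq e (u * n), map_mul, orderOf_two_iff, orderOf_two_iff]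
  have e1 : pairCount (n : G) = Nat.card {g : GLT // P g} :=
    Nat.card_congr
      { toFun := fun u => ⟨e ⟨u.1, hu _ u.2⟩, (hP ⟨u.1, hu _ u.2⟩).1 u.2⟩
        invFun := fun g => ⟨(e.symm g.1 : G), (hP _).2 (by rw [e.apply_symm_apply]; exact g.2)⟩
        left_inv := fun u => by simp
        right_inv := fun g => by simp }
  rw [e1, Nat.card_eq_fintype_card, Fintype.card_subtype, Finset.card_filter]
  let Q : ℕ → Prop := fun x => (mc x x = 28 ∧ x ≠ 28) ∧
    (mc (mc x (cod (e n))) (mc x (cod (e n))) = 28 ∧ mc x (cod (e n)) ≠ 28)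
  have hQ : ∀ g : GLT, P g ↔ Q (cod g) := fun g => by
    simp only [P, Q, invol_cod, cod_mul]
  rw [Finset.sum_congr rfl fun g _ => if_congr (hQ g) rfl rfl, sum_cod (fun x => if Q x then 1 else 0), invPairs,
    ← List.countP_eq_length_filter]
  rw [← sum_map_boole]
  refine congrArg List.sum (List.map_congr_left fun x _ => if_congr ?_ rfl rfl)
  simp only [Q, Bool.and_eq_true, bne_iff_ne, beq_iff_eq, ne_eq, decide_eq_true_eq]
  tauto

include ht in
theorem pair_equation (hconj : ∀ u : G, orderOf u = 2 → IsConj t u) (i : Fin 5) :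
    ∑ a : G, ∑ b : G, theta e i (a * t * a⁻¹ * (b * t * b⁻¹)) =
      (Nat.card G : ℂ) * 48 * ((![0, 0, 96, 96, -96] : Fin 5 → ℤ) i : ℂ) := by
  classical
  haveI := Fintype.ofFinite ↥(Subgroup.centralizer ({t} : Set G))
  haveI := Fintype.ofFinite GLT
  have hN : (Nat.card (Subgroup.centralizer ({t} : Set G)) : ℂ) = 48 := by rw [Nat.card_congr e.toEquiv, card_glt]; norm_num
  have hswap : ∀ f : G → ℂ, ∑ a : G, f (a * t * a⁻¹) = 48 * ∑ y : G with orderOf y = 2, f y := by
    intro f
    rw [← hN, show Finset.univ.filter (fun y : G => orderOf y = 2) = Finset.univ.filter (fun y : G => IsConj t y) from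
      Finset.filter_congr fun y _ => ⟨hconj y, fun h => by
        obtain ⟨c, hc⟩ := isConj_iff.1 h
        rw [← hc, show c * t * c⁻¹ = MulAut.conj c t from rfl, MulEquiv.orderOf_eq, ht]⟩, ← sum_conj_eq t f]
    exact Fintype.sum_equiv (Equiv.inv G) _ _ fun a => by simp
  rw [hswap (fun u => ∑ b : G, theta e i (u * (b * t * b⁻¹)))]
  rw [Finset.sum_congr rfl fun u _ => hswap (fun v => theta e i (u * v)), ← Finset.mul_sum]
  have hre : ∀ u : G, orderOf u = 2 → (∑ v : G with orderOf v = 2, theta e i (u * v)) =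
      ∑ g : G, if orderOf (u * g) = 2 then theta e i g else 0 := by
    intro u hu
    obtain ⟨a, -⟩ := orderOf_two_iff.1 hu
    rw [Finset.sum_filter]
    exact Fintype.sum_equiv (Equiv.mulLeft u) _ _ fun v => by
      simp [← mul_assoc, a]
  rw [Finset.sum_congr rfl fun u hu => hre u (Finset.mem_filter.1 hu).2, Finset.sum_comm]
  have hcnt : ∀ g : G, (∑ u : G with orderOf u = 2, if orderOf (u * g) = 2 then theta e i g else 0) =
      theta e i g * conj ((pairCount g : ℕ) : ℂ) := by
    intro g
    rw [map_natCast, ← Finset.sum_filter, Finset.sum_const, nsmul_eq_mul, mul_comm, pairCount,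
      Nat.card_eq_fintype_card, Fintype.card_subtype, Finset.filter_filter]
  rw [Finset.sum_congr rfl fun g _ => hcnt g]
  have hG0 : (Nat.card G : ℂ) ≠ 0 := Nat.cast_ne_zero.2 Nat.card_pos.ne'
  have hfr := Cfsg.Agent.Char.frobenius (Subgroup.centralizer ({t} : Set G)) (psi e i) (χ := fun g => ((pairCount g : ℕ) : ℂ))
    (fun g h => by simp only [pairCount_class])
  have hloc : ∑ n : (Subgroup.centralizer ({t} : Set G)), psi e i n * conj ((pairCount (n : G) : ℕ) : ℂ) =
      ((![0, 0, 96, 96, -96] : Fin 5 → ℤ) i : ℂ) := by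
    rw [← weighted_sum]
    refine Fintype.sum_equiv e.toEquiv _ _ fun n => ?_
    show fi i (e n) * _ = fi i (e n) * _
    by_cases hr : isRoot (cod (e n)) = true
    · rw [map_natCast, pairCount_root ht e hr]; rfl
    · rw [Bool.not_eq_true] at hr; rw [fi_eq_zero i hr, zero_mul, zero_mul]
  simp only [classInner, hloc, hN] at hfr
  change (Nat.card G : ℂ)⁻¹ * ∑ g : G, theta e i g * conj ((pairCount g : ℕ) : ℂ) = _ at hfr
  rw [inv_mul_eq_iff_eq_mul₀ hG0] at hfr
  rw [hfr]
  ring

end Count

include ht e in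
/-- The order formula. -/
theorem order_equation [Finite G] (hconj : ∀ u : G, orderOf u = 2 → IsConj t u) :
      ∃ F : ℤ, (F - 8) ∣ 72 ∧ F ≠ 8 ∧ (Nat.card G : ℤ) * (F - 2) ^ 2 = 4608 * F * (F + 1) := by
  classical
  haveI := Fintype.ofFinite G
  choose z hz hzc using fun i => exists_int_coords (gen_theta e i)
  let d : IrrCharacter G → ℕ := fun χ => deg (χ : G → ℂ)
  have hd : ∀ χ : IrrCharacter G, (χ : G → ℂ) 1 = (d χ : ℂ) := fun χ => char_one_eq_deg (irr_isCharacter χ.2)
  let o : IrrCharacter G := ⟨fun _ => 1, isIrrCharacter_one⟩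
  have hgram : ∀ i j, ∑ χ, z i χ * z j χ = gram i j := by
    intro i j
    have h := inner_theta ht e i j
    rw [hz i, classInner_sum_left] at h
    have : ∀ χ : IrrCharacter G, classInner ((z i χ : ℂ) • (χ : G → ℂ)) (theta e j) = ((z i χ * z j χ : ℤ) : ℂ) := by
      intro χ
      rw [classInner_smul_left, ← classInner_symm, hzc, map_intCast]; push_cast; rfl
    rw [Finset.sum_congr rfl fun χ _ => this χ] at h
    exact_mod_cast h
  have hval : ∀ χ : IrrCharacter G, (χ : G → ℂ) t =
      ((2 * z 0 χ + 2 * z 1 χ + z 2 χ + z 3 χ - 4 * z 4 χ : ℤ) : ℂ) := by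
    intro χ
    have h := congrArg conj (value_t ht e (isClassFunction_character (irr_isCharacter χ.2)))
    simp only [hzc, Complex.conj_conj, map_sub, map_add, map_mul, map_intCast, map_ofNat] at h
    rw [← h]; push_cast; ring
  have hone : ∀ i, z i o = (![0, 0, 1, 0, 0] : Fin 5 → ℤ) i := fun i => by
    have := inner_theta_one e i
    rw [show (fun _ => (1 : ℂ)) = ((o : IrrCharacter G) : G → ℂ) from rfl, hzc] at this
    exact_mod_cast this
  have hlin : ∀ χ, d χ = 1 → z 3 χ = 0 := by
    intro χ h1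
    obtain ⟨l, hl⟩ := exists_hom_of_degree_one (irr_isCharacter χ.2) (by rw [hd, h1, Nat.cast_one])
    have hl' : ∀ g : G, (χ : G → ℂ) g = (l g : ℂ) := fun g => by rw [hl]
    have conj_inv : ∀ u : G, orderOf u = 2 → l u = l t := fun u hu => by
      obtain ⟨c, hc⟩ := isConj_iff.1 (hconj u hu)
      rw [← hc, map_mul, map_mul, map_inv, mul_comm (l c), mul_assoc, mul_inv_cancel, mul_one]
    haveI := Fintype.ofFinite ↥(Subgroup.centralizer ({t} : Set G))
    haveI := Fintype.ofFinite GLT
    -- two involutions with product t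
    have h13 : (29 : ℕ) ∈ codes := by decide +kernel
    have h14 : mc 56 29 ∈ codes := by decide +kernel
    set a : G := ((e.symm (ofCode 29 h13)) : G) with ha
    set b : G := ((e.symm (ofCode (mc 56 29) h14)) : G) with hb
    have hab : a * b = t := by
      rw [ha, hb, ← Subgroup.coe_mul, ← map_mul]
      have : ofCode 29 h13 * ofCode (mc 56 29) h14 = e ⟨t, t_mem⟩ :=
        cod_injective (by rw [cod_mul, cod_ofCode, cod_ofCode, cod_t ht e]; decide +kernel)
      rw [this, e.symm_apply_apply]
    have hinv : ∀ x (hx : x ∈ codes), mc x x = 28 → x ≠ 28 → orderOf ((e.symm (ofCode x hx)) : G) = 2 := by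
      intro x hx p q
      rw [Subgroup.orderOf_coe, MulEquiv.orderOf_eq, orderOf_two_iff, invol_cod, cod_ofCode]
      exact ⟨p, q⟩
    have ta : l a = l t := conj_inv a (hinv _ h13 (by decide +kernel) (by decide +kernel))
    have tb : l b = l t := conj_inv b (hinv _ h14 (by decide +kernel) (by decide +kernel))
    have t1 : l t = 1 := by
      have : l t * l t = l t := by rw [← map_mul l]; conv_rhs => rw [← hab, map_mul, ta, tb, ← map_mul]
      exact mul_left_cancel (this.trans (mul_one _).symm)
    -- the involutions generate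
    have hgen := gen_check
    have hC : ∀ n : ↥(Subgroup.centralizer ({t} : Set G)), l (n : G) = 1 := by
      intro n
      obtain ⟨u, hu, v, hv, w, hw, ⟨eu, ev, ew⟩, hx⟩ := hgen _ (cod_mem (e n))
      have one : ∀ u (hu : u ∈ codes), mc u u = 28 → l ((e.symm (ofCode u hu)) : G) = 1 := by
        intro u hu eu
        by_cases h28 : u = 28
        · subst h28
          rw [show ofCode 28 hu = 1 from cod_injective (by rw [cod_ofCode, cod_one]), map_one, Subgroup.coe_one, map_one]
        · rw [conj_inv _ (hinv u hu eu h28), t1]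
      have en : n = e.symm (ofCode u hu) * e.symm (ofCode v hv) * e.symm (ofCode w hw) := by
        rw [← map_mul, ← map_mul, MulEquiv.eq_symm_apply]
        exact cod_injective (by rw [hx, cod_mul, cod_mul, cod_ofCode, cod_ofCode, cod_ofCode])
      rw [en, Subgroup.coe_mul, Subgroup.coe_mul, map_mul, map_mul, one u hu eu, one v hv ev, one w hw ew, one_mul,
        one_mul]
    have h := hzc 3 χ
    rw [theta, Cfsg.Agent.Char.frobenius _ _ (isClassFunction_character (irr_isCharacter χ.2))] at h
    have h0 : classInner (psi e 3) (fun n => (χ : G → ℂ) (n : G)) = 0 := by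
      have e2 : (fun n : ↥(Subgroup.centralizer ({t} : Set G)) => (χ : G → ℂ) (n : G)) = fun n => (fun _ : GLT => (1 : ℂ)) (e n) := by
        funext n; rw [hl', hC]; simp
      rw [e2]
      show classInner (fun n => fi 3 (e n)) _ = 0
      rw [classInner_equiv e (fi 3) (fun _ => 1), inner_fi_one]
      simp
    rw [h0] at h
    exact_mod_cast h.symm
  have hdeg : ∀ i, ∑ χ, z i χ * (d χ : ℤ) = 0 := by
    intro i
    have h := theta_one e i
    rw [hz i, Finset.sum_apply] at h
    simp only [Pi.smul_apply, smul_eq_mul, hd] at h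
    exact_mod_cast h
  have heq : ∀ i, ∑ χ, (z i χ : ℚ) *
      (((2 * z 0 χ + 2 * z 1 χ + z 2 χ + z 3 χ - 4 * z 4 χ : ℤ) : ℚ) ^ 2 / (d χ : ℚ)) =
      48 * ((![0, 0, 96, 96, -96] : Fin 5 → ℤ) i : ℚ) / (Nat.card G : ℚ) := by
    intro i
    have h := pair_equation ht e hconj i
    have hsum : ∑ a : G, ∑ b : G, theta e i (a * t * a⁻¹ * (b * t * b⁻¹)) =
        (Nat.card G : ℂ) ^ 2 * ∑ χ : IrrCharacter G, (z i χ : ℂ) *
          (((2 * z 0 χ + 2 * z 1 χ + z 2 χ + z 3 χ - 4 * z 4 χ : ℤ) : ℂ) ^ 2 / (d χ : ℂ)) := by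
      rw [hz i]
      simp only [Finset.sum_apply, Pi.smul_apply, smul_eq_mul]
      rw [Finset.sum_congr rfl fun a _ => Finset.sum_comm, Finset.sum_comm, Finset.mul_sum]
      refine Finset.sum_congr rfl fun χ _ => ?_
      simp only [← Finset.mul_sum, sum_pair_irr, hval, hd]
      ring
    rw [hsum] at h
    have hG0 : (Nat.card G : ℂ) ≠ 0 := Nat.cast_ne_zero.2 Nat.card_pos.ne'
    apply (Rat.cast_injective (α := ℂ))
    push_cast
    push_cast at h
    rw [eq_div_iff hG0]
    refine mul_left_cancel₀ hG0 ?_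
    linear_combination h
  have D : Data z o d (Nat.card G) :=
    { g00 := by simp only [pow_two]; exact hgram 0 0
      g11 := by simp only [pow_two]; exact hgram 1 1
      g22 := by simp only [pow_two]; exact hgram 2 2
      g33 := by simp only [pow_two]; exact hgram 3 3
      g44 := by simp only [pow_two]; exact hgram 4 4
      g01 := hgram 0 1
      g02 := hgram 0 2
      g03 := hgram 0 3
      g04 := hgram 0 4
      g12 := hgram 1 2
      g13 := hgram 1 3
      g14 := hgram 1 4
      g23 := hgram 2 3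
      g24 := hgram 2 4
      g34 := hgram 3 4
      z0o := hone 0
      z1o := hone 1
      z2o := hone 2
      z3o := hone 3
      z4o := hone 4
      deg := hdeg
      dpos := fun χ => deg_pos χ.2
      do1 := by
        have := hd o
        have h1 : ((o : IrrCharacter G) : G → ℂ) 1 = 1 := rfl
        rw [h1] at this
        exact_mod_cast this.symm
      lin := hlin
      eq2 := by rw [heq 2, show (![0, 0, 96, 96, -96] : Fin 5 → ℤ) 2 = 96 from rfl]; norm_num
      eq3 := by rw [heq 3, show (![0, 0, 96, 96, -96] : Fin 5 → ℤ) 3 = 96 from rfl]; norm_num }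
  exact D.arith Nat.card_pos

end Cfsg.Agent.Lead.GLTwoThree
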