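import Cfsg.Agent.Lib.Lead.GLTwoThree.Local

/-!
# The two elementary subgroups of order nine and their normalisers
-/

set_option autoImplicit false
set_option maxRecDepth 20000
set_option linter.style.haveILetI false

namespace Cfsg.Agent.Lead.GLTwoThree

universe u

variable {G : Type u} [Group G] [Finite G] {t : G}

/-- all products of powers of two commuting elements -/
def pairSub (a b : G) (h : Commute a b) : Subgroup G where
  carrier := {x | ∃ i j : ℤ, x = a ^ i * b ^ j}
  one_mem' := ⟨0, 0, by simp⟩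
  mul_mem' := by
    rintro x y ⟨i, j, rfl⟩ ⟨k, l, rfl⟩
    refine ⟨i + k, j + l, ?_⟩
    rw [zpow_add, zpow_add, mul_assoc, ← mul_assoc (b ^ j), ((h.zpow_zpow k j).symm).eq]
    simp [mul_assoc]
  inv_mem' := by
    rintro x ⟨i, j, rfl⟩
    exact ⟨-i, -j, by rw [mul_inv_rev, ← zpow_neg, ← zpow_neg, ((h.zpow_zpow (-i) (-j)).symm).eq]⟩

omit [Finite G] in
theorem pow_three_zpow {x : G} (h : x ^ 3 = 1) (i : ℤ) : x ^ i = x ^ (i % 3) := by
  have h' : x ^ (3 : ℤ) = 1 := by exact_mod_cast h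
  conv_lhs => rw [← Int.mul_ediv_add_emod i 3, zpow_add, zpow_mul, h', one_zpow, one_mul]

omit [Finite G] in
theorem mem_zpowers_three {a x : G} (h : a ^ 3 = 1) (hx : x ∈ Subgroup.zpowers a) : x = 1 ∨ x = a ∨ x = a⁻¹ := by
  obtain ⟨i, rfl⟩ := Subgroup.mem_zpowers_iff.1 hx
  rw [pow_three_zpow h i]
  have : i % 3 = 0 ∨ i % 3 = 1 ∨ i % 3 = 2 := by omega
  rcases this with e | e | e <;> rw [e]
  · left; simp
  · right; left; simp
  · right; right
    apply eq_inv_of_mul_eq_one_left
    rw [show (2 : ℤ) = ((2 : ℕ) : ℤ) from rfl, zpow_natCast, ← pow_succ, h]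

omit [Finite G] in
theorem mem_zpowers_of_zpow {a x : G} (h : x ^ 3 = 1) {j : ℤ} (hj : ¬ (3 : ℤ) ∣ j)
    (hm : x ^ j ∈ Subgroup.zpowers a) : x ∈ Subgroup.zpowers a := by
  have : x = (x ^ j) ^ j := by
    rw [← zpow_mul, pow_three_zpow h (j * j)]
    have : j * j % 3 = 1 := by
      rw [Int.mul_emod]
      have : j % 3 = 1 ∨ j % 3 = 2 := by omega
      rcases this with e | e <;> rw [e] <;> norm_num
    rw [this, zpow_one]
  rw [this]
  exact Subgroup.zpow_mem _ hm _

omit [Finite G] in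
theorem pair_inj {a b : G} (h : Commute a b) (ha : a ^ 3 = 1) (hb : b ^ 3 = 1) (ha1 : a ≠ 1)
    (hba : b ∉ Subgroup.zpowers a) {i j : ℤ} (e : a ^ i * b ^ j = 1) : 3 ∣ i ∧ 3 ∣ j := by
  have hj : 3 ∣ j := by
    by_contra hc
    refine hba (mem_zpowers_of_zpow hb hc ?_)
    rw [show b ^ j = (a ^ i)⁻¹ from eq_inv_of_mul_eq_one_right e]
    exact Subgroup.inv_mem _ (Subgroup.zpow_mem_zpowers a i)
  refine ⟨?_, hj⟩
  rw [pow_three_zpow hb j, Int.emod_eq_zero_of_dvd hj, zpow_zero, mul_one, pow_three_zpow ha i] at e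
  by_contra hc
  have : i % 3 = 1 ∨ i % 3 = 2 := by omega
  rcases this with e' | e' <;> rw [e'] at e
  · exact ha1 (by simpa using e)
  · apply ha1
    calc a = a ^ (2 : ℤ) * a ^ (2 : ℤ) := by
          rw [← zpow_add, pow_three_zpow ha (2 + 2)]; norm_num
      _ = 1 := by rw [e, one_mul]

namespace Hyp

variable (S : Hyp G t)

theorem exists_cube : ∃ P : Subgroup G, Nat.card P = 27 ∧ P ≤ Subgroup.centralizer ({S.u} : Set G) ∧
    (P.subgroupOf (Subgroup.centralizer ({S.u} : Set G))).Normal := by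
  haveI : Fact (Nat.Prime 3) := ⟨Nat.prime_three⟩
  obtain ⟨T, hT⟩ := Sylow.exists_subgroup_card_pow_prime (G := ↥(Subgroup.centralizer ({S.u} : Set G))) 3 (n := 3)
    (by rw [S.card_cent_u]; norm_num)
  refine ⟨T.map (Subgroup.centralizer ({S.u} : Set G)).subtype, ?_, Subgroup.map_subtype_le _, ?_⟩
  · rw [Subgroup.card_map_of_injective Subtype.val_injective, hT]; norm_num
  · refine Subgroup.normal_of_index_eq_two ?_
    rw [Subgroup.subgroupOf, Subgroup.comap_map_eq_self_of_injective Subtype.val_injective]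
    have := T.index_mul_card
    rw [hT, S.card_cent_u] at this
    omega

/-- the Sylow 3-subgroup at `u` -/
noncomputable def P : Subgroup G := S.exists_cube.choose

theorem card_P : Nat.card S.P = 27 := S.exists_cube.choose_spec.1

theorem P_le : S.P ≤ Subgroup.centralizer ({S.u} : Set G) := S.exists_cube.choose_spec.2.1

theorem P_normal : (S.P.subgroupOf (Subgroup.centralizer ({S.u} : Set G))).Normal :=
  S.exists_cube.choose_spec.2.2

theorem P_comm {x : G} (hx : x ∈ S.P) : x * S.u = S.u * x :=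
  Subgroup.mem_centralizer_singleton_iff.1 (S.exists_cube.choose_spec.2.1 hx)

theorem P_pow {x : G} (hx : x ∈ S.P) : x ^ 27 = 1 := by
  have h := pow_card_eq_one' (x := (⟨x, hx⟩ : S.P))
  rw [S.card_P] at h
  simpa using congrArg Subtype.val h

theorem sq_mem {x : G} (hx : x * S.u = S.u * x) : x ^ 2 ∈ S.P := by
  set C := Subgroup.centralizer ({S.u} : Set G)
  haveI : (S.P.subgroupOf C).Normal := S.P_normal
  have hq : Nat.card (↥C ⧸ S.P.subgroupOf C) = 2 := by
    rw [← Subgroup.index_eq_card]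
    have := (S.P.subgroupOf C).index_mul_card
    rw [Nat.card_congr (Subgroup.subgroupOfEquivOfLe S.P_le).toEquiv, S.card_P,
      S.card_cent_u] at this
    omega
  have hxC : x ∈ C := Subgroup.mem_centralizer_singleton_iff.2 hx
  have := pow_card_eq_one' (x := ((⟨x, hxC⟩ : C) : ↥C ⧸ S.P.subgroupOf C))
  rw [hq, ← QuotientGroup.mk_pow, QuotientGroup.eq_one_iff] at this
  exact this

theorem mem_P {x : G} (hx : x * S.u = S.u * x) (h27 : x ^ 27 = 1) : x ∈ S.P := by
  have : x = (x ^ 2) ^ 14 := by rw [← pow_mul, show 2 * 14 = 27 + 1 by norm_num, pow_succ, h27, one_mul]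
  rw [this]
  exact Subgroup.pow_mem _ (S.sq_mem hx) _

theorem u_three : S.u ^ 3 = 1 := by rw [← S.orderOf_u]; exact pow_orderOf_eq_one _

theorem u_ne : S.u ≠ 1 := fun e => by have := S.orderOf_u; rw [e, orderOf_one] at this; norm_num at this

theorem u_ne_inv : S.u⁻¹ ≠ S.u := fun e => S.u_ne (by
  have h : S.u * S.u = 1 := by rw [inv_eq_iff_mul_eq_one] at e; exact e
  have := S.u_three
  rwa [pow_succ, pow_two, h, one_mul] at this)

theorem u_mem : S.u ∈ S.P := S.mem_P rfl (by rw [show 27 = 3 * 9 by norm_num, pow_mul, S.u_three, one_pow])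

theorem conj_mem_P {n : G} (hn : n * S.u * n⁻¹ = S.u ∨ n * S.u * n⁻¹ = S.u⁻¹) {x : G} (hx : x ∈ S.P) :
    n * x * n⁻¹ ∈ S.P := by
  refine S.mem_P ?_ (by rw [conj_pow, S.P_pow hx]; group)
  have h : n * x * n⁻¹ * (n * S.u * n⁻¹) = n * S.u * n⁻¹ * (n * x * n⁻¹) := by
    calc _ = n * (x * S.u) * n⁻¹ := by group
      _ = n * (S.u * x) * n⁻¹ := by rw [S.P_comm hx]
      _ = _ := by group
  rcases hn with e | e <;> rw [e] at h
  · exact h
  · simpa using (Commute.inv_right (show Commute (n * x * n⁻¹) S.u⁻¹ from h)).eq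

theorem conj_u_t : t * S.u * t⁻¹ = S.u := by rw [← S.comm_ut, mul_inv_cancel_right]

/-- elements of `P` centralised by a given involution: at most three -/
theorem fixed_le_three {r : G} (hr : orderOf r = 2) (K : Subgroup G) (hK : K ≤ S.P)
    (hfix : ∀ x ∈ K, x * r = r * x) : Nat.card K ∣ 3 := by
  have h27 : Nat.card K ∣ 27 := S.card_P ▸ Subgroup.card_dvd_of_le hK
  obtain ⟨g, hg⟩ := isConj_iff.1 (S.one_class' r hr)
  have h48 : Nat.card K ∣ 48 := by
    have hle : K.map (MulAut.conj g⁻¹).toMonoidHom ≤ Subgroup.centralizer ({t} : Set G) := by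
      rintro _ ⟨x, hx, rfl⟩
      show g⁻¹ * x * g⁻¹⁻¹ ∈ _
      rw [mem_cent_iff]
      have e : t = g⁻¹ * r * g := by rw [← hg]; group
      conv_lhs => rw [e]
      conv_rhs => rw [e]
      calc g⁻¹ * x * g⁻¹⁻¹ * (g⁻¹ * r * g) = g⁻¹ * (x * r) * g := by group
        _ = g⁻¹ * (r * x) * g := by rw [hfix x hx]
        _ = _ := by group
    have := Subgroup.card_dvd_of_le hle
    rwa [Subgroup.card_map_of_injective (MulAut.conj g⁻¹).injective, Nat.card_congr S.e.toEquiv, card_glt] at this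
  exact (Nat.dvd_gcd h27 h48).trans (by decide)

/-- a side: an involution inverting `u` and commuting with `t` -/
def IsFlip (r : G) : Prop := r * r = 1 ∧ r * t = t * r ∧ r * S.u * r⁻¹ = S.u⁻¹

theorem flip_s : S.IsFlip S.s := ⟨S.s_spec.1, S.s_spec.2.2.1, S.s_spec.2.1⟩

theorem flip_mul {r : G} (h : S.IsFlip r) : S.IsFlip (t * r) := by
  obtain ⟨h1, h2, h3⟩ := h
  have t2 := (orderOf_two_iff.1 S.ht).1
  refine ⟨?_, ?_, ?_⟩
  · calc t * r * (t * r) = t * (r * t) * r := by group
      _ = (t * t) * (r * r) := by rw [h2]; group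
      _ = 1 := by rw [t2, h1, one_mul]
  · calc t * r * t = t * (r * t) := by group
      _ = t * (t * r) := by rw [h2]
  · calc t * r * S.u * (t * r)⁻¹ = t * (r * S.u * r⁻¹) * t⁻¹ := by group
      _ = (t * S.u * t⁻¹)⁻¹ := by rw [h3]; group
      _ = _ := by rw [S.conj_u_t]

theorem flip_order {r : G} (h : S.IsFlip r) : orderOf r = 2 := by
  refine orderOf_two_iff.2 ⟨h.1, fun e => ?_⟩
  have := h.2.2
  rw [e] at this
  exact S.u_ne_inv (by simpa using this.symm)

theorem exists_fixed {r : G} (h : S.IsFlip r) :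
    ∃ v ∈ S.P, v ≠ 1 ∧ v ^ 3 = 1 ∧ v * r = r * v ∧ v ∉ Subgroup.zpowers S.u ∧ t * v * t⁻¹ = v⁻¹ ∧
      IsConj S.u v := by
  classical
  haveI := Fintype.ofFinite G
  set K : Subgroup G := S.P ⊓ Subgroup.centralizer ({r} : Set G) with hK
  have memK : ∀ {x : G}, x ∈ K ↔ x ∈ S.P ∧ x * r = r * x := fun {x} => by
    rw [hK, Subgroup.mem_inf, Subgroup.mem_centralizer_singleton_iff]
  have hKc := S.fixed_le_three (S.flip_order h) K inf_le_left fun x hx => (memK.1 hx).2
  have hne : ∃ v ∈ K, v ≠ 1 := by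
    by_contra hno
    push Not at hno
    -- `r` would invert all of `P`
    let φ : S.P →* S.P :=
      { toFun := fun x => ⟨r * x * r⁻¹, S.conj_mem_P (Or.inr h.2.2) x.2⟩
        map_one' := Subtype.ext (by simp)
        map_mul' := fun x y => Subtype.ext (by simp [mul_assoc]) }
    have hri : r⁻¹ = r := inv_eq_of_mul_eq_one_left h.1
    have hfree : MonoidHom.FixedPointFree φ := fun x hx => by
      refine Subtype.ext (hno _ (memK.2 ⟨x.2, ?_⟩))
      have e : r * (x : G) * r⁻¹ = x := congrArg Subtype.val hx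
      calc (x : G) * r = r * (x : G) * r⁻¹ * r := by rw [e]
        _ = r * x := by group
    have hinv : Function.Involutive φ := fun x => Subtype.ext (by
      show r * (r * (x : G) * r⁻¹) * r⁻¹ = x
      calc r * (r * (x : G) * r⁻¹) * r⁻¹ = (r * r) * x * (r * r)⁻¹ := by group
        _ = x := by rw [h.1]; simp)
    have hall : ∀ x ∈ S.P, r * x * r⁻¹ = x⁻¹ := fun x hx =>
      congrArg Subtype.val (congrFun (MonoidHom.FixedPointFree.coe_eq_inv_of_involutive hfree hinv) ⟨x, hx⟩)
    set L : Subgroup G := S.P ⊓ Subgroup.centralizer ({t * r} : Set G) with hL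
    have hLc := S.fixed_le_three (S.flip_order (S.flip_mul h)) L inf_le_left
      fun x hx => Subgroup.mem_centralizer_singleton_iff.1 hx.2
    set M : Subgroup G := S.P ⊓ Subgroup.centralizer ({t} : Set G) with hM
    have hMc := S.fixed_le_three S.ht M inf_le_left fun x hx => Subgroup.mem_centralizer_singleton_iff.1 hx.2
    have hy : ∀ x : S.P, (x : G)⁻¹ * (t * x * t⁻¹) ∈ L := by
      intro x
      have hP' : (x : G)⁻¹ * (t * x * t⁻¹) ∈ S.P :=
        S.P.mul_mem (S.P.inv_mem x.2) (S.conj_mem_P (Or.inl S.conj_u_t) x.2)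
      refine ⟨hP', Subgroup.mem_centralizer_singleton_iff.2 ?_⟩
      set y := (x : G)⁻¹ * (t * x * t⁻¹) with hyd
      have ty : t * y * t⁻¹ = y⁻¹ := by
        have t2 : t⁻¹ = t := inv_eq_of_mul_eq_one_left (orderOf_two_iff.1 S.ht).1
        rw [hyd]
        simp only [mul_inv_rev, inv_inv, t2]
        calc t * ((x : G)⁻¹ * (t * x * t)) * t = t * (x : G)⁻¹ * t * x * (t * t) := by group
          _ = _ := by rw [(orderOf_two_iff.1 S.ht).1]; group
      calc y * (t * r) = t * (t⁻¹ * y * t) * r := by group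
        _ = t * r * (r⁻¹ * (t⁻¹ * y * t) * r) := by group
        _ = t * r * y := by
          have t2 : t⁻¹ = t := inv_eq_of_mul_eq_one_left (orderOf_two_iff.1 S.ht).1
          have e1 : t⁻¹ * y * t = y⁻¹ := by
            calc t⁻¹ * y * t = t * y * t⁻¹ := by rw [t2]
              _ = _ := ty
          have e2 : r⁻¹ * y⁻¹ * r = y := by
            calc r⁻¹ * y⁻¹ * r = r * y⁻¹ * r⁻¹ := by rw [hri]
              _ = _ := by rw [hall _ (S.P.inv_mem hP'), inv_inv]
          rw [e1, e2]
    let f : S.P ⧸ M.subgroupOf S.P → L := fun q => ⟨_, hy q.out⟩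
    have hf : Function.Injective f := by
      intro a b e
      have e' : (a.out : G)⁻¹ * (t * a.out * t⁻¹) = (b.out : G)⁻¹ * (t * b.out * t⁻¹) := congrArg Subtype.val e
      rw [← QuotientGroup.out_eq' a, ← QuotientGroup.out_eq' b, eq_comm, QuotientGroup.eq]
      refine Subgroup.mem_subgroupOf.2 ⟨S.P.mul_mem (S.P.inv_mem b.out.2) a.out.2, Subgroup.mem_centralizer_singleton_iff.2 ?_⟩
      rw [Subgroup.coe_mul, Subgroup.coe_inv]
      have step : (a.out : G) * (b.out : G)⁻¹ = (t * a.out * t⁻¹) * (t * b.out * t⁻¹)⁻¹ := by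
        calc (a.out : G) * (b.out : G)⁻¹
            = (a.out : G) * ((b.out : G)⁻¹ * (t * b.out * t⁻¹)) * (t * b.out * t⁻¹)⁻¹ := by group
          _ = (t * a.out * t⁻¹) * (t * b.out * t⁻¹)⁻¹ := by rw [← e']; group
      -- abelian: `r` inverts `P`
      have hcomm : ∀ p q : S.P, (p : G) * q = q * p := fun p q => by
        have e1 := hall _ (S.P.mul_mem p.2 q.2)
        rw [show r * ((p : G) * q) * r⁻¹ = (r * p * r⁻¹) * (r * q * r⁻¹) by group, hall _ p.2, hall _ q.2,
          ← mul_inv_rev, inv_inj] at e1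
        exact e1.symm
      have hc : (b.out : G)⁻¹ * a.out = (a.out : G) * (b.out : G)⁻¹ := hcomm (b.out)⁻¹ a.out
      rw [hc]
      calc (a.out : G) * (b.out : G)⁻¹ * t = (t * a.out * t⁻¹) * (t * b.out * t⁻¹)⁻¹ * t := by rw [← step]
        _ = t * ((a.out : G) * (b.out : G)⁻¹) := by group
    have h1 := Nat.card_le_card_of_injective f hf
    have h2 : Nat.card (S.P ⧸ M.subgroupOf S.P) * Nat.card (M.subgroupOf S.P) = 27 := by
      rw [← S.card_P, ← Subgroup.index_eq_card]; exact Subgroup.index_mul_card _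
    rw [Nat.card_congr (Subgroup.subgroupOfEquivOfLe (inf_le_left : M ≤ S.P)).toEquiv] at h2
    have a1 := Nat.le_of_dvd (by norm_num) hMc
    have a2 := Nat.le_of_dvd (by norm_num) hLc
    nlinarith
  obtain ⟨v, hv, hv1⟩ := hne
  obtain ⟨hvP, hvr⟩ := memK.1 hv
  have hv3 : v ^ 3 = 1 := by
    have h := pow_card_eq_one' (x := (⟨v, hv⟩ : K))
    obtain ⟨k, hk⟩ := hKc
    have : (⟨v, hv⟩ : K) ^ 3 = 1 := by rw [hk, pow_mul, h, one_pow]
    simpa using congrArg Subtype.val this
  have hvu : v ∉ Subgroup.zpowers S.u := by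
    intro hm
    rcases mem_zpowers_three S.u_three hm with e | e | e
    · exact hv1 e
    · rw [e] at hvr; exact S.u_ne_inv (by rw [← h.2.2, ← hvr, mul_inv_cancel_right])
    · have h' : Commute S.u⁻¹ r := e ▸ hvr
      have h'' : S.u * r = r * S.u := by simpa using h'.inv_left.eq
      exact S.u_ne_inv (by rw [← h.2.2, ← h'', mul_inv_cancel_right])
  have hvord : orderOf v = 3 := haveI : Fact (Nat.Prime 3) := ⟨Nat.prime_three⟩; orderOf_eq_prime hv3 hv1
  have hKz : K ≤ Subgroup.zpowers v := by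
    refine le_of_eq (Subgroup.eq_of_le_of_card_ge (Subgroup.zpowers_le.2 hv) ?_).symm
    rw [Nat.card_zpowers, hvord]
    exact Nat.le_of_dvd (by norm_num) hKc
  have htv : t * v * t⁻¹ = v⁻¹ := by
    have hm : t * v * t⁻¹ ∈ K := memK.2 ⟨S.conj_mem_P (Or.inl S.conj_u_t) hvP, by
      calc t * v * t⁻¹ * r = t * v * (t⁻¹ * r) := by group
        _ = t * v * (r * t⁻¹) := by
          rw [show t⁻¹ * r = r * t⁻¹ from ((show Commute r t from h.2.1).inv_right).eq.symm]
        _ = t * (v * r) * t⁻¹ := by group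
        _ = t * (r * v) * t⁻¹ := by rw [hvr]
        _ = (t * r) * v * t⁻¹ := by group
        _ = (r * t) * v * t⁻¹ := by rw [h.2.1]
        _ = _ := by group⟩
    rcases mem_zpowers_three hv3 (hKz hm) with e | e | e
    · exact absurd (by calc v = t⁻¹ * (t * v * t⁻¹) * t := by group
                          _ = 1 := by rw [e]; group) hv1
    · exfalso
      set M : Subgroup G := S.P ⊓ Subgroup.centralizer ({t} : Set G)
      have hMc := S.fixed_le_three S.ht M inf_le_left fun x hx => Subgroup.mem_centralizer_singleton_iff.1 hx.2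
      have hu : S.u ∈ M := ⟨S.u_mem, Subgroup.mem_centralizer_singleton_iff.2 S.comm_ut⟩
      have hvM : v ∈ M := ⟨hvP, Subgroup.mem_centralizer_singleton_iff.2 (mul_inv_eq_iff_eq_mul.1 e).symm⟩
      refine hvu ?_
      rw [Subgroup.eq_of_le_of_card_ge (Subgroup.zpowers_le.2 hu) (by
        rw [Nat.card_zpowers, S.orderOf_u]; exact Nat.le_of_dvd (by norm_num) hMc)]
      exact hvM
    · exact e
  exact ⟨v, hvP, hv1, hv3, hvr, hvu, htv, S.conj_u hv3 hv1 (S.flip_order h) hvr⟩

theorem glt_norm_three : ∀ x ∈ codes, pw x 3 = 28 → x ≠ 28 →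
    (codes.filter fun y => mc (mc y x) (iv y) == x || mc (mc y x) (iv y) == pw x 2).length ≤ 12 := by
  decide +kernel

/-- `u` normalisers -/
theorem flip_cases {n : G} (hn : n * S.u * n⁻¹ = S.u⁻¹) {r : G} (hr : S.IsFlip r) :
    (n * r) * S.u = S.u * (n * r) := by
  have hri : r⁻¹ = r := inv_eq_of_mul_eq_one_left hr.1
  calc n * r * S.u = n * (r * S.u * r⁻¹) * r := by group
    _ = (n * S.u * n⁻¹)⁻¹ * (n * r) := by rw [hr.2.2]; group
    _ = S.u * (n * r) := by rw [hn, inv_inv]

theorem cent_cases {x : G} (hx : x * S.u = S.u * x) : x ∈ S.P ∨ x * t ∈ S.P := by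
  classical
  set C := Subgroup.centralizer ({S.u} : Set G)
  haveI : (S.P.subgroupOf C).Normal := S.P_normal
  have hidx : (S.P.subgroupOf C).index = 2 := by
    have := (S.P.subgroupOf C).index_mul_card
    rw [Nat.card_congr (Subgroup.subgroupOfEquivOfLe S.P_le).toEquiv, S.card_P,
      S.card_cent_u] at this
    omega
  have htP : (⟨t, Subgroup.mem_centralizer_singleton_iff.2 S.comm_ut.symm⟩ : C) ∉ S.P.subgroupOf C := fun h => by
    have h' : t ^ 27 = 1 := S.P_pow (Subgroup.mem_subgroupOf.1 h)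
    have := orderOf_dvd_of_pow_eq_one h'
    rw [S.ht] at this
    norm_num at this
  by_cases h : (⟨x, Subgroup.mem_centralizer_singleton_iff.2 hx⟩ : C) ∈ S.P.subgroupOf C
  · exact Or.inl h
  · exact Or.inr ((Subgroup.mul_mem_iff_of_index_two hidx).2 (iff_of_false h htP))

/-- `P` is not abelian -/
theorem nonabelian : ¬ ∀ x ∈ S.P, ∀ y ∈ S.P, x * y = y * x := by
  classical
  intro hab
  haveI : Fact (Nat.Prime 2) := ⟨Nat.prime_two⟩
  haveI : Fact (Nat.Prime 3) := ⟨Nat.prime_three⟩
  obtain ⟨v, hvP, hv1, hv3, hvr, hvu, -, hconj⟩ := S.exists_fixed S.flip_s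
  obtain ⟨g, hg⟩ := isConj_iff.1 hconj
  set N := Subgroup.normalizer (S.P : Set G) with hN
  set N0 := Subgroup.normalizer (Subgroup.zpowers S.u : Set G) with hN0
  have hCN : Subgroup.centralizer ({S.u} : Set G) ≤ N := by
    intro n hn
    have e : n * S.u * n⁻¹ = S.u := by rw [Subgroup.mem_centralizer_singleton_iff.1 hn, mul_inv_cancel_right]
    rw [hN, Subgroup.mem_normalizer_iff]
    refine fun x => ⟨fun hx => S.conj_mem_P (Or.inl e) hx, fun hx => ?_⟩
    have e' : n⁻¹ * S.u * n⁻¹⁻¹ = S.u := by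
      conv_lhs => rw [← e]
      group
    have := S.conj_mem_P (Or.inl e') hx
    rwa [show n⁻¹ * (n * x * n⁻¹) * n⁻¹⁻¹ = x by group] at this
  have hgN : g ∈ N := by
    have hsub : ∀ x ∈ S.P, g⁻¹ * x * g ∈ S.P := fun x hx => by
      refine S.mem_P ?_ (by rw [show g⁻¹ * x * g = g⁻¹ * x * g⁻¹⁻¹ by group, conj_pow, S.P_pow hx]; group)
      calc g⁻¹ * x * g * S.u = g⁻¹ * (x * (g * S.u * g⁻¹)) * g := by group
        _ = g⁻¹ * ((g * S.u * g⁻¹) * x) * g := by rw [hg, hab x hx v hvP]
        _ = _ := by group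
    have hle : S.P.map (MulAut.conj g⁻¹).toMonoidHom ≤ S.P := by
      rintro _ ⟨x, hx, rfl⟩
      show g⁻¹ * x * g⁻¹⁻¹ ∈ _
      rw [inv_inv]; exact hsub x hx
    have heq := Subgroup.eq_of_le_of_card_ge hle
      (by rw [Subgroup.card_map_of_injective (MulAut.conj g⁻¹).injective])
    rw [hN, Subgroup.mem_normalizer_iff]
    intro x
    constructor
    · intro hx
      rw [← heq] at hx
      obtain ⟨y, hy, rfl⟩ := hx
      show g * (g⁻¹ * y * g⁻¹⁻¹) * g⁻¹ ∈ _
      rw [show g * (g⁻¹ * y * g⁻¹⁻¹) * g⁻¹ = y by group]; exact hy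
    · intro hx
      have := hsub _ hx
      rwa [show g⁻¹ * (g * x * g⁻¹) * g = x by group] at this
  -- the Sylow number is `13`
  let P' : Sylow 3 G := Sylow.ofCard S.P (by
    rw [S.card_P, S.card, Nat.factorization_def _ (by norm_num : Nat.Prime 3)]
    have : padicValNat 3 5616 = 3 := by
      rw [show (5616 : ℕ) = 3 ^ 3 * 208 by norm_num, padicValNat.mul (by norm_num) (by norm_num),
        padicValNat.prime_pow, padicValNat.eq_zero_of_not_dvd (by norm_num)]
    rw [this]; norm_num)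
  have hn : Nat.card (Sylow 3 G) = N.index := Sylow.card_eq_index_normalizer P'
  have hmod := card_sylow_modEq_one 3 G
  rw [hn] at hmod
  have hmul := N.index_mul_card
  rw [S.card] at hmul
  have hsN : S.s ∈ N := by
    obtain ⟨h1, -, h3⟩ := S.flip_s
    have hsi : S.s⁻¹ = S.s := inv_eq_of_mul_eq_one_left h1
    rw [hN, Subgroup.mem_normalizer_iff]
    refine fun x => ⟨fun hx => S.conj_mem_P (Or.inr h3) hx, fun hx => ?_⟩
    have := S.conj_mem_P (Or.inr h3) hx
    rw [show S.s * (S.s * x * S.s⁻¹) * S.s⁻¹ = (S.s * S.s) * x * (S.s * S.s)⁻¹ by group, h1] at this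
    simpa using this
  -- three cosets of the centraliser
  have h3c : 3 * 54 ≤ Nat.card N := by
    set C := Subgroup.centralizer ({S.u} : Set G)
    have hi := (C.subgroupOf N).index_mul_card
    rw [Nat.card_congr (Subgroup.subgroupOfEquivOfLe hCN).toEquiv, S.card_cent_u] at hi
    rw [← hi]
    refine Nat.mul_le_mul_right _ ?_
    let f : Fin 3 → ↥N ⧸ C.subgroupOf N := fun i =>
      QuotientGroup.mk (![(1 : N), ⟨S.s, hsN⟩, ⟨g, hgN⟩] i)
    have hf : Function.Injective f := by
      intro i j hij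
      have key : (![(1 : N), ⟨S.s, hsN⟩, ⟨g, hgN⟩] i : G) * S.u * (![(1 : N), ⟨S.s, hsN⟩, ⟨g, hgN⟩] i : G)⁻¹ =
          (![(1 : N), ⟨S.s, hsN⟩, ⟨g, hgN⟩] j : G) * S.u * (![(1 : N), ⟨S.s, hsN⟩, ⟨g, hgN⟩] j : G)⁻¹ := by
        have h := QuotientGroup.eq.1 hij
        rw [Subgroup.mem_subgroupOf, Subgroup.mem_centralizer_singleton_iff] at h
        push_cast at h
        generalize (![(1 : N), ⟨S.s, hsN⟩, ⟨g, hgN⟩] i : G) = a at h ⊢
        generalize (![(1 : N), ⟨S.s, hsN⟩, ⟨g, hgN⟩] j : G) = b at h ⊢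
        calc a * S.u * a⁻¹ = a * (S.u * (a⁻¹ * b)) * b⁻¹ := by group
          _ = a * ((a⁻¹ * b) * S.u) * b⁻¹ := by rw [h]
          _ = _ := by group
      have hvne : v ≠ S.u ∧ v ≠ S.u⁻¹ :=
        ⟨fun e => hvu (e ▸ Subgroup.mem_zpowers _), fun e => hvu (e ▸ Subgroup.inv_mem _ (Subgroup.mem_zpowers _))⟩
      fin_cases i <;> fin_cases j <;> first
        | rfl
        | (exfalso; simp [S.flip_s.2.2, hg] at key; first
            | exact S.u_ne_inv key
            | exact S.u_ne_inv key.symm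
            | exact hvne.1 key
            | exact hvne.1 key.symm
            | exact hvne.2 key
            | exact hvne.2 key.symm)
    have := Nat.card_le_card_of_injective f hf
    simpa [Subgroup.index] using this
  have key : ∀ n ∈ Nat.divisors 5616, n % 3 = 1 → 3 * 54 * n ≤ 5616 → 27 * n ∣ 5616 → n = 1 ∨ n = 4 ∨ n = 13 ∨ n = 16 := by
    decide +kernel
  have hdiv : 27 * N.index ∣ 5616 := by
    obtain ⟨k, hk⟩ : 27 ∣ Nat.card N := S.card_P ▸ Subgroup.card_dvd_of_le Subgroup.le_normalizer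
    exact ⟨k, by rw [← hmul, hk]; ring⟩
  have h2N : 2 ∣ Nat.card N := by
    have := Subgroup.orderOf_dvd_natCard N (hCN (Subgroup.mem_centralizer_singleton_iff.2 S.comm_ut.symm))
    rwa [S.ht] at this
  rcases key _ (Nat.mem_divisors.2 ⟨⟨_, hmul.symm⟩, by norm_num⟩) hmod (by
      calc 3 * 54 * N.index ≤ Nat.card N * N.index := Nat.mul_le_mul_right _ h3c
        _ = 5616 := by rw [mul_comm, hmul]) hdiv with h | h | h | h
  · have htop : N = ⊤ := Subgroup.index_eq_one.1 h
    have hb : S.P ≠ ⊥ := fun e => by have := S.card_P; rw [e, Subgroup.card_bot] at this; norm_num at this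
    have := S.card_P
    rw [S.not_normal (Subgroup.normalizer_eq_top_iff.1 htop) hb, Subgroup.card_top, S.card] at this
    norm_num at this
  · haveI := Fintype.ofFinite G
    have hinj : Function.Injective (MulAction.toPermHom G (G ⧸ N)) := by
      rw [← MonoidHom.ker_eq_bot_iff, ← Subgroup.normalCore_eq_ker]
      by_contra hne
      have := S.not_normal (Subgroup.normalCore_normal N) hne
      have hle := N.normalCore_le
      rw [this, top_le_iff, ← Subgroup.index_eq_one] at hle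
      omega
    haveI := Fintype.ofFinite (G ⧸ N)
    have := Nat.card_le_card_of_injective _ hinj
    rw [S.card, Nat.card_eq_fintype_card (α := Equiv.Perm (G ⧸ N)), Fintype.card_perm, ← Nat.card_eq_fintype_card,
      ← Subgroup.index_eq_card, h] at this
    norm_num [Nat.factorial] at this
  swap
  · rw [h] at hmul
    omega
  rw [h] at hmul
  have h432 : Nat.card N = 432 := by omega
  obtain ⟨P2, -, hP2c, hP2C⟩ := exists_sylow S.ht S.e
  obtain ⟨T0, hT0⟩ := Sylow.exists_subgroup_card_pow_prime (G := ↥N) 2 (n := 4) (by rw [h432]; norm_num)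
  have hTc : Nat.card (T0.map N.subtype) = 16 := by
    rw [Subgroup.card_map_of_injective Subtype.val_injective, hT0]; norm_num
  let T : Sylow 2 G := Sylow.ofCard (T0.map N.subtype) (by rw [hTc, ← Sylow.card_eq_multiplicity P2, hP2c])
  obtain ⟨k, hk⟩ := MulAction.exists_smul_eq G P2 T
  have htP2 : t ∈ (P2 : Subgroup G) := by
    have hnrm : (P2 : Subgroup G) ≤ Subgroup.normalizer (Subgroup.zpowers t : Set G) := by
      refine hP2C.trans fun x hx => ?_
      have hx' := mem_cent_iff.1 hx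
      rw [Subgroup.mem_normalizer_iff]
      intro y
      constructor
      · rintro ⟨i, rfl⟩
        exact ⟨i, by simp only; rw [((show Commute x t from hx').zpow_right i).eq, mul_inv_cancel_right]⟩
      · rintro ⟨i, hi⟩
        refine ⟨i, ?_⟩
        simp only at hi ⊢
        calc t ^ i = x⁻¹ * (x * t ^ i) := by group
          _ = x⁻¹ * (t ^ i * x) := by rw [((show Commute x t from hx').zpow_right i).eq]
          _ = y := by rw [hi]; group
    have hp : IsPGroup 2 (Subgroup.zpowers t) := IsPGroup.of_card (n := 1) (by rw [Nat.card_zpowers, S.ht]; rfl)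
    have := P2.3 (IsPGroup.to_sup_of_normal_right' P2.2 hp hnrm) le_sup_left
    exact this ▸ Subgroup.mem_sup_right (Subgroup.mem_zpowers t)
  have hT : ∀ x ∈ (P2 : Subgroup G), k * x * k⁻¹ ∈ N := fun x hx => by
    have : k * x * k⁻¹ ∈ ((T : Sylow 2 G) : Subgroup G) := by rw [← hk]; exact ⟨x, hx, rfl⟩
    obtain ⟨y, -, hy⟩ := this
    rw [← hy]; exact y.2
  set c := k * t * k⁻¹ with hc
  have hcN : c ∈ N := hT t htP2
  have hco : orderOf c = 2 := by rw [hc, show k * t * k⁻¹ = MulAut.conj k t from rfl, MulEquiv.orderOf_eq, S.ht]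
  set K : Subgroup G := S.P ⊓ Subgroup.centralizer ({c} : Set G) with hK
  have hKc := S.fixed_le_three hco K inf_le_left fun x hx => Subgroup.mem_centralizer_singleton_iff.1 hx.2
  by_cases hw : ∃ w ∈ K, w ≠ 1
  · obtain ⟨w, hwK, hw1⟩ := hw
    have hw3 : w ^ 3 = 1 := by
      have h' := pow_card_eq_one' (x := (⟨w, hwK⟩ : K))
      obtain ⟨j, hj⟩ := hKc
      have : (⟨w, hwK⟩ : K) ^ 3 = 1 := by rw [hj, pow_mul, h', one_pow]
      simpa using congrArg Subtype.val this
    have hKz : K ≤ Subgroup.zpowers w := by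
      refine le_of_eq (Subgroup.eq_of_le_of_card_ge (Subgroup.zpowers_le.2 hwK) ?_).symm
      rw [Nat.card_zpowers, orderOf_eq_prime hw3 hw1]
      exact Nat.le_of_dvd (by norm_num) hKc
    have hwc := Subgroup.mem_centralizer_singleton_iff.1 hwK.2
    obtain ⟨x, hx⟩ := S.exists_inc (g := k⁻¹ * w * k) (by
      calc k⁻¹ * w * k * t = k⁻¹ * (w * c) * k := by rw [hc]; group
        _ = k⁻¹ * (c * w) * k := by rw [hwc]
        _ = _ := by rw [hc]; group)
    have hx3 : x ^ 3 = 1 := S.inc_injective (by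
      rw [map_pow, hx, map_one, show k⁻¹ * w * k = k⁻¹ * w * k⁻¹⁻¹ by group, conj_pow, hw3]; group)
    have h3 : pw (cod x) 3 = 28 := by rw [← cod_pow, hx3, cod_one]
    have h1 : cod x ≠ 28 := fun e => hw1 (by
      rw [show x = 1 from cod_injective (by rw [e, cod_one]), map_one] at hx
      calc w = k * (k⁻¹ * w * k) * k⁻¹ := by group
        _ = 1 := by rw [← hx]; group)
    have hle := glt_norm_three _ (cod_mem x) h3 h1
    set l := codes.filter fun y => mc (mc y (cod x)) (iv y) == cod x || mc (mc y (cod x)) (iv y) == pw (cod x) 2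
    have hl : l.Nodup := codes_nodup.filter _
    choose y hy using fun p : (P2 : Subgroup G) => S.exists_inc (mem_cent_iff.1 (hP2C p.2))
    have hmem : ∀ p : (P2 : Subgroup G), cod (y p) ∈ l.toFinset := by
      intro p
      rw [List.mem_toFinset]
      refine List.mem_filter.2 ⟨cod_mem _, ?_⟩
      have hq := hT _ p.2
      have hcomm : (p : G) * t = t * p := mem_cent_iff.1 (hP2C p.2)
      have hm : (k * (p : G) * k⁻¹) * w * (k * (p : G) * k⁻¹)⁻¹ ∈ K := by
        refine ⟨(Subgroup.mem_normalizer_iff.1 hq w).1 hwK.1, Subgroup.mem_centralizer_singleton_iff.2 ?_⟩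
        have hcc : (k * (p : G) * k⁻¹) * c = c * (k * (p : G) * k⁻¹) := by
          rw [hc]
          calc k * (p : G) * k⁻¹ * (k * t * k⁻¹) = k * ((p : G) * t) * k⁻¹ := by group
            _ = k * (t * (p : G)) * k⁻¹ := by rw [hcomm]
            _ = _ := by group
        generalize k * (p : G) * k⁻¹ = q at hcc ⊢
        calc q * w * q⁻¹ * c = q * w * (q⁻¹ * c) := by group
          _ = q * w * (c * q⁻¹) := by rw [((show Commute q c from hcc).inv_left).eq]
          _ = q * (w * c) * q⁻¹ := by group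
          _ = q * (c * w) * q⁻¹ := by rw [hwc]
          _ = (q * c) * w * q⁻¹ := by group
          _ = (c * q) * w * q⁻¹ := by rw [hcc]
          _ = _ := by group
      have e0 : S.inc (y p * x * (y p)⁻¹) = k⁻¹ * ((k * (p : G) * k⁻¹) * w * (k * (p : G) * k⁻¹)⁻¹) * k := by
        rw [map_mul, map_mul, map_inv, hx, hy]; group
      rcases mem_zpowers_three hw3 (hKz hm) with e | e | e
      · exfalso
        apply hw1
        calc w = (k * (p : G) * k⁻¹)⁻¹ * ((k * (p : G) * k⁻¹) * w * (k * (p : G) * k⁻¹)⁻¹) * (k * (p : G) * k⁻¹) := by group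
          _ = 1 := by rw [e]; group
      · rw [e, ← hx] at e0
        simp [← cod_inv, ← cod_mul, S.inc_injective e0]
      · rw [e, show k⁻¹ * w⁻¹ * k = (k⁻¹ * w * k)⁻¹ by group, ← hx, ← map_inv] at e0
        have e2 : x⁻¹ = x ^ 2 := inv_eq_of_mul_eq_one_right (by rw [← pow_succ', hx3])
        rw [e2] at e0
        simp [← cod_inv, ← cod_mul, ← cod_pow, S.inc_injective e0]
    have hcardle : Nat.card (P2 : Subgroup G) ≤ Nat.card l.toFinset :=
      Nat.card_le_card_of_injective (fun p => ⟨cod (y p), hmem p⟩) fun p q e => by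
        have := cod_injective (congrArg Subtype.val e)
        exact Subtype.ext (by rw [← hy p, ← hy q, this])
    rw [hP2c, Nat.card_eq_finsetCard, List.toFinset_card_of_nodup hl] at hcardle
    omega
  · push Not at hw
    have hci : c⁻¹ = c := inv_eq_of_mul_eq_one_left (orderOf_two_iff.1 hco).1
    let φ : S.P →* S.P :=
      { toFun := fun x => ⟨c * x * c⁻¹, (Subgroup.mem_normalizer_iff.1 hcN x).1 x.2⟩
        map_one' := Subtype.ext (by simp)
        map_mul' := fun x y => Subtype.ext (by simp [mul_assoc]) }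
    have hfree : MonoidHom.FixedPointFree φ := fun x hx => by
      refine Subtype.ext (hw _ ⟨x.2, Subgroup.mem_centralizer_singleton_iff.2 ?_⟩)
      have e : c * (x : G) * c⁻¹ = x := congrArg Subtype.val hx
      calc (x : G) * c = c * (x : G) * c⁻¹ * c := by rw [e]
        _ = c * x := by group
    have hinv : Function.Involutive φ := fun x => Subtype.ext (by
      show c * (c * (x : G) * c⁻¹) * c⁻¹ = x
      calc c * (c * (x : G) * c⁻¹) * c⁻¹ = (c * c) * x * (c * c)⁻¹ := by group
        _ = x := by rw [(orderOf_two_iff.1 hco).1]; simp)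
    have hall : ∀ x ∈ S.P, c * x * c⁻¹ = x⁻¹ := fun x hx =>
      congrArg Subtype.val (congrFun (MonoidHom.FixedPointFree.coe_eq_inv_of_involutive hfree hinv) ⟨x, hx⟩)
    -- some flip agrees with `c` modulo `P`
    obtain ⟨r, hr, hcr⟩ : ∃ r, S.IsFlip r ∧ c * r ∈ S.P := by
      have hcu := hall _ S.u_mem
      rcases S.cent_cases (S.flip_cases hcu S.flip_s) with h' | h'
      · exact ⟨S.s, S.flip_s, h'⟩
      · refine ⟨t * S.s, S.flip_mul S.flip_s, ?_⟩
        rw [← S.s_spec.2.2.1]; rwa [mul_assoc] at h'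
    obtain ⟨w, hwP, hw1, hw3, hwr, -, -, -⟩ := S.exists_fixed hr
    have e : c * w * c⁻¹ = w := by
      have hrw : r * w * r⁻¹ = w := by rw [← hwr, mul_inv_cancel_right]
      calc c * w * c⁻¹ = (c * r) * (r⁻¹ * w * r) * (c * r)⁻¹ := by group
        _ = (c * r) * w * (c * r)⁻¹ := by
          congr 2
          calc r⁻¹ * w * r = r⁻¹ * (r * w * r⁻¹) * r := by rw [hrw]
            _ = w := by group
        _ = w := by rw [hab _ hcr _ hwP]; group
    rw [hall w hwP] at e
    have h2 : w * w = 1 := by rw [inv_eq_iff_mul_eq_one] at e; exact e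
    exact hw1 (by rw [← hw3, pow_succ, pow_two, h2, one_mul])

theorem center_P {x : G} (hx : x ∈ S.P) (hc : ∀ y ∈ S.P, y * x = x * y) : x ∈ Subgroup.zpowers S.u := by
  classical
  haveI : Fact (Nat.Prime 3) := ⟨Nat.prime_three⟩
  by_contra hne
  apply S.nonabelian
  have hle : 9 ≤ Nat.card (Subgroup.center S.P) := by
    have hxc : (⟨x, hx⟩ : S.P) ∈ Subgroup.center S.P := Subgroup.mem_center_iff.2 fun y => Subtype.ext (hc y y.2)
    have huc : (⟨S.u, S.u_mem⟩ : S.P) ∈ Subgroup.center S.P :=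
      Subgroup.mem_center_iff.2 fun y => Subtype.ext (S.P_comm y.2)
    have hd : Nat.card (Subgroup.center S.P) ∣ 3 ^ 3 := by
      rw [show (3 : ℕ) ^ 3 = 27 from rfl, ← S.card_P]; exact Subgroup.card_subgroup_dvd_card _
    obtain ⟨k, hk, hk'⟩ := (Nat.dvd_prime_pow Nat.prime_three).1 hd
    rw [hk']
    by_contra hlt
    have hk2 : k < 2 := by
      by_contra hh
      push Not at hh
      have := Nat.pow_le_pow_right (by norm_num : 1 ≤ 3) hh
      omega
    have heq : Subgroup.zpowers (⟨S.u, S.u_mem⟩ : S.P) = Subgroup.center S.P := by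
      refine Subgroup.eq_of_le_of_card_ge (Subgroup.zpowers_le.2 huc) ?_
      rw [hk', Nat.card_zpowers, Subgroup.orderOf_mk, S.orderOf_u]
      interval_cases k <;> norm_num
    rw [← heq] at hxc
    obtain ⟨i, hi⟩ := Subgroup.mem_zpowers_iff.1 hxc
    exact hne (Subgroup.mem_zpowers_iff.2 ⟨i, by simpa using congrArg Subtype.val hi⟩)
  haveI : IsCyclic (S.P ⧸ Subgroup.center S.P) := by
    have hd : Nat.card (S.P ⧸ Subgroup.center S.P) ∣ 3 := by
      have hi := (Subgroup.center S.P).index_mul_card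
      rw [S.card_P, Subgroup.index_eq_card] at hi
      have hd : Nat.card (S.P ⧸ Subgroup.center S.P) ∣ 3 ^ 3 := ⟨_, hi.symm.trans rfl⟩
      obtain ⟨k, hk, hk'⟩ := (Nat.dvd_prime_pow Nat.prime_three).1 hd
      rw [hk'] at hi ⊢
      interval_cases k <;> norm_num at hi ⊢
      all_goals first | nlinarith | (rw [hi, Subgroup.card_bot] at hle; omega)
    rcases (Nat.dvd_prime Nat.prime_three).1 hd with h | h
    · haveI : Subsingleton (S.P ⧸ Subgroup.center S.P) := Finite.card_le_one_iff_subsingleton.1 h.le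
      infer_instance
    · exact isCyclic_of_prime_card h
  intro a ha b hb
  exact congrArg Subtype.val (commutative_of_cyclic_center_quotient (QuotientGroup.mk' (Subgroup.center S.P))
    (by rw [QuotientGroup.ker_mk']) ⟨a, ha⟩ ⟨b, hb⟩)

end Hyp

end Cfsg.Agent.Lead.GLTwoThree
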