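import Cfsg.Agent.Lib.Lead.GLTwoThree.Table

/-!
# Five generalised characters of GL(2,3) living on the roots of the central involution
-/

set_option autoImplicit false
set_option maxRecDepth 20000

namespace Cfsg.Agent.Lead.GLTwoThree

open Cfsg Module Cfsg.Agent.Char
open scoped ComplexConjugate

/-- √-2 -/
noncomputable def kk : ℂ := (Real.sqrt 2 : ℂ) * Complex.I

/-- a primitive eighth root of unity -/
noncomputable def zz : ℂ := (Real.sqrt 2 : ℂ) / 2 * (1 + Complex.I)

theorem sqrt_two_sq : (Real.sqrt 2 : ℂ) * (Real.sqrt 2 : ℂ) = 2 := by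
  rw [← Complex.ofReal_mul, Real.mul_self_sqrt (by norm_num)]; simp

theorem kk_sq : kk * kk = -2 := by
  rw [kk]; linear_combination (Complex.I * Complex.I) * sqrt_two_sq + 2 * Complex.I_mul_I

theorem conj_kk : conj kk = -kk := by simp [kk]

theorem zz_two : zz ^ 2 = Complex.I := by
  rw [zz]
  linear_combination ((1 + Complex.I) ^ 2 / 4) * sqrt_two_sq + (1 / 2 : ℂ) * Complex.I_mul_I

theorem zz_four : zz ^ 4 = -1 := by
  rw [show (4 : ℕ) = 2 * 2 from rfl, pow_mul, zz_two, pow_two, Complex.I_mul_I]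

theorem zz_sum : zz + zz ^ 3 = kk := by
  rw [show zz ^ 3 = zz * zz ^ 2 by ring, zz_two, zz, kk]
  linear_combination ((Real.sqrt 2 : ℂ) / 2) * Complex.I_mul_I

theorem zz_eight : zz ^ 8 = 1 := by
  rw [show (8 : ℕ) = 4 * 2 from rfl, pow_mul, zz_four]; norm_num

def cEight : List ℕ := [28, 13, 41, 51, 56, 26, 79, 66]
def cBorel : List ℕ := [28, 29, 37, 38, 46, 47, 55, 56, 64, 65, 73, 74]
def cSD : List ℕ := [13, 15, 21, 26, 28, 32, 38, 41, 51, 53, 56, 61, 66, 67, 73, 79]

def tabLam : List (List ℕ) := [[48, 0, 0, 0, 0, 0, 0, 0], [0, 0, 0, 0, 48, 0, 0, 0], [0, 0, 8, 0, 0, 0, 8, 0],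
  [0, 0, 0, 0, 0, 0, 0, 0], [0, 0, 0, 0, 0, 0, 0, 0], [0, 0, 0, 0, 0, 0, 0, 0],
  [0, 8, 0, 8, 0, 0, 0, 0], [0, 0, 0, 0, 0, 8, 0, 8]]

def tabLamc : List (List ℕ) := [[48, 0, 0, 0, 0, 0, 0, 0], [0, 0, 0, 0, 48, 0, 0, 0], [0, 0, 8, 0, 0, 0, 8, 0],
  [0, 0, 0, 0, 0, 0, 0, 0], [0, 0, 0, 0, 0, 0, 0, 0], [0, 0, 0, 0, 0, 0, 0, 0],
  [0, 0, 0, 0, 0, 8, 0, 8], [0, 8, 0, 8, 0, 0, 0, 0]]

def tabBOne : List (List ℕ) := [[48], [48], [0], [12], [12], [24], [0], [0]]
def tabBDet : List (List ℕ) := [[48, 0], [48, 0], [0, 0], [12, 0], [12, 0], [0, 24], [0, 0], [0, 0]]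
def tabBChi : List (List ℕ) := [[48, 0], [0, 48], [0, 0], [12, 0], [0, 12], [12, 12], [0, 0], [0, 0]]
def tabSD : List (List ℕ) := [[48], [48], [48], [0], [0], [16], [16], [16]]
def tabDet : List (List ℕ) := [[48, 0], [48, 0], [48, 0], [48, 0], [48, 0], [0, 48], [0, 48], [0, 48]]

def kDet (x : ℕ) : ℕ := if dt x = 1 then 0 else 1
def kChi (x : ℕ) : ℕ := if x / 27 = 1 then 0 else 1

theorem char_of_tab {Hl : List ℕ} {k : ℕ → ℕ} {n : ℕ} (hn : 0 < n) {ζ : ℂ} (hζ : ζ ^ n = 1)
    (h1 : (28 ∈ Hl ∧ k 28 % n = 0) ∧ Hl.Nodup ∧ (∀ x ∈ Hl, x ∈ codes ∧ iv x ∈ Hl) ∧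
      ∀ x ∈ Hl, ∀ y ∈ Hl, mc x y ∈ Hl ∧ k (mc x y) % n = (k x + k y) % n)
    (T : List (List ℕ)) (hT : ∀ x ∈ codes, expoTab Hl k n x = T.getD (cls x).val [])
    (v : Fin 8 → ℂ) (hv : ∀ j : Fin 8, (Hl.length : ℂ)⁻¹ *
      ∑ m ∈ Finset.range n, ((((T.getD j.val []).getD m 0 : ℕ)) : ℂ) * ζ ^ m = v j) :
    IsCharacter GLT (fun g => v (cls (cod g))) := by
  have := ind_char Hl k n hn hζ h1
  refine (congrArg (IsCharacter GLT) (funext fun g => ?_)).mp this
  rw [hT _ (cod_mem g), hv]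

theorem char_lam : IsCharacter GLT (fun g => (![6, -6, 0, 0, 0, 0, kk, -kk] : Fin 8 → ℂ) (cls (cod g))) := by
  refine char_of_tab (Hl := cEight) (k := fun x => cEight.idxOf x) (n := 8) (by norm_num) zz_eight
    (by decide +kernel) tabLam (by decide +kernel) _ fun j => ?_
  fin_cases j <;>
    simp [tabLam, cEight, Finset.sum_range_succ, zz_four, show zz ^ 5 = -zz by linear_combination zz * zz_four,
      show zz ^ 6 = -zz ^ 2 by linear_combination zz ^ 2 * zz_four,
      show zz ^ 7 = -zz ^ 3 by linear_combination zz ^ 3 * zz_four, ← zz_sum] <;> ring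

theorem char_lamc : IsCharacter GLT (fun g => (![6, -6, 0, 0, 0, 0, -kk, kk] : Fin 8 → ℂ) (cls (cod g))) := by
  refine char_of_tab (Hl := cEight) (k := fun x => 7 * cEight.idxOf x) (n := 8) (by norm_num) zz_eight
    (by decide +kernel) tabLamc (by decide +kernel) _ fun j => ?_
  fin_cases j <;>
    simp [tabLamc, cEight, Finset.sum_range_succ, zz_four, show zz ^ 5 = -zz by linear_combination zz * zz_four,
      show zz ^ 6 = -zz ^ 2 by linear_combination zz ^ 2 * zz_four,
      show zz ^ 7 = -zz ^ 3 by linear_combination zz ^ 3 * zz_four, ← zz_sum] <;> ring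

theorem char_bone : IsCharacter GLT (fun g => (![4, 4, 0, 1, 1, 2, 0, 0] : Fin 8 → ℂ) (cls (cod g))) := by
  refine char_of_tab (Hl := cBorel) (k := fun _ => 0) (n := 1) (by norm_num) (one_pow 1)
    (by decide +kernel) tabBOne (by decide +kernel) _ fun j => ?_
  fin_cases j <;> simp [tabBOne, cBorel] <;> norm_num

theorem char_bdet : IsCharacter GLT (fun g => (![4, 4, 0, 1, 1, -2, 0, 0] : Fin 8 → ℂ) (cls (cod g))) := by
  refine char_of_tab (Hl := cBorel) (k := kDet) (n := 2) (by norm_num) (ζ := -1) (by norm_num)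
    (by decide +kernel) tabBDet (by decide +kernel) _ fun j => ?_
  fin_cases j <;> simp [tabBDet, cBorel, Finset.sum_range_succ] <;> norm_num

theorem char_bchi : IsCharacter GLT (fun g => (![4, -4, 0, 1, -1, 0, 0, 0] : Fin 8 → ℂ) (cls (cod g))) := by
  refine char_of_tab (Hl := cBorel) (k := kChi) (n := 2) (by norm_num) (ζ := -1) (by norm_num)
    (by decide +kernel) tabBChi (by decide +kernel) _ fun j => ?_
  fin_cases j <;> simp [tabBChi, cBorel, Finset.sum_range_succ] <;> norm_num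

theorem char_sd : IsCharacter GLT (fun g => (![3, 3, 3, 0, 0, 1, 1, 1] : Fin 8 → ℂ) (cls (cod g))) := by
  refine char_of_tab (Hl := cSD) (k := fun _ => 0) (n := 1) (by norm_num) (one_pow 1)
    (by decide +kernel) tabSD (by decide +kernel) _ fun j => ?_
  fin_cases j <;> simp [tabSD, cSD] <;> norm_num

theorem char_det : IsCharacter GLT (fun g => (![1, 1, 1, 1, 1, -1, -1, -1] : Fin 8 → ℂ) (cls (cod g))) := by
  refine char_of_tab (Hl := codes) (k := kDet) (n := 2) (by norm_num) (ζ := -1) (by norm_num)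
    (by decide +kernel) tabDet (by decide +kernel) _ fun j => ?_
  have hl : codes.length = 48 := by decide +kernel
  fin_cases j <;> simp [tabDet, hl, Finset.sum_range_succ]

/-- the values -/
noncomputable def V : Fin 5 → Fin 8 → ℂ :=
  ![![0, 0, 0, 0, 0, 0, 2 * kk, -2 * kk], ![0, 4, 2, 0, -2, 0, -kk, kk],
    ![0, -4, 2, 0, 2, 0, 2 + kk, 2 - kk], ![0, -4, 2, 0, 2, 0, -2 + kk, -2 - kk],
    ![0, -12, 2, 0, 0, 0, kk, -kk]]

noncomputable def fi (i : Fin 5) (g : GLT) : ℂ := V i (cls (cod g))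

theorem gen_fi (i : Fin 5) : IsGeneralizedCharacter GLT (fi i) := by
  have h1 : IsCharacter GLT (fun _ => (1 : ℂ)) := isCharacter_one
  fin_cases i
  · refine ⟨_, _, char_lam, char_lamc, funext fun g => ?_⟩
    simp only [fi, Pi.sub_apply]; generalize cls (cod g) = j
    fin_cases j <;> simp [V] <;> ring
  · refine ⟨_, _, isCharacter_add char_sd char_bchi, isCharacter_add h1 char_lam, funext fun g => ?_⟩
    simp only [fi, Pi.sub_apply, Pi.add_apply]; generalize cls (cod g) = j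
    fin_cases j <;> simp [V] <;> ring
  · refine ⟨_, _, isCharacter_add (isCharacter_add h1 h1) char_lam, isCharacter_add char_bchi char_bone,
      funext fun g => ?_⟩
    simp only [fi, Pi.sub_apply, Pi.add_apply]; generalize cls (cod g) = j
    fin_cases j <;> simp [V] <;> ring
  · refine ⟨_, _, isCharacter_add (isCharacter_add char_det char_det) char_lam,
      isCharacter_add char_bchi char_bdet, funext fun g => ?_⟩
    simp only [fi, Pi.sub_apply, Pi.add_apply]; generalize cls (cod g) = j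
    fin_cases j <;> simp [V] <;> ring
  · refine ⟨_, _, isCharacter_add (isCharacter_add h1 char_det) char_lam,
      isCharacter_add char_bone char_bdet, funext fun g => ?_⟩
    simp only [fi, Pi.sub_apply, Pi.add_apply]; generalize cls (cod g) = j
    fin_cases j <;> simp [V] <;> ring

theorem cls_conj : ∀ x ∈ codes, ∀ g ∈ codes, cls (mc (mc x g) (iv x)) = cls g := by decide +kernel

theorem classFun_fi (i : Fin 5) : IsClassFunction GLT (fi i) := fun g h => by
  simp only [fi]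
  rw [cod_mul, cod_mul, cod_inv, cls_conj _ (cod_mem h) _ (cod_mem g)]

/-- the roots of the central involution -/
def isRoot (x : ℕ) : Bool := cls x ∈ ([1, 2, 4, 6, 7] : List (Fin 8))

theorem fi_eq_zero (i : Fin 5) {g : GLT} (h : isRoot (cod g) = false) : fi i g = 0 := by
  revert h
  simp only [fi, isRoot]
  generalize cls (cod g) = j
  fin_cases j <;> fin_cases i <;> simp [V]

theorem sum_grouped [Fintype GLT] (F : Fin 8 → ℂ) :
    ∑ g : GLT, F (cls (cod g)) =
      F 0 + F 1 + 6 * F 2 + 8 * F 3 + 8 * F 4 + 12 * F 5 + 6 * F 6 + 6 * F 7 := by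
  have key : ∀ l : List (Fin 8), (l.map F).sum = ∑ j, ((l.count j : ℕ) : ℂ) * F j := by
    intro l
    induction l with
    | nil => simp
    | cons a l ih => simp [ih, List.count_cons, add_mul, Finset.sum_add_distrib, add_comm]
  have hc : ∀ j : Fin 8, (codes.map cls).count j = [1, 1, 6, 8, 8, 12, 6, 6].getD j.val 0 := by decide +kernel
  rw [sum_cod (fun x => F (cls x)), show (fun x => F (cls x)) = F ∘ cls from rfl, ← List.map_map, key]
  simp [Fin.sum_univ_eight, hc]

/-- the Gram matrix -/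
def gram : Fin 5 → Fin 5 → ℤ :=
  ![![2, -1, 1, 1, 1], ![-1, 2, -1, -1, -1], ![1, -1, 3, 1, 2], ![1, -1, 1, 3, 2], ![1, -1, 2, 2, 4]]

theorem inner_fi [Fintype GLT] (i j : Fin 5) : classInner (fi i) (fi j) = (gram i j : ℂ) := by
  rw [classInner, card_glt]
  simp only [fi]
  rw [sum_grouped (fun k => V i k * conj (V j k))]
  have h2 : kk ^ 2 = -2 := by rw [pow_two, kk_sq]
  fin_cases i <;> fin_cases j <;> simp [V, gram, conj_kk, Complex.conj_ofNat] <;> ring_nf <;>
    norm_num [h2]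

theorem inner_fi_one [Fintype GLT] (i : Fin 5) :
    classInner (fi i) (fun _ => 1) = ((![0, 0, 1, 0, 0] : Fin 5 → ℤ) i : ℂ) := by
  rw [classInner, card_glt]
  simp only [fi, map_one, mul_one]
  rw [sum_grouped (fun k => V i k)]
  fin_cases i <;> simp [V] <;> ring

theorem indicator_z (g : GLT) :
    2 * fi 0 g + 2 * fi 1 g + fi 2 g + fi 3 g - 4 * fi 4 g = if cod g = 56 then 48 else 0 := by
  have hz : ∀ x ∈ codes, (x = 56 ↔ cls x = 1) := by decide +kernel
  simp only [fi, hz _ (cod_mem g)]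
  generalize cls (cod g) = j
  fin_cases j <;> simp [V] <;> ring

/-- products of two involutions equal to a given root -/
def invPairs (x : ℕ) : ℕ :=
  (codes.filter fun u => u != 28 && mc u u == 28 && mc u x != 28 && mc (mc u x) (mc u x) == 28).length

theorem invPairs_eq : ∀ x ∈ codes, isRoot x = true →
    invPairs x = [0, 12, 4, 0, 6, 0, 0, 0].getD (cls x).val 0 := by decide +kernel

theorem weighted_sum [Fintype GLT] (i : Fin 5) :
    ∑ g : GLT, fi i g * (invPairs (cod g) : ℂ) = ((![0, 0, 96, 96, -96] : Fin 5 → ℤ) i : ℂ) := by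
  have e : ∀ g : GLT, fi i g * (invPairs (cod g) : ℂ) =
      V i (cls (cod g)) * (([0, 12, 4, 0, 6, 0, 0, 0] : List ℕ).getD (cls (cod g)).val 0 : ℂ) := by
    intro g
    by_cases h : isRoot (cod g) = true
    · rw [invPairs_eq _ (cod_mem g) h]; rfl
    · have h0 := fi_eq_zero i (Bool.eq_false_iff.2 h)
      rw [h0, zero_mul]
      simp only [fi] at h0
      rw [h0, zero_mul]
  rw [Finset.sum_congr rfl fun g _ => e g,
    sum_grouped (fun k => V i k * (([0, 12, 4, 0, 6, 0, 0, 0] : List ℕ).getD k.val 0 : ℂ))]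
  fin_cases i <;> simp [V] <;> ring

end Cfsg.Agent.Lead.GLTwoThree
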